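import Mathlib.RepresentationTheory.Character
import Mathlib.Analysis.Complex.Basic
import Mathlib

/-!
Elementary facts on character values of complex representations of finite groups:
eigenvalues are roots of unity, the character value is the sum of the roots of the characteristic
polynomial, integrality, the norm bound and its equality cases.
-/

set_option autoImplicit false

namespace Cfsg.Agent.Characters.Values

open Module

/-- An endomorphism of finite order: every root of the characteristic polynomial is a root of unity. -/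
theorem pow_eq_one_of_mem_roots {V : Type*} [AddCommGroup V] [Module ℂ V] [FiniteDimensional ℂ V]
    {f : Module.End ℂ V} {n : ℕ} (hf : f ^ n = 1) {z : ℂ} (hz : z ∈ f.charpoly.roots) :
    z ^ n = 1 := by
  have hroot : f.charpoly.IsRoot z := (Polynomial.mem_roots'.1 hz).2
  have hev : f.HasEigenvalue z := (Module.End.hasEigenvalue_iff_isRoot_charpoly f z).2 hroot
  have h1 := hev.pow n
  rw [hf] at h1
  obtain ⟨v, hv⟩ := h1.exists_hasEigenvector
  have h2 := hv.apply_eq_smul
  have h3 : v = z ^ n • v := by simpa using h2
  have h4 : (z ^ n - 1) • v = 0 := by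
    rw [sub_smul, one_smul, ← h3, sub_self]
  rcases smul_eq_zero.1 h4 with h | h
  · exact sub_eq_zero.1 h
  · exact absurd h hv.2

/-- The trace is the sum of the roots of the characteristic polynomial. -/
theorem trace_eq_sum_roots {V : Type*} [AddCommGroup V] [Module ℂ V] [FiniteDimensional ℂ V]
    (f : Module.End ℂ V) : LinearMap.trace ℂ V f = f.charpoly.roots.sum :=
  Module.End.trace_eq_sum_roots_charpoly_of_splits (IsAlgClosed.splits _)

/-- The number of roots of the characteristic polynomial is the dimension. -/
theorem card_roots_charpoly {V : Type*} [AddCommGroup V] [Module ℂ V] [FiniteDimensional ℂ V]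
    (f : Module.End ℂ V) : Multiset.card f.charpoly.roots = Module.finrank ℂ V := by
  rw [← LinearMap.charpoly_natDegree f]
  exact (Polynomial.splits_iff_card_roots.1 (IsAlgClosed.splits _))

/-- An endomorphism of finite order that has just one eigenvalue is a scalar. -/
theorem eq_smul_of_roots {V : Type*} [AddCommGroup V] [Module ℂ V] [FiniteDimensional ℂ V]
    {f : Module.End ℂ V} {n : ℕ} (hn : n ≠ 0) (hf : f ^ n = 1) {w : ℂ}
    (hw : ∀ z ∈ f.charpoly.roots, z = w) : f = w • (LinearMap.id : V →ₗ[ℂ] V) := by
  classical
  -- `minpoly f` divides `X ^ n - 1`, so it is squarefree, and all its roots are `w`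
  have hdvd : minpoly ℂ f ∣ (Polynomial.X ^ n - 1 : Polynomial ℂ) :=
    minpoly.dvd _ _ (by simp [hf])
  have hsep : (Polynomial.X ^ n - 1 : Polynomial ℂ).Separable := by
    have h := Polynomial.separable_X_pow_sub_C (1 : ℂ) (n := n) (by exact_mod_cast hn) one_ne_zero
    simpa using h
  have hmsep : (minpoly ℂ f).Separable := hsep.of_dvd hdvd
  have hnodup : (minpoly ℂ f).roots.Nodup := Polynomial.nodup_roots hmsep
  have hint : IsIntegral ℂ f := Algebra.IsIntegral.isIntegral f
  have hmin0 : minpoly ℂ f ≠ 0 := minpoly.ne_zero hint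
  have hroots : ∀ z ∈ (minpoly ℂ f).roots, z = w := by
    intro z hz
    apply hw
    have h1 : (minpoly ℂ f).IsRoot z := (Polynomial.mem_roots'.1 hz).2
    rw [Polynomial.mem_roots (LinearMap.charpoly_monic f).ne_zero]
    exact h1.dvd (LinearMap.minpoly_dvd_charpoly f)
  have hsplit : (minpoly ℂ f).Splits := IsAlgClosed.splits _
  have heq := hsplit.eq_prod_roots_of_monic (minpoly.monic hint)
  have haev : Polynomial.aeval f (Polynomial.X - Polynomial.C w : Polynomial ℂ) = 0 := by
    have hle : (minpoly ℂ f).roots ≤ {w} := by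
      rw [Multiset.le_iff_subset hnodup]
      intro z hz
      simp [hroots z hz]
    have hd : minpoly ℂ f ∣ (Polynomial.X - Polynomial.C w : Polynomial ℂ) := by
      rw [heq]
      have h5 := Multiset.prod_dvd_prod_of_le
        (Multiset.map_le_map (f := fun a : ℂ => Polynomial.X - Polynomial.C a) hle)
      simpa using h5
    obtain ⟨q, hq⟩ := hd
    rw [hq, map_mul, minpoly.aeval, zero_mul]
  have h6 : f - algebraMap ℂ (Module.End ℂ V) w = 0 := by simpa using haev
  rw [sub_eq_zero] at h6
  rw [h6]
  ext v
  simp [Module.algebraMap_end_apply]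

/-- Equality case in the triangle inequality for complex numbers of absolute value one. -/
theorem all_eq_of_norm_sum_eq_card (s : Multiset ℂ) (h1 : ∀ z ∈ s, ‖z‖ = 1)
    (hs : ‖s.sum‖ = Multiset.card s) : ∃ w : ℂ, ∀ z ∈ s, z = w := by
  classical
  rcases Multiset.empty_or_exists_mem s with h0 | ⟨z0, hz0⟩
  · exact ⟨0, by simp [h0]⟩
  have hcard : (0 : ℝ) < Multiset.card s := by
    exact_mod_cast Multiset.card_pos_iff_exists_mem.2 ⟨z0, hz0⟩
  have hS0 : s.sum ≠ 0 := by
    intro h
    rw [h, norm_zero] at hs
    linarith
  set S := s.sum with hS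
  set u : ℂ := (starRingEnd ℂ) S / (‖S‖ : ℂ) with hu
  have hnS : (‖S‖ : ℂ) ≠ 0 := by exact_mod_cast norm_ne_zero_iff.2 hS0
  have hnu : ‖u‖ = 1 := by
    rw [hu, norm_div, RCLike.norm_conj]
    simp [hS0]
  have huS : u * S = ‖S‖ := by
    rw [hu]
    field_simp
    rw [mul_comm, Complex.mul_conj, Complex.normSq_eq_norm_sq]
    push_cast
    ring
  have hre : ∀ z ∈ s, (u * z).re ≤ 1 := by
    intro z hz
    calc (u * z).re ≤ ‖u * z‖ := Complex.re_le_norm _
      _ = 1 := by rw [norm_mul, hnu, h1 z hz, mul_one]
  have hsum : (s.map (fun z => 1 - (u * z).re)).sum = 0 := by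
    have e1 : (s.map (fun z => (u * z).re)).sum = (u * S).re := by
      have e2 : u * S = (s.map (fun z => u * z)).sum := by
        rw [hS, Multiset.sum_map_mul_left, Multiset.map_id']
      have := (Complex.reAddGroupHom).map_multiset_sum (s.map (fun z => u * z))
      rw [e2]
      simpa [Multiset.map_map, Function.comp] using this.symm
    rw [Multiset.sum_map_sub, e1, huS]
    simp [← hs]
  have hall : ∀ z ∈ s, 1 - (u * z).re = 0 := by
    intro z hz
    have hnn : ∀ x ∈ s.map (fun z => 1 - (u * z).re), 0 ≤ x := by
      intro x hx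
      obtain ⟨y, hy, rfl⟩ := Multiset.mem_map.1 hx
      linarith [hre y hy]
    exact Multiset.all_zero_of_le_zero_le_of_sum_eq_zero hnn hsum _ (Multiset.mem_map_of_mem _ hz)
  refine ⟨u⁻¹, fun z hz => ?_⟩
  have hz1 : (u * z).re = 1 := by linarith [hall z hz]
  have hz2 : ‖u * z‖ = 1 := by rw [norm_mul, hnu, h1 z hz, mul_one]
  have hz3 : u * z = 1 := by
    have h3 : (u * z).im = 0 := by
      have := Complex.sq_norm (u * z)
      rw [hz2, Complex.normSq_apply, hz1] at this
      nlinarith
    exact Complex.ext (by simp [hz1]) (by simp [h3])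
  exact eq_inv_of_mul_eq_one_right hz3

variable {G : Type*} [Group G] {V : Type*} [AddCommGroup V] [Module ℂ V]

/-- A representation of a finite group: `ρ g` to the power the group order is one. -/
theorem rep_pow_card (ρ : Representation ℂ G V) (g : G) : (ρ g) ^ (Nat.card G) = 1 := by
  rw [← map_pow, pow_card_eq_one', map_one]

variable [FiniteDimensional ℂ V]

/-- A character value is the sum of the roots of the characteristic polynomial. -/
theorem character_eq_sum_roots (ρ : Representation ℂ G V) (g : G) :
    ρ.character g = (ρ g).charpoly.roots.sum :=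
  trace_eq_sum_roots _

/-- The roots of the characteristic polynomial of `ρ g` are roots of unity. -/
theorem rep_root_pow_card (ρ : Representation ℂ G V) (g : G) {z : ℂ}
    (hz : z ∈ (ρ g).charpoly.roots) : z ^ (Nat.card G) = 1 :=
  pow_eq_one_of_mem_roots (rep_pow_card ρ g) hz

theorem rep_root_pow_orderOf (ρ : Representation ℂ G V) (g : G) {z : ℂ}
    (hz : z ∈ (ρ g).charpoly.roots) : z ^ (orderOf g) = 1 :=
  pow_eq_one_of_mem_roots (by rw [← map_pow, pow_orderOf_eq_one, map_one]) hz

variable [Finite G]

theorem rep_root_norm (ρ : Representation ℂ G V) (g : G) {z : ℂ}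
    (hz : z ∈ (ρ g).charpoly.roots) : ‖z‖ = 1 :=
  Complex.norm_eq_one_of_pow_eq_one (rep_root_pow_card ρ g hz) Nat.card_pos.ne'

/-- Character values are algebraic integers. -/
theorem character_isIntegral (ρ : Representation ℂ G V) (g : G) :
    IsIntegral ℤ (ρ.character g) := by
  rw [character_eq_sum_roots]
  apply IsIntegral.multiset_sum
  intro z hz
  refine IsIntegral.of_pow (n := Nat.card G) Nat.card_pos ?_
  rw [rep_root_pow_card ρ g hz]
  exact isIntegral_one

/-- The norm of a character value is at most the degree. -/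
theorem norm_character_le (ρ : Representation ℂ G V) (g : G) :
    ‖ρ.character g‖ ≤ Module.finrank ℂ V := by
  rw [character_eq_sum_roots, ← card_roots_charpoly (ρ g)]
  refine (norm_multiset_sum_le _).trans ?_
  rw [Multiset.map_congr rfl (fun z hz => rep_root_norm ρ g hz)]
  simp

/-- `|χ(g)| = χ(1)` iff `g` acts as a scalar. -/
theorem norm_character_eq_iff (ρ : Representation ℂ G V) (g : G) :
    ‖ρ.character g‖ = (Module.finrank ℂ V : ℝ) ↔
      ∃ w : ℂ, ρ g = w • (LinearMap.id : V →ₗ[ℂ] V) := by
  constructor
  · intro h
    rw [character_eq_sum_roots, ← card_roots_charpoly (ρ g)] at h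
    obtain ⟨w, hw⟩ := all_eq_of_norm_sum_eq_card _ (fun z hz => rep_root_norm ρ g hz) h
    exact ⟨w, eq_smul_of_roots Nat.card_pos.ne' (rep_pow_card ρ g) hw⟩
  · rintro ⟨w, hw⟩
    have hchar : ρ.character g = w * Module.finrank ℂ V := by
      rw [Representation.character, hw, map_smul]
      simp
    rcases Nat.eq_zero_or_pos (Module.finrank ℂ V) with h0 | hpos
    · rw [hchar, h0]
      simp
    · have hwn : ‖w‖ = 1 := by
        have : Nontrivial V := Module.nontrivial_of_finrank_pos hpos
        obtain ⟨v, hv⟩ := exists_ne (0 : V)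
        have h1 := congrArg (fun f => f v) (rep_pow_card ρ g)
        have h2 : w ^ (Nat.card G) • v = v := by
          have : (ρ g) ^ (Nat.card G) = (w ^ Nat.card G) • (1 : Module.End ℂ V) := by
            rw [hw]
            change (w • (1 : Module.End ℂ V)) ^ (Nat.card G) = _
            rw [smul_pow, one_pow]
          rw [this] at h1
          simpa using h1
        have h3 : w ^ (Nat.card G) = 1 := by
          have h4 : (w ^ (Nat.card G) - 1) • v = 0 := by rw [sub_smul, one_smul, h2, sub_self]
          rcases smul_eq_zero.1 h4 with h | h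
          · exact sub_eq_zero.1 h
          · exact absurd h hv
        exact Complex.norm_eq_one_of_pow_eq_one h3 Nat.card_pos.ne'
      rw [hchar, norm_mul, hwn, one_mul]
      simp

/-- `χ(g) = χ(1)` iff `g` acts trivially. -/
theorem character_eq_finrank_iff (ρ : Representation ℂ G V) (g : G) :
    ρ.character g = (Module.finrank ℂ V : ℂ) ↔ ρ g = LinearMap.id := by
  constructor
  · intro h
    have h1 : ‖ρ.character g‖ = (Module.finrank ℂ V : ℝ) := by rw [h]; simp
    obtain ⟨w, hw⟩ := (norm_character_eq_iff ρ g).1 h1
    have hchar : ρ.character g = w * Module.finrank ℂ V := by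
      rw [Representation.character, hw, map_smul]
      simp
    rw [h] at hchar
    rcases Nat.eq_zero_or_pos (Module.finrank ℂ V) with h0 | hpos
    · have : Subsingleton V := Module.finrank_zero_iff.1 h0
      exact LinearMap.ext fun v => Subsingleton.elim _ _
    · have hne : (Module.finrank ℂ V : ℂ) ≠ 0 := by exact_mod_cast hpos.ne'
      have hw1 : w = 1 := by
        have : (1 : ℂ) * Module.finrank ℂ V = w * Module.finrank ℂ V := by rw [one_mul]; exact hchar
        exact (mul_right_cancel₀ hne this).symm
      rw [hw, hw1, one_smul]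
  · intro h
    rw [Representation.character, h]
    simp

end Cfsg.Agent.Characters.Values
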