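import Mathlib
import Cfsg.Prelude.Def_Characters

/-!
# Schur's lemma for complex irreducible representations: class functions act as scalars

* `exists_smul_of_comm` : an endomorphism commuting with an irreducible representation is a scalar.
* `sum_classFun_smul` : `∑ g, θ g • ρ g` is the scalar `(∑ g, θ g * χ g) / χ 1` for a class function `θ`.
* `sum_conj_smul` : `∑ a, ρ (a * x * a⁻¹)` is the scalar `|G| * χ x / χ 1`.
* `sum_char_conj_mul` : `∑ a, χ (a * x * a⁻¹ * y) = |G| * χ x * χ y / χ 1`.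
* `sum_char_mul_char_inv_mul` : `∑ x, χ x * χ (x⁻¹ * y) = |G| * χ y / χ 1`.
* `sum_char_commutator` : `∑ a, ∑ b, χ (a * b * a⁻¹ * b⁻¹ * y) = |G|² * χ y / χ 1 ^ 2`.
-/

set_option autoImplicit false

namespace Cfsg.Agent.Characters.Central

open Cfsg Representation

section Rep

variable {G V : Type*} [Group G] [AddCommGroup V] [Module ℂ V] [FiniteDimensional ℂ V]
  (ρ : Representation ℂ G V)

/-- Schur: a linear map commuting with an irreducible complex representation is a scalar. -/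
theorem exists_smul_of_comm (h : ρ.IsIrreducible) (f : Module.End ℂ V)
    (hf : ∀ g, f * ρ g = ρ g * f) : ∃ c : ℂ, f = c • (1 : Module.End ℂ V) := by
  obtain ⟨c, hc⟩ := (IsIrreducible.algebraMap_intertwiningMap_bijective_of_isAlgClosed
    (k := ℂ) (ρ := ρ)).2 (⟨f, hf⟩ : IntertwiningMap ρ ρ)
  refine ⟨c, ?_⟩
  exact (congrArg IntertwiningMap.toLinearMap hc).symm

theorem finrank_pos_of_irr (h : ρ.IsIrreducible) : 0 < Module.finrank ℂ V := by
  have := h
  by_contra h0
  have h0 : Module.finrank ℂ V = 0 := by omega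
  have : Subsingleton V := Module.finrank_zero_iff.mp h0
  obtain ⟨a, b, hab⟩ := (inferInstance : Nontrivial (Subrepresentation ρ))
  apply hab
  ext x
  have : x = 0 := Subsingleton.elim _ _
  subst this
  exact ⟨fun _ => b.toSubmodule.zero_mem, fun _ => a.toSubmodule.zero_mem⟩

theorem char_one_ne_zero (h : ρ.IsIrreducible) : ρ.character 1 ≠ 0 := by
  rw [char_one]
  exact_mod_cast (finrank_pos_of_irr ρ h).ne'

/-- A linear map commuting with an irreducible representation is the scalar trace/degree. -/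
theorem eq_trace_smul_of_comm (h : ρ.IsIrreducible) (f : Module.End ℂ V)
    (hf : ∀ g, f * ρ g = ρ g * f) :
    f = (LinearMap.trace ℂ V f / ρ.character 1) • (1 : Module.End ℂ V) := by
  obtain ⟨c, rfl⟩ := exists_smul_of_comm ρ h f hf
  have h1 : ρ.character 1 ≠ 0 := char_one_ne_zero ρ h
  rw [char_one] at h1
  rw [map_smul, LinearMap.trace_one, char_one, smul_eq_mul, mul_div_assoc, div_self h1, mul_one]

variable [Fintype G]

/-- `∑ g, θ g • ρ g` is a scalar for a class function `θ`. -/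
theorem sum_classFun_smul (h : ρ.IsIrreducible) {θ : G → ℂ} (hθ : IsClassFunction G θ) :
    ∑ g, θ g • ρ g =
      ((∑ g, θ g * ρ.character g) / ρ.character 1) • (1 : Module.End ℂ V) := by
  have key : ∀ x : G, (∑ g, θ g • ρ g) * ρ x = ρ x * (∑ g, θ g • ρ g) := by
    intro x
    have e1 : (∑ g, θ g • ρ g) * ρ x = ∑ g, θ g • ρ (g * x) := by
      rw [Finset.sum_mul]
      refine Finset.sum_congr rfl fun g _ => ?_
      rw [smul_mul_assoc, map_mul]
    have e2 : ρ x * (∑ g, θ g • ρ g) = ∑ g, θ g • ρ (x * g) := by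
      rw [Finset.mul_sum]
      refine Finset.sum_congr rfl fun g _ => ?_
      rw [mul_smul_comm, map_mul]
    rw [e1, e2]
    refine Fintype.sum_equiv (MulAut.conj x⁻¹).toEquiv _ _ fun g => ?_
    simp only [MulEquiv.toEquiv_eq_coe, EquivLike.coe_coe, MulAut.conj_apply, inv_inv]
    rw [show x * (x⁻¹ * g * x) = g * x by group]
    congr 1
    have := hθ g x⁻¹
    rw [inv_inv] at this
    exact this.symm
  refine (eq_trace_smul_of_comm ρ h _ key).trans ?_
  congr 2
  rw [map_sum]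
  refine Finset.sum_congr rfl fun g _ => ?_
  rw [map_smul, smul_eq_mul]; rfl

/-- `∑ a, ρ (a x a⁻¹)` is a scalar. -/
theorem sum_conj_smul (h : ρ.IsIrreducible) (x : G) :
    ∑ a, ρ (a * x * a⁻¹) =
      ((Nat.card G : ℂ) * ρ.character x / ρ.character 1) • (1 : Module.End ℂ V) := by
  have key : ∀ y : G, (∑ a, ρ (a * x * a⁻¹)) * ρ y = ρ y * (∑ a, ρ (a * x * a⁻¹)) := by
    intro y
    rw [Finset.sum_mul, Finset.mul_sum]
    refine Fintype.sum_equiv (Equiv.mulLeft y⁻¹) _ _ fun a => ?_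
    rw [← map_mul, ← map_mul]
    simp only [Equiv.coe_mulLeft]
    congr 1
    group
  refine (eq_trace_smul_of_comm ρ h _ key).trans ?_
  congr 2
  rw [map_sum]
  have : ∀ a ∈ Finset.univ, LinearMap.trace ℂ V (ρ (a * x * a⁻¹)) = ρ.character x :=
    fun a _ => char_conj ρ x a
  rw [Finset.sum_congr rfl this, Finset.sum_const, Finset.card_univ, Fintype.card_eq_nat_card,
    nsmul_eq_mul]

theorem sum_char_conj_mul_rep (h : ρ.IsIrreducible) (x y : G) :
    ∑ a, ρ.character (a * x * a⁻¹ * y) =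
      (Nat.card G : ℂ) * ρ.character x * ρ.character y / ρ.character 1 := by
  have : ∑ a, ρ.character (a * x * a⁻¹ * y) =
      LinearMap.trace ℂ V ((∑ a, ρ (a * x * a⁻¹)) * ρ y) := by
    rw [Finset.sum_mul, map_sum]
    refine Finset.sum_congr rfl fun a _ => ?_
    rw [← map_mul]; rfl
  rw [this, sum_conj_smul ρ h, smul_mul_assoc, one_mul, map_smul, smul_eq_mul]
  change _ * ρ.character y = _
  ring

theorem sum_char_mul_char_inv (h : ρ.IsIrreducible) :
    ∑ x, ρ.character x * ρ.character x⁻¹ = (Nat.card G : ℂ) := by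
  classical
  have hne : (Nat.card G : ℂ) ≠ 0 := by exact_mod_cast Nat.card_pos.ne'
  have := h
  have : Invertible (Nat.card G : ℂ) := invertibleOfNonzero hne
  have e := char_orthonormal ρ ρ
  rw [if_pos ⟨Representation.Equiv.refl ρ⟩] at e
  field_simp at e
  exact e

omit [FiniteDimensional ℂ V] [Fintype G] in
theorem isClassFunction_char : IsClassFunction G ρ.character := fun g h => char_conj ρ g h

omit [FiniteDimensional ℂ V] [Fintype G] in
theorem isClassFunction_char_inv : IsClassFunction G (fun g => ρ.character g⁻¹) := by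
  intro g h
  change ρ.character (h * g * h⁻¹)⁻¹ = ρ.character g⁻¹
  rw [← char_conj ρ g⁻¹ h]
  congr 1
  group

theorem sum_char_mul_char_inv_mul_rep (h : ρ.IsIrreducible) (y : G) :
    ∑ x, ρ.character x * ρ.character (x⁻¹ * y) =
      (Nat.card G : ℂ) * ρ.character y / ρ.character 1 := by
  have : ∑ x, ρ.character x * ρ.character (x⁻¹ * y) =
      LinearMap.trace ℂ V ((∑ x, ρ.character x⁻¹ • ρ x) * ρ y) := by
    rw [Finset.sum_mul, map_sum]
    refine Fintype.sum_equiv (Equiv.inv G) _ _ fun a => ?_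
    rw [smul_mul_assoc, map_smul, ← map_mul, smul_eq_mul]
    simp only [Equiv.inv_apply, inv_inv]
    rfl
  rw [this, sum_classFun_smul ρ h (isClassFunction_char_inv ρ), smul_mul_assoc, one_mul, map_smul,
    smul_eq_mul]
  change _ * ρ.character y = _
  have e : ∑ g, ρ.character g⁻¹ * ρ.character g = (Nat.card G : ℂ) := by
    rw [← sum_char_mul_char_inv ρ h]
    exact Finset.sum_congr rfl fun x _ => mul_comm _ _
  rw [e]
  ring

theorem sum_char_commutator_mul_rep (h : ρ.IsIrreducible) (y : G) :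
    ∑ a, ∑ b, ρ.character (a * b * a⁻¹ * b⁻¹ * y) =
      (Nat.card G : ℂ) ^ 2 * ρ.character y / ρ.character 1 ^ 2 := by
  rw [Finset.sum_comm]
  have : ∀ b ∈ Finset.univ, ∑ a, ρ.character (a * b * a⁻¹ * b⁻¹ * y) =
      ((Nat.card G : ℂ) / ρ.character 1) * (ρ.character b * ρ.character (b⁻¹ * y)) := by
    intro b _
    have := sum_char_conj_mul_rep ρ h b (b⁻¹ * y)
    simp only [← mul_assoc] at this ⊢
    rw [this]
    ring
  rw [Finset.sum_congr rfl this, ← Finset.mul_sum, sum_char_mul_char_inv_mul_rep ρ h]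
  ring

end Rep

section Irr

variable {G : Type*} [Group G]

theorem irr_one_ne_zero {χ : G → ℂ} (hχ : IsIrrCharacter G χ) : χ 1 ≠ 0 := by
  obtain ⟨n, ρ, hρ, rfl⟩ := hχ
  exact char_one_ne_zero ρ hρ

variable [Fintype G]

/-- Burnside's formula: `∑ a, χ (a x a⁻¹ y) = |G| χ(x) χ(y) / χ(1)`. -/
theorem sum_char_conj_mul {χ : G → ℂ} (hχ : IsIrrCharacter G χ) (x y : G) :
    ∑ a, χ (a * x * a⁻¹ * y) = (Nat.card G : ℂ) * χ x * χ y / χ 1 := by
  obtain ⟨n, ρ, hρ, rfl⟩ := hχ
  exact sum_char_conj_mul_rep ρ hρ x y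

/-- `∑ x, χ (x) χ (x⁻¹ y) = |G| χ(y) / χ(1)`. -/
theorem sum_char_mul_char_inv_mul {χ : G → ℂ} (hχ : IsIrrCharacter G χ) (y : G) :
    ∑ x, χ x * χ (x⁻¹ * y) = (Nat.card G : ℂ) * χ y / χ 1 := by
  obtain ⟨n, ρ, hρ, rfl⟩ := hχ
  exact sum_char_mul_char_inv_mul_rep ρ hρ y

/-- `∑ a b, χ (a b a⁻¹ b⁻¹ y) = |G|² χ(y) / χ(1)²`. -/
theorem sum_char_commutator_mul {χ : G → ℂ} (hχ : IsIrrCharacter G χ) (y : G) :
    ∑ a, ∑ b, χ (a * b * a⁻¹ * b⁻¹ * y) = (Nat.card G : ℂ) ^ 2 * χ y / χ 1 ^ 2 := by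
  obtain ⟨n, ρ, hρ, rfl⟩ := hχ
  exact sum_char_commutator_mul_rep ρ hρ y

end Irr

end Cfsg.Agent.Characters.Central
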