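import Mathlib
import Cfsg.Prelude.Def_Characters

/-!
# Galois action on character values (part independent of the core library)

* `exists_basis_eigenvectors`: an endomorphism of finite order of a complex space has an eigenbasis.
* `exists_multiset_pow`: `χ (g ^ k)` is the sum of the `k`-th powers of one multiset of roots of
  unity.
* `exists_coprime_pow`, `exists_ringEquiv_pow`: field automorphisms of `ℂ` and powers of roots of
  unity.
* `map_apply`, `exists_pow_of_ringEquiv`, `exists_ringEquiv_of_coprime`: `σ (χ g) = χ (g ^ m)`.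
* `exists_rat_iff`, `exists_int_of_rat`: rational character values.
* `isCharacter_map`, `isCharacter_pow`: Galois conjugates of characters.
-/

set_option autoImplicit false

open scoped ComplexConjugate
open Cfsg Module

namespace Cfsg.Agent.Characters.GaloisBasic

universe u

section eigen

variable {V : Type*} [AddCommGroup V] [Module ℂ V] [FiniteDimensional ℂ V]

/-- An endomorphism of finite order of a finite-dimensional complex space has a basis of
eigenvectors. -/
theorem exists_basis_eigenvectors (f : V →ₗ[ℂ] V) {n : ℕ} (hn : n ≠ 0) (hf : f ^ n = 1) :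
    ∃ (b : Basis (Fin (finrank ℂ V)) ℂ V) (μ : Fin (finrank ℂ V) → ℂ),
      (∀ i, f (b i) = μ i • b i) ∧ ∀ i, μ i ^ n = 1 := by
  classical
  have hss : Module.End.IsSemisimple f := by
    refine Module.End.isSemisimple_of_squarefree_aeval_eq_zero (p := Polynomial.X ^ n - 1) ?_ ?_
    · have : (n : ℂ) ≠ 0 := by exact_mod_cast hn
      have h := Polynomial.separable_X_pow_sub_C (1 : ℂ) this one_ne_zero
      rw [map_one] at h
      exact h.squarefree
    · simp [hf]
  have htop := hss.iSup_eigenspace_eq_top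
  have hint : DirectSum.IsInternal (fun μ : ℂ => Module.End.eigenspace f μ) := by
    rw [DirectSum.isInternal_submodule_iff_iSupIndep_and_iSup_eq_top]
    exact ⟨Module.End.eigenspaces_iSupIndep f, htop⟩
  let b₀ := hint.collectedBasis (fun μ => Module.finBasis ℂ (Module.End.eigenspace f μ))
  have hb₀ : ∀ i, f (b₀ i) = i.1 • b₀ i := fun i =>
    Module.End.mem_eigenspace_iff.1 (hint.collectedBasis_mem _ i)
  have : Fintype (Σ μ : ℂ, Fin (finrank ℂ (Module.End.eigenspace f μ))) :=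
    FiniteDimensional.fintypeBasisIndex b₀
  have e : (Σ μ : ℂ, Fin (finrank ℂ (Module.End.eigenspace f μ))) ≃ Fin (finrank ℂ V) :=
    Fintype.equivFinOfCardEq (Module.finrank_eq_card_basis b₀).symm
  refine ⟨b₀.reindex e, fun i => (e.symm i).1, fun i => ?_, fun i => ?_⟩
  · rw [Basis.reindex_apply]
    exact hb₀ _
  · set j := e.symm i
    have h1 : ∀ k : ℕ, (f ^ k) (b₀ j) = j.1 ^ k • b₀ j := by
      intro k
      induction k with
      | zero => simp
      | succ k ih =>
        rw [pow_succ', Module.End.mul_apply, ih, map_smul, hb₀, smul_smul, pow_succ]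
    have h2 := h1 n
    rw [hf, Module.End.one_apply] at h2
    have h3 : (j.1 ^ n - 1) • b₀ j = 0 := by rw [sub_smul, one_smul, ← h2, sub_self]
    rcases smul_eq_zero.1 h3 with h | h
    · exact sub_eq_zero.1 h
    · exact absurd h (b₀.ne_zero j)

omit [FiniteDimensional ℂ V] in
theorem pow_apply_of_basis {ι : Type*} (f : V →ₗ[ℂ] V) (b : Basis ι ℂ V) (μ : ι → ℂ)
    (h : ∀ i, f (b i) = μ i • b i) (k : ℕ) (i : ι) : (f ^ k) (b i) = μ i ^ k • b i := by
  induction k with
  | zero => simp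
  | succ k ih =>
    rw [pow_succ', Module.End.mul_apply, ih, map_smul, h, smul_smul, pow_succ]

omit [FiniteDimensional ℂ V] in
theorem trace_pow_of_basis {ι : Type*} [Fintype ι] (f : V →ₗ[ℂ] V) (b : Basis ι ℂ V) (μ : ι → ℂ)
    (h : ∀ i, f (b i) = μ i • b i) (k : ℕ) : LinearMap.trace ℂ V (f ^ k) = ∑ i, μ i ^ k := by
  classical
  rw [LinearMap.trace_eq_matrix_trace ℂ b, Matrix.trace]
  refine Finset.sum_congr rfl fun i _ => ?_
  rw [Matrix.diag_apply, LinearMap.toMatrix_apply, pow_apply_of_basis f b μ h]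
  simp

end eigen

section rep

variable {G : Type*} [Group G]
variable {V : Type*} [AddCommGroup V] [Module ℂ V] [FiniteDimensional ℂ V]

/-- The values of a character at the powers of an element of finite order, in terms of the
eigenvalues. -/
theorem exists_fin_pow (ρ : Representation ℂ G V) (g : G) {n : ℕ} (hn : n ≠ 0)
    (hg : g ^ n = 1) :
    ∃ μ : Fin (finrank ℂ V) → ℂ, (∀ i, μ i ^ n = 1) ∧
      ∀ k : ℕ, ρ.character (g ^ k) = ∑ i, μ i ^ k := by
  have hf : (ρ g) ^ n = 1 := by rw [← map_pow, hg, map_one]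
  obtain ⟨b, μ, h1, h2⟩ := exists_basis_eigenvectors (ρ g) hn hf
  refine ⟨μ, h2, fun k => ?_⟩
  have h3 := trace_pow_of_basis (ρ g) b μ h1 k
  rw [← map_pow] at h3
  exact h3

/-- One multiset of eigenvalues computes the character at all powers of `g`. -/
theorem exists_multiset_pow (ρ : Representation ℂ G V) (g : G) {n : ℕ} (hn : n ≠ 0)
    (hg : g ^ n = 1) :
    ∃ s : Multiset ℂ, s.card = finrank ℂ V ∧ (∀ z ∈ s, z ^ n = 1) ∧
      ∀ k : ℕ, ρ.character (g ^ k) = (s.map (· ^ k)).sum := by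
  obtain ⟨μ, h1, h2⟩ := exists_fin_pow ρ g hn hg
  refine ⟨Finset.univ.val.map μ, ?_, ?_, fun k => ?_⟩
  · simp
  · intro z hz
    obtain ⟨i, -, rfl⟩ := Multiset.mem_map.1 hz
    exact h1 i
  · rw [h2, Multiset.map_map]
    rfl

/-- The version for `IsCharacter`. -/
theorem isCharacter_exists_fin_pow {χ : G → ℂ} (hχ : IsCharacter G χ) (g : G) {n : ℕ}
    (hn : n ≠ 0) (hg : g ^ n = 1) :
    ∃ (d : ℕ) (μ : Fin d → ℂ), χ 1 = d ∧ (∀ i, μ i ^ n = 1) ∧
      ∀ k : ℕ, χ (g ^ k) = ∑ i, μ i ^ k := by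
  obtain ⟨m, ρ, rfl⟩ := hχ
  obtain ⟨μ, h1, h2⟩ := exists_fin_pow ρ g hn hg
  refine ⟨_, μ, ?_, h1, h2⟩
  exact Representation.char_one ρ

end rep

section roots

/-- A ring endomorphism of `ℂ` acts on the `n`-th roots of unity by a power map with exponent
coprime to `n`. -/
theorem exists_coprime_pow (σ : ℂ →+* ℂ) {n : ℕ} (hn : n ≠ 0) :
    ∃ m : ℕ, m.Coprime n ∧ ∀ z : ℂ, z ^ n = 1 → σ z = z ^ m := by
  have hζ := Complex.isPrimitiveRoot_exp n hn
  set ζ := Complex.exp (2 * Real.pi * Complex.I / n)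
  have hn' : 0 < n := Nat.pos_of_ne_zero hn
  have : NeZero n := ⟨hn⟩
  have hσζ : IsPrimitiveRoot (σ ζ) n := hζ.map_of_injective σ.injective
  obtain ⟨m, -, hm, hm'⟩ := (hζ.isPrimitiveRoot_iff).1 hσζ
  refine ⟨m, hm, fun z hz => ?_⟩
  obtain ⟨i, -, rfl⟩ := hζ.eq_pow_of_pow_eq_one hz
  rw [map_pow, ← hm', ← pow_mul, ← pow_mul, mul_comm]

/-- Every automorphism of an algebraic (or any) subfield `K` of `ℂ` extends to `ℂ`. -/
theorem exists_ringEquiv_extend {K : Type*} [Field K] [Algebra K ℂ] (σ : K ≃+* K) :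
    ∃ τ : ℂ ≃+* ℂ, ∀ x : K, τ (algebraMap K ℂ x) = algebraMap K ℂ (σ x) := by
  obtain ⟨s, hs⟩ := exists_isTranscendenceBasis K ℂ
  let := IsAlgClosed.isAlgClosure_of_transcendence_basis _ hs
  let a := hs.1.aevalEquiv
  let e : Algebra.adjoin K (Set.range ((↑) : s → ℂ)) ≃+* Algebra.adjoin K (Set.range ((↑) : s → ℂ)) :=
    a.symm.toRingEquiv.trans ((MvPolynomial.mapEquiv _ σ).trans a.toRingEquiv)
  refine ⟨IsAlgClosure.equivOfEquiv ℂ ℂ e, fun x => ?_⟩
  have h1 : algebraMap K ℂ x = algebraMap (Algebra.adjoin K (Set.range ((↑) : s → ℂ))) ℂ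
      (algebraMap K _ x) := rfl
  have h2 : algebraMap K ℂ (σ x) = algebraMap (Algebra.adjoin K (Set.range ((↑) : s → ℂ))) ℂ
      (algebraMap K _ (σ x)) := rfl
  rw [h1, IsAlgClosure.equivOfEquiv_algebraMap, h2]
  congr 1
  show a (MvPolynomial.mapEquiv _ σ (a.symm (algebraMap K _ x))) = _
  rw [AlgEquiv.commutes, MvPolynomial.algebraMap_eq, MvPolynomial.mapEquiv_apply,
    MvPolynomial.map_C]
  exact a.commutes (σ x)

theorem exists_ringEquiv_pow_aux {n m : ℕ} (hn : n ≠ 0) (h : m.Coprime n) (K : Type*) [Field K]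
    [Algebra ℚ K] [NeZero n] [IsCyclotomicExtension {n} ℚ K] :
    ∃ σ : ℂ ≃+* ℂ, ∀ z : ℂ, z ^ n = 1 → σ z = z ^ m := by
  have : FiniteDimensional ℚ K := IsCyclotomicExtension.finiteDimensional {n} ℚ K
  let φ : K →ₐ[ℚ] ℂ := IsAlgClosed.lift
  let : Algebra K ℂ := φ.toRingHom.toAlgebra
  have hζ := IsCyclotomicExtension.zeta_spec n ℚ K
  have hirr : Irreducible (Polynomial.cyclotomic n ℚ) :=
    Polynomial.cyclotomic.irreducible_rat (Nat.pos_of_ne_zero hn)
  obtain ⟨τ, hτ⟩ := exists_ringEquiv_extend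
    (IsCyclotomicExtension.fromZetaAut (hζ.pow_of_coprime m h) hirr).toRingEquiv
  have hs : (IsCyclotomicExtension.fromZetaAut (hζ.pow_of_coprime m h) hirr)
      (IsCyclotomicExtension.zeta n ℚ K) = (IsCyclotomicExtension.zeta n ℚ K) ^ m :=
    IsCyclotomicExtension.fromZetaAut_spec _ _
  refine ⟨τ, fun z hz => ?_⟩
  have hζ' : IsPrimitiveRoot (algebraMap K ℂ (IsCyclotomicExtension.zeta n ℚ K)) n :=
    hζ.map_of_injective (algebraMap K ℂ).injective
  obtain ⟨i, -, rfl⟩ := hζ'.eq_pow_of_pow_eq_one hz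
  rw [map_pow, hτ]
  show (algebraMap K ℂ
    ((IsCyclotomicExtension.fromZetaAut (hζ.pow_of_coprime m h) hirr)
      (IsCyclotomicExtension.zeta n ℚ K))) ^ i = _
  rw [hs, map_pow, ← pow_mul, ← pow_mul, mul_comm]

/-- For `m` coprime to `n` there is an automorphism of `ℂ` raising the `n`-th roots of unity to
their `m`-th powers. -/
theorem exists_ringEquiv_pow {n m : ℕ} (hn : n ≠ 0) (h : m.Coprime n) :
    ∃ σ : ℂ ≃+* ℂ, ∀ z : ℂ, z ^ n = 1 → σ z = z ^ m := by
  have : NeZero n := ⟨hn⟩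
  have : NeZero (n : ℚ) := ⟨by exact_mod_cast hn⟩
  have h1 := CyclotomicField.isCyclotomicExtension n ℚ
  exact @exists_ringEquiv_pow_aux n m hn h (CyclotomicField n ℚ) _ _ _ h1

/-- An algebraic complex number that is fixed by all field automorphisms of `ℂ` is rational. -/
theorem exists_rat_of_forall_ringEquiv {z : ℂ} (hz : IsIntegral ℚ z)
    (h : ∀ σ : ℂ ≃+* ℂ, σ z = z) : ∃ q : ℚ, z = q := by
  let K := algebraicClosure ℚ ℂ
  have hzK : z ∈ K := mem_algebraicClosure_iff.2 hz.isAlgebraic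
  have : IsAlgClosure ℚ K := algebraicClosure.isAlgClosure ℚ ℂ
  have : Normal ℚ K := IsAlgClosure.normal ℚ K
  have : IsGalois ℚ K := ⟨⟩
  have h1 : (⟨z, hzK⟩ : K) ∈ (⊥ : IntermediateField ℚ K) := by
    rw [InfiniteGalois.mem_bot_iff_fixed]
    intro f
    obtain ⟨τ, hτ⟩ := exists_ringEquiv_extend (K := K) f.toRingEquiv
    apply (algebraMap K ℂ).injective
    have h2 := hτ ⟨z, hzK⟩
    have h3 := h τ
    exact h2.symm.trans h3
  obtain ⟨q, hq⟩ := IntermediateField.mem_bot.1 h1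
  refine ⟨q, ?_⟩
  have := congrArg (algebraMap K ℂ) hq
  rw [← IsScalarTower.algebraMap_apply] at this
  exact this.symm.trans (by simp)

end roots

section characters

variable {G : Type u} [Group G]

/-- Field automorphisms act on character values by power maps. -/
theorem map_apply (σ : ℂ →+* ℂ) {m n : ℕ} (hσ : ∀ z : ℂ, z ^ n = 1 → σ z = z ^ m) {χ : G → ℂ}
    (hχ : IsCharacter G χ) {g : G} (hn : n ≠ 0) (hg : g ^ n = 1) : σ (χ g) = χ (g ^ m) := by
  obtain ⟨d, μ, -, h1, h2⟩ := isCharacter_exists_fin_pow hχ g hn hg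
  have h3 := h2 1
  rw [pow_one] at h3
  rw [h3, h2 m, map_sum]
  refine Finset.sum_congr rfl fun i _ => ?_
  rw [pow_one, hσ _ (h1 i)]

/-- Same, for a ring automorphism and with `n` the group order. -/
theorem map_apply_card [Finite G] (σ : ℂ ≃+* ℂ) {m : ℕ}
    (hσ : ∀ z : ℂ, z ^ (Nat.card G) = 1 → σ z = z ^ m) {χ : G → ℂ}
    (hχ : IsCharacter G χ) (g : G) : σ (χ g) = χ (g ^ m) :=
  map_apply (σ : ℂ →+* ℂ) hσ hχ Nat.card_pos.ne' pow_card_eq_one'

/-- For every automorphism `σ` of `ℂ` there is `m` coprime to `|G|` with `σ (χ g) = χ (g ^ m)` for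
all characters `χ` of `G`. -/
theorem exists_pow_of_ringEquiv [Finite G] (σ : ℂ ≃+* ℂ) :
    ∃ m : ℕ, m.Coprime (Nat.card G) ∧
      ∀ (χ : G → ℂ), IsCharacter G χ → ∀ g : G, σ (χ g) = χ (g ^ m) := by
  obtain ⟨m, hm, h⟩ := exists_coprime_pow (σ : ℂ →+* ℂ) (Nat.card_pos (α := G)).ne'
  exact ⟨m, hm, fun χ hχ g => map_apply_card σ h hχ g⟩

/-- For every `m` coprime to `|G|` there is an automorphism `σ` of `ℂ` with
`σ (χ g) = χ (g ^ m)` for all characters `χ` of `G`. -/
theorem exists_ringEquiv_of_coprime [Finite G] {m : ℕ} (hm : m.Coprime (Nat.card G)) :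
    ∃ σ : ℂ ≃+* ℂ, ∀ (χ : G → ℂ), IsCharacter G χ → ∀ g : G, σ (χ g) = χ (g ^ m) := by
  obtain ⟨σ, h⟩ := exists_ringEquiv_pow (Nat.card_pos (α := G)).ne' hm
  exact ⟨σ, fun χ hχ g => map_apply_card σ h hχ g⟩

/-- Character values are algebraic integers. -/
theorem isIntegral_apply [Finite G] {χ : G → ℂ} (hχ : IsCharacter G χ) (g : G) :
    IsIntegral ℤ (χ g) := by
  obtain ⟨d, μ, -, h1, h2⟩ := isCharacter_exists_fin_pow hχ g (orderOf_pos g).ne'
    (pow_orderOf_eq_one g)
  have h3 := h2 1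
  rw [pow_one] at h3
  rw [h3]
  refine IsIntegral.sum _ fun i _ => ?_
  rw [pow_one]
  refine IsIntegral.of_pow (orderOf_pos g) ?_
  rw [h1 i]
  exact isIntegral_one

/-- A rational algebraic integer is an integer. -/
theorem exists_int_of_isIntegral {z : ℂ} (hz : IsIntegral ℤ z) (h : ∃ q : ℚ, z = q) :
    ∃ k : ℤ, z = k := by
  obtain ⟨q, rfl⟩ := h
  have h1 : IsIntegral ℤ q := by
    have : IsIntegral ℤ (algebraMap ℚ ℂ q) := by simpa using hz
    exact (isIntegral_algebraMap_iff (algebraMap ℚ ℂ).injective).1 this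
  obtain ⟨k, hk⟩ := IsIntegrallyClosed.isIntegral_iff.1 h1
  refine ⟨k, ?_⟩
  rw [← hk]
  simp

/-- A rational character value is an integer. -/
theorem exists_int_of_rat [Finite G] {χ : G → ℂ} (hχ : IsCharacter G χ) (g : G)
    (h : ∃ q : ℚ, χ g = q) : ∃ k : ℤ, χ g = k :=
  exists_int_of_isIntegral (isIntegral_apply hχ g) h

/-- A character value at `g` is rational iff it is fixed by all the power maps. -/
theorem exists_rat_iff [Finite G] {χ : G → ℂ} (hχ : IsCharacter G χ) (g : G) :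
    (∃ q : ℚ, χ g = q) ↔ ∀ m : ℕ, m.Coprime (Nat.card G) → χ (g ^ m) = χ g := by
  constructor
  · rintro ⟨q, hq⟩ m hm
    obtain ⟨σ, hσ⟩ := exists_ringEquiv_of_coprime (G := G) hm
    rw [← hσ χ hχ g, hq, map_ratCast]
  · intro h
    apply exists_rat_of_forall_ringEquiv
    · exact (isIntegral_apply hχ g).tower_top
    · intro σ
      obtain ⟨m, hm, hσ⟩ := exists_pow_of_ringEquiv (G := G) σ
      rw [hσ χ hχ g, h m hm]

/-- the matrix-entrywise Galois twist of a representation on a coordinate space -/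
noncomputable def twist (σ : ℂ ≃+* ℂ) {n : ℕ} (ρ : Representation ℂ G (Fin n → ℂ)) :
    Representation ℂ G (Fin n → ℂ) where
  toFun g := Matrix.toLin' ((LinearMap.toMatrix' (ρ g)).map σ)
  map_one' := by
    rw [map_one, LinearMap.toMatrix'_one, Matrix.map_one σ (map_zero σ) (map_one σ),
      Matrix.toLin'_one]
    rfl
  map_mul' g h := by
    rw [map_mul, LinearMap.toMatrix'_mul, Matrix.map_mul, Matrix.toLin'_mul]
    rfl

theorem twist_character (σ : ℂ ≃+* ℂ) {n : ℕ} (ρ : Representation ℂ G (Fin n → ℂ)) (g : G) :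
    (twist σ ρ).character g = σ (ρ.character g) := by
  show LinearMap.trace ℂ _ (Matrix.toLin' ((LinearMap.toMatrix' (ρ g)).map σ)) =
    σ (LinearMap.trace ℂ _ (ρ g))
  rw [Matrix.trace_toLin'_eq]
  conv_rhs => rw [← Matrix.toLin'_toMatrix' (ρ g), Matrix.trace_toLin'_eq]
  rw [Matrix.trace, Matrix.trace, map_sum]
  rfl

/-- The Galois conjugate of a character is a character. -/
theorem isCharacter_map (σ : ℂ ≃+* ℂ) {χ : G → ℂ} (hχ : IsCharacter G χ) :
    IsCharacter G (fun g => σ (χ g)) := by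
  obtain ⟨n, ρ, rfl⟩ := hχ
  exact ⟨n, twist σ ρ, funext fun g => twist_character σ ρ g⟩

/-- For `m` coprime to the group order, `g ↦ χ (g ^ m)` is a character if `χ` is. -/
theorem isCharacter_pow [Finite G] {m : ℕ} (hm : m.Coprime (Nat.card G)) {χ : G → ℂ}
    (hχ : IsCharacter G χ) : IsCharacter G (fun g => χ (g ^ m)) := by
  obtain ⟨σ, hσ⟩ := exists_ringEquiv_of_coprime (G := G) hm
  have := isCharacter_map σ hχ
  have h : (fun g => σ (χ g)) = fun g => χ (g ^ m) := funext fun g => hσ χ hχ g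
  rwa [h] at this

end characters

end Cfsg.Agent.Characters.GaloisBasic
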