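import Mathlib.RepresentationTheory.Character
import Mathlib.Analysis.Complex.Basic
import Mathlib.Analysis.Complex.Polynomial.Basic
import Mathlib.GroupTheory.Abelianization.Defs
import Mathlib.GroupTheory.Index
import Mathlib.GroupTheory.FiniteAbelian.Duality
import Mathlib.RingTheory.RootsOfUnity.AlgebraicallyClosed
import Mathlib.LinearAlgebra.FiniteDimensional.Lemmas
import Cfsg.Prelude.Def_Characters

/-!
# Linear characters (characters of degree one)

Linear characters of `G` are exactly the homomorphisms `G →* ℂˣ`.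
-/

set_option autoImplicit false
open Cfsg

namespace Cfsg.Agent.Characters.Linear

universe u

variable {G : Type u} [Group G]

/-- A representation on a one-dimensional space is irreducible. -/
theorem isIrreducible_of_finrank_eq_one {k V : Type*} [Field k] [AddCommGroup V] [Module k V]
    (ρ : Representation k G V) (h : Module.finrank k V = 1) : ρ.IsIrreducible := by
  have hs : IsSimpleOrder (Submodule k V) := is_simple_module_of_finrank_eq_one h
  refine
    { exists_pair_ne := ⟨⊥, ⊤, fun hbt => ?_⟩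
      eq_bot_or_eq_top := fun σ => ?_ }
  · exact bot_ne_top (α := Submodule k V) (congrArg Subrepresentation.toSubmodule hbt)
  · rcases eq_bot_or_eq_top σ.toSubmodule with h | h
    · exact Or.inl (Subrepresentation.toSubmodule_injective h)
    · exact Or.inr (Subrepresentation.toSubmodule_injective h)

/-- The one-dimensional representation attached to a homomorphism `G →* ℂˣ`. -/
noncomputable def repOfHom (f : G →* ℂˣ) : Representation ℂ G (Fin 1 → ℂ) :=
  ((algebraMap ℂ (Module.End ℂ (Fin 1 → ℂ))) : ℂ →* Module.End ℂ (Fin 1 → ℂ)).comp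
    ((Units.coeHom ℂ).comp f)

theorem repOfHom_apply (f : G →* ℂˣ) (g : G) :
    repOfHom f g = (f g : ℂ) • (LinearMap.id : (Fin 1 → ℂ) →ₗ[ℂ] (Fin 1 → ℂ)) := by
  show algebraMap ℂ (Module.End ℂ (Fin 1 → ℂ)) (f g : ℂ) = _
  rw [Algebra.algebraMap_eq_smul_one]
  rfl

theorem character_repOfHom (f : G →* ℂˣ) :
    (repOfHom f).character = fun g => (f g : ℂ) := by
  funext g
  rw [Representation.character, repOfHom_apply, map_smul, LinearMap.trace_id]
  simp

/-- A homomorphism `G →* ℂˣ` is an irreducible character. -/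
theorem isIrrCharacter_hom (f : G →* ℂˣ) : IsIrrCharacter G (fun g => (f g : ℂ)) :=
  ⟨1, repOfHom f, isIrreducible_of_finrank_eq_one _ (by simp), character_repOfHom f⟩

theorem isCharacter_hom (f : G →* ℂˣ) : IsCharacter G (fun g => (f g : ℂ)) :=
  ⟨1, repOfHom f, character_repOfHom f⟩

/-- A character of degree one is a homomorphism `G →* ℂˣ`. -/
theorem exists_hom_of_isCharacter {χ : G → ℂ} (hχ : IsCharacter G χ) (h1 : χ 1 = 1) :
    ∃ f : G →* ℂˣ, χ = fun g => (f g : ℂ) := by
  obtain ⟨n, ρ, rfl⟩ := hχ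
  rw [Representation.char_one] at h1
  have hn : n = 1 := by
    have : ((n : ℕ) : ℂ) = 1 := by simpa using h1
    exact_mod_cast this
  subst hn
  -- the trace of an endomorphism of `Fin 1 → ℂ` is its determinant
  have htr : ∀ φ : (Fin 1 → ℂ) →ₗ[ℂ] (Fin 1 → ℂ),
      LinearMap.trace ℂ (Fin 1 → ℂ) φ = LinearMap.det φ := by
    intro φ
    rw [← LinearMap.det_toMatrix', LinearMap.trace_eq_matrix_trace ℂ (Pi.basisFun ℂ (Fin 1)),
      Matrix.trace_fin_one, Matrix.det_fin_one]
    rfl
  refine ⟨(LinearMap.det.comp ρ).toHomUnits, ?_⟩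
  funext g
  rw [MonoidHom.coe_toHomUnits]
  exact htr (ρ g)

theorem exists_hom_of_isIrrCharacter {χ : G → ℂ} (hχ : IsIrrCharacter G χ) (h1 : χ 1 = 1) :
    ∃ f : G →* ℂˣ, χ = fun g => (f g : ℂ) := by
  obtain ⟨n, ρ, -, h⟩ := hχ
  exact exists_hom_of_isCharacter ⟨n, ρ, h⟩ h1

/-- Characters of degree one are irreducible. -/
theorem isIrrCharacter_of_isCharacter {χ : G → ℂ} (hχ : IsCharacter G χ) (h1 : χ 1 = 1) :
    IsIrrCharacter G χ := by
  obtain ⟨f, rfl⟩ := exists_hom_of_isCharacter hχ h1
  exact isIrrCharacter_hom f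

theorem isIrrCharacter_degree_one_iff {χ : G → ℂ} :
    (IsIrrCharacter G χ ∧ χ 1 = 1) ↔ ∃ f : G →* ℂˣ, χ = fun g => (f g : ℂ) := by
  constructor
  · rintro ⟨h, h1⟩
    exact exists_hom_of_isIrrCharacter h h1
  · rintro ⟨f, rfl⟩
    exact ⟨isIrrCharacter_hom f, by simp⟩

/-- The linear characters of `G` correspond to the homomorphisms `G →* ℂˣ`. -/
noncomputable def linearEquiv (G : Type u) [Group G] :
    (G →* ℂˣ) ≃ {χ : Cfsg.IrrCharacter G // (χ : G → ℂ) 1 = 1} :=
  Equiv.ofBijective (fun f => ⟨⟨fun g => (f g : ℂ), isIrrCharacter_hom f⟩, by simp⟩) <| by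
    constructor
    · intro f f' h
      have h' : (fun g => (f g : ℂ)) = fun g => (f' g : ℂ) :=
        congrArg (fun x : {χ : Cfsg.IrrCharacter G // (χ : G → ℂ) 1 = 1} => (x : G → ℂ)) h
      ext g
      exact congrFun h' g
    · rintro ⟨⟨χ, hχ⟩, h1⟩
      obtain ⟨f, rfl⟩ := exists_hom_of_isIrrCharacter hχ h1
      exact ⟨f, rfl⟩

theorem linearEquiv_apply (f : G →* ℂˣ) (g : G) : ((linearEquiv G f).1 : G → ℂ) g = (f g : ℂ) :=
  rfl

/-- A finite group `G` has exactly `|G : G'|` homomorphisms to `ℂˣ`. -/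
theorem card_hom_eq_index_commutator (G : Type u) [Group G] [Finite G] :
    Nat.card (G →* ℂˣ) = (commutator G).index := by
  have hcard : Nat.card (G →* ℂˣ) = Nat.card (Abelianization G →* ℂˣ) :=
    Nat.card_congr (Abelianization.lift (G := G) (A := ℂˣ))
  have : Finite (Abelianization G) :=
    Finite.of_surjective (QuotientGroup.mk' (commutator G)) (QuotientGroup.mk'_surjective _)
  rw [hcard, CommGroup.card_monoidHom_of_hasEnoughRootsOfUnity (Abelianization G) ℂ]
  rfl

/-- The values of a homomorphism from a finite group to `ℂˣ` have absolute value one. -/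
theorem norm_hom_apply [Finite G] (f : G →* ℂˣ) (g : G) : ‖(f g : ℂ)‖ = 1 := by
  have hn : 0 < Nat.card G := Nat.card_pos
  have h : ((f g : ℂ)) ^ Nat.card G = 1 := by
    rw [← Units.val_pow_eq_pow_val, ← map_pow, pow_card_eq_one']
    simp
  have h2 : ‖(f g : ℂ)‖ ^ Nat.card G = 1 := by rw [← norm_pow, h, norm_one]
  exact (pow_eq_one_iff_of_nonneg (norm_nonneg _) hn.ne').mp h2

end Cfsg.Agent.Characters.Linear
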