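import Mathlib

/-!
# Central characters

For an irreducible complex representation `ρ` of a finite group, class sums act as scalars, the scalar
being `|class| * χ(g) / χ(1)`, and this scalar is an algebraic integer.
-/

set_option autoImplicit false

namespace Cfsg.Agent.Characters.CentralCharacter

open scoped Classical in
section

variable {G : Type*} [Group G] {V : Type*} [AddCommGroup V] [Module ℂ V] [FiniteDimensional ℂ V]

/-- Schur: an endomorphism commuting with an irreducible representation is a scalar. -/
theorem exists_scalar_of_commute (ρ : Representation ℂ G V) [ρ.IsIrreducible]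
    (f : V →ₗ[ℂ] V) (hf : ∀ g v, f (ρ g v) = ρ g (f v)) :
    ∃ c : ℂ, f = c • (LinearMap.id : V →ₗ[ℂ] V) := by
  let F : Representation.IntertwiningMap ρ ρ := LinearMap.intertwiningMap_of_isIntertwiningMap
    ρ ρ f hf
  obtain ⟨c, hc⟩ :=
    (Representation.IsIrreducible.algebraMap_intertwiningMap_bijective_of_isAlgClosed (ρ := ρ)).2 F
  refine ⟨c, ?_⟩
  have h1 : F.toLinearMap = (algebraMap ℂ (Representation.IntertwiningMap ρ ρ) c).toLinearMap := by
    rw [hc]
  have h2 : (algebraMap ℂ (Representation.IntertwiningMap ρ ρ) c).toLinearMap =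
      c • (LinearMap.id : V →ₗ[ℂ] V) := by
    rw [Algebra.algebraMap_eq_smul_one]
    rfl
  rw [← h2, ← h1]
  rfl

theorem finrank_pos_of_irreducible (ρ : Representation ℂ G V) [ρ.IsIrreducible] :
    0 < Module.finrank ℂ V := by
  rcases Nat.eq_zero_or_pos (Module.finrank ℂ V) with h | h
  · exfalso
    have : Subsingleton V := Module.finrank_zero_iff.mp h
    have h2 : (⊥ : Subrepresentation ρ) = ⊤ := by
      apply SetLike.ext
      intro v
      rw [Subsingleton.elim v 0]
      exact ⟨fun _ => (⊤ : Subrepresentation ρ).toSubmodule.zero_mem,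
        fun _ => (⊥ : Subrepresentation ρ).toSubmodule.zero_mem⟩
    exact bot_ne_top h2
  · exact h

variable [Fintype G]

/-- A weighted sum `∑ f x • ρ x` over a class function `f` acts as a scalar. -/
theorem sum_classFunction_smul_eq (ρ : Representation ℂ G V) [ρ.IsIrreducible]
    (f : G → ℂ) (hf : ∀ x g, f (g * x * g⁻¹) = f x) :
    (∑ x, f x • (ρ x : V →ₗ[ℂ] V)) =
      ((∑ x, f x * ρ.character x) / (Module.finrank ℂ V : ℂ)) • (LinearMap.id : V →ₗ[ℂ] V) := by
  obtain ⟨c, hc⟩ := exists_scalar_of_commute ρ (∑ x, f x • (ρ x : V →ₗ[ℂ] V)) (by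
    intro g v
    simp only [LinearMap.sum_apply, LinearMap.smul_apply, map_sum, map_smul]
    rw [← Equiv.sum_comp (MulAut.conj g).toEquiv]
    refine Finset.sum_congr rfl fun x _ => ?_
    have : (MulAut.conj g).toEquiv x = g * x * g⁻¹ := rfl
    rw [this, hf x g]
    have h3 : ρ (g * x * g⁻¹) (ρ g v) = ρ g (ρ x v) := by
      rw [← Module.End.mul_apply, ← map_mul, ← Module.End.mul_apply, ← map_mul]
      congr 2
      group
    rw [h3])
  have ht := congrArg (LinearMap.trace ℂ V) hc
  rw [map_sum, map_smul, LinearMap.trace_id] at ht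
  have hd : (Module.finrank ℂ V : ℂ) ≠ 0 := by
    exact_mod_cast (finrank_pos_of_irreducible ρ).ne'
  rw [hc]
  congr 1
  rw [eq_div_iff hd]
  simp only [map_smul, smul_eq_mul] at ht
  exact ht.symm

/-- If `f` is a class function with integer values, the scalar by which `∑ f x • ρ x` acts is an
algebraic integer. -/
theorem isIntegral_sum_int (ρ : Representation ℂ G V) [ρ.IsIrreducible]
    (f : G → ℤ) (hf : ∀ x g, f (g * x * g⁻¹) = f x) :
    IsIntegral ℤ ((∑ x, (f x : ℂ) * ρ.character x) / (Module.finrank ℂ V : ℂ)) := by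
  have h1 := sum_classFunction_smul_eq ρ (fun x => (f x : ℂ)) (fun x g => by
    simp only [hf x g])
  let φ : MonoidAlgebra ℤ G →ₐ[ℤ] Module.End ℂ V := MonoidAlgebra.lift ℤ (Module.End ℂ V) G ρ
  let z : MonoidAlgebra ℤ G := ∑ x, MonoidAlgebra.single x (f x)
  have hz : φ z = ∑ x, (f x : ℂ) • (ρ x : V →ₗ[ℂ] V) := by
    simp only [z, φ, map_sum, MonoidAlgebra.lift_single]
    refine Finset.sum_congr rfl fun x _ => ?_
    rw [Int.cast_smul_eq_zsmul]
  have hint : IsIntegral ℤ (φ z) := by
    have : IsIntegral ℤ z := Algebra.IsIntegral.isIntegral z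
    exact this.map φ
  rw [hz, h1] at hint
  have hnt : Nontrivial V := Module.nontrivial_of_finrank_pos (finrank_pos_of_irreducible ρ)
  have hinj : Function.Injective (algebraMap ℂ (Module.End ℂ V)) :=
    FaithfulSMul.algebraMap_injective ℂ (Module.End ℂ V)
  let ψ : ℂ →ₐ[ℤ] Module.End ℂ V :=
    { algebraMap ℂ (Module.End ℂ V) with
      commutes' := fun n => by
        have := map_intCast (algebraMap ℂ (Module.End ℂ V)) n
        rw [eq_intCast (algebraMap ℤ ℂ), eq_intCast (algebraMap ℤ (Module.End ℂ V))]
        exact this }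
  have hinj' : Function.Injective ψ := hinj
  rw [← isIntegral_algHom_iff ψ hinj']
  have h5 : ∀ c : ℂ, ψ c = c • (LinearMap.id : V →ₗ[ℂ] V) := fun c => by
    change algebraMap ℂ (Module.End ℂ V) c = _
    rw [Algebra.algebraMap_eq_smul_one]
    rfl
  rw [h5]
  exact hint

end

section

variable {G : Type*} [Group G] [Finite G] {V : Type*} [AddCommGroup V] [Module ℂ V]
  [FiniteDimensional ℂ V]

omit [Finite G] in
/-- The index of the centralizer of `g` is the size of its conjugacy class. -/
theorem index_centralizer_eq_card (g : G) :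
    (Subgroup.centralizer ({g} : Set G)).index = Nat.card {x : G // IsConj g x} := by
  have h1 : (Subgroup.centralizer ({g} : Set G)).index =
      (MulAction.orbit (ConjAct G) g).ncard := by
    rw [← MulAction.index_stabilizer, Subgroup.centralizer_eq_comap_stabilizer]
    exact Subgroup.index_comap_of_surjective _ ConjAct.toConjAct.surjective
  rw [h1, ← Nat.card_coe_set_eq]
  apply Nat.card_congr
  refine Equiv.subtypeEquivRight fun x => ?_
  rw [ConjAct.mem_orbit_conjAct, isConj_comm]

open scoped Classical in
/-- The class-size form of the integrality of central characters. -/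
theorem isIntegral_index_mul_character_div (ρ : Representation ℂ G V) [ρ.IsIrreducible] (g : G) :
    IsIntegral ℤ (((Subgroup.centralizer ({g} : Set G)).index : ℂ) * ρ.character g /
      (Module.finrank ℂ V : ℂ)) := by
  have := Fintype.ofFinite G
  have h := isIntegral_sum_int ρ (fun x => if IsConj g x then 1 else 0) (fun x y => by
    have : IsConj g (y * x * y⁻¹) ↔ IsConj g x := by
      constructor
      · intro h
        exact h.trans (isConj_iff.2 ⟨y⁻¹, by group⟩)
      · intro h
        exact h.trans (isConj_iff.2 ⟨y, rfl⟩)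
    simp only [this])
  have hs : (∑ x, (((if IsConj g x then 1 else 0 : ℤ)) : ℂ) * ρ.character x) =
      ((Subgroup.centralizer ({g} : Set G)).index : ℂ) * ρ.character g := by
    rw [index_centralizer_eq_card, Nat.card_eq_fintype_card, Fintype.card_subtype]
    have : ∀ x : G, (((if IsConj g x then 1 else 0 : ℤ)) : ℂ) * ρ.character x =
        if IsConj g x then ρ.character g else 0 := by
      intro x
      split_ifs with hx
      · obtain ⟨c, rfl⟩ := isConj_iff.1 hx
        rw [Representation.char_conj]
        simp
      · simp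
    simp only [this]
    rw [← Finset.sum_filter, Finset.sum_const, nsmul_eq_mul]
  rw [hs] at h
  exact h

end

end Cfsg.Agent.Characters.CentralCharacter
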