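import Mathlib.GroupTheory.Sylow
import Mathlib.GroupTheory.NoncommCoprod
import Mathlib.Analysis.Fourier.FiniteAbelian.PontryaginDuality
import Mathlib.RingTheory.IntegralClosure.IntegrallyClosed
import Cfsg.Agent.Characters.Core

/-!
# The core of Brauer's theorem on induced characters

`one_mem_brauer`: the principal character is a `ℤ`-combination of functions induced from characters
of elementary subgroups.  Also basic facts on `Cfsg.indFun`.
-/

set_option autoImplicit false

open scoped ComplexConjugate Pointwise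
open Cfsg

namespace Cfsg.Agent.Characters.Brauer

variable {G : Type*} [Group G]

/-! ### Induced functions -/

theorem extendByZero_mem (H : Subgroup G) (θ : H → ℂ) {g : G} (hg : g ∈ H) :
    extendByZero H θ g = θ ⟨g, hg⟩ := by
  have : extendByZero H θ ((⟨g, hg⟩ : H) : G) = θ ⟨g, hg⟩ :=
    Subtype.val_injective.extend_apply θ 0 ⟨g, hg⟩
  exact this

theorem extendByZero_notMem (H : Subgroup G) (θ : H → ℂ) {g : G} (hg : g ∉ H) :
    extendByZero H θ g = 0 := by
  show Function.extend (Subtype.val : H → G) θ 0 g = 0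
  rw [Function.extend_apply' _ _ _ (by rintro ⟨a, rfl⟩; exact hg a.2)]
  rfl

theorem extendByZero_coe (H : Subgroup G) (θ : H → ℂ) (h : H) :
    extendByZero H θ (h : G) = θ h := extendByZero_mem H θ h.2

theorem extendByZero_add (H : Subgroup G) (θ θ' : H → ℂ) (g : G) :
    extendByZero H (θ + θ') g = extendByZero H θ g + extendByZero H θ' g := by
  by_cases hg : g ∈ H
  · simp only [extendByZero_mem H _ hg, Pi.add_apply]
  · simp only [extendByZero_notMem H _ hg, add_zero]

theorem extendByZero_smul (H : Subgroup G) (c : ℂ) (θ : H → ℂ) (g : G) :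
    extendByZero H (c • θ) g = c * extendByZero H θ g := by
  by_cases hg : g ∈ H
  · simp only [extendByZero_mem H _ hg, Pi.smul_apply, smul_eq_mul]
  · simp only [extendByZero_notMem H _ hg, mul_zero]

section indFun

variable [Fintype G]

theorem indFun_apply (H : Subgroup G) (θ : H → ℂ) (g : G) :
    indFun H θ g = (Nat.card H : ℂ)⁻¹ * ∑ x : G, extendByZero H θ (x⁻¹ * g * x) := rfl

theorem indFun_add (H : Subgroup G) (θ θ' : H → ℂ) :
    indFun H (θ + θ') = indFun H θ + indFun H θ' := by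
  funext g
  simp only [indFun_apply, Pi.add_apply, extendByZero_add, Finset.sum_add_distrib, mul_add]

theorem indFun_smul (H : Subgroup G) (c : ℂ) (θ : H → ℂ) :
    indFun H (c • θ) = c • indFun H θ := by
  funext g
  simp only [indFun_apply, Pi.smul_apply, smul_eq_mul, extendByZero_smul, ← Finset.mul_sum]
  ring

theorem indFun_zero (H : Subgroup G) : indFun H (0 : H → ℂ) = 0 := by
  have := indFun_smul H 0 (0 : H → ℂ)
  rwa [zero_smul, zero_smul] at this

theorem indFun_neg (H : Subgroup G) (θ : H → ℂ) : indFun H (-θ) = - indFun H θ := by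
  have := indFun_smul H (-1) θ
  rwa [neg_one_smul, neg_one_smul] at this

theorem indFun_sub (H : Subgroup G) (θ θ' : H → ℂ) :
    indFun H (θ - θ') = indFun H θ - indFun H θ' := by
  rw [sub_eq_add_neg, indFun_add, indFun_neg, ← sub_eq_add_neg]

theorem indFun_sum (H : Subgroup G) {ι : Type*} (s : Finset ι) (θ : ι → H → ℂ) :
    indFun H (∑ i ∈ s, θ i) = ∑ i ∈ s, indFun H (θ i) := by
  classical
  induction s using Finset.induction_on with
  | empty => simp only [Finset.sum_empty, indFun_zero]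
  | insert a s ha ih => rw [Finset.sum_insert ha, Finset.sum_insert ha, indFun_add, ih]

/-- An induced function is a class function. -/
theorem indFun_isClassFunction (H : Subgroup G) (θ : H → ℂ) : IsClassFunction G (indFun H θ) := by
  intro g h
  simp only [indFun_apply]
  congr 1
  refine Fintype.sum_equiv (Equiv.mulLeft h⁻¹) _ _ fun x => ?_
  simp only [Equiv.coe_mulLeft, mul_inv_rev, inv_inv]
  congr 1
  group

/-- The projection formula. -/
theorem indFun_mul (H : Subgroup G) (φ : H → ℂ) (χ : G → ℂ) (hχ : IsClassFunction G χ) :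
    indFun H φ * χ = indFun H (fun h => φ h * χ h) := by
  funext g
  simp only [Pi.mul_apply, indFun_apply]
  rw [mul_assoc, Finset.sum_mul]
  congr 1
  refine Finset.sum_congr rfl fun x _ => ?_
  by_cases hx : x⁻¹ * g * x ∈ H
  · rw [extendByZero_mem H _ hx, extendByZero_mem H _ hx]
    have := hχ g x⁻¹
    rw [inv_inv] at this
    rw [this]
  · rw [extendByZero_notMem H _ hx, extendByZero_notMem H _ hx, zero_mul]

/-- Frobenius reciprocity. -/
theorem classInner_indFun (H : Subgroup G) (inst : Fintype H) (φ : H → ℂ) (χ : G → ℂ)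
    (hχ : IsClassFunction G χ) :
    classInner (indFun H φ) χ = classInner φ (fun h : H => χ h) := by
  have hG : (Nat.card G : ℂ) ≠ 0 := Nat.cast_ne_zero.2 Nat.card_pos.ne'
  show (Nat.card G : ℂ)⁻¹ * ∑ g : G, indFun H φ g * conj (χ g) =
    (Nat.card H : ℂ)⁻¹ * ∑ h : H, φ h * conj (χ (h : G))
  have key : ∀ x : G, ∑ g : G, extendByZero H φ (x⁻¹ * g * x) * conj (χ g) =
      ∑ h : H, φ h * conj (χ (h : G)) := by
    intro x
    have h1 : ∑ g : G, extendByZero H φ (x⁻¹ * g * x) * conj (χ g) =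
        ∑ g : G, extendByZero H φ g * conj (χ g) := by
      refine Fintype.sum_equiv (MulAut.conj x⁻¹).toEquiv _ _ fun g => ?_
      have h2 : (MulAut.conj x⁻¹).toEquiv g = x⁻¹ * g * x := by
        simp
      rw [h2]
      have := hχ g x⁻¹
      rw [inv_inv] at this
      rw [this]
    rw [h1]
    symm
    refine Fintype.sum_of_injective (Subtype.val : H → G) Subtype.val_injective _ _ ?_ ?_
    · intro g hg
      rw [extendByZero_notMem H φ (fun h => hg ⟨⟨g, h⟩, rfl⟩), zero_mul]
    · intro h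
      rw [extendByZero_coe]
  have h3 : ∑ g : G, indFun H φ g * conj (χ g) = (Nat.card H : ℂ)⁻¹ *
      ∑ x : G, ∑ g : G, extendByZero H φ (x⁻¹ * g * x) * conj (χ g) := by
    rw [Finset.sum_comm, Finset.mul_sum]
    refine Finset.sum_congr rfl fun g _ => ?_
    rw [indFun_apply, mul_assoc, Finset.sum_mul]
  rw [h3, Finset.sum_congr rfl (fun x _ => key x), Finset.sum_const, Finset.card_univ, nsmul_eq_mul,
    ← Nat.card_eq_fintype_card]
  field_simp

end indFun

/-! ### Characters from inner products -/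

/-- A class function all of whose inner products with irreducible characters are integers is a
generalized character. -/
theorem isGeneralizedCharacter_of_int [Fintype G] {f : G → ℂ} (hf : IsClassFunction G f)
    (h : ∀ χ : G → ℂ, IsIrrCharacter G χ → ∃ n : ℤ, classInner f χ = n) :
    IsGeneralizedCharacter G f := by
  classical
  have : Finite (IrrCharacter G) := Core.finite_irr
  have : Fintype (IrrCharacter G) := Fintype.ofFinite _
  rw [Core.isGeneralizedCharacter_iff]
  choose n hn using h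
  refine ⟨fun χ => n χ.1 χ.2, ?_⟩
  conv_lhs => rw [Core.classFunction_eq_sum hf]
  refine Finset.sum_congr rfl fun χ _ => ?_
  rw [hn χ.1 χ.2]
  exact Int.cast_smul_eq_zsmul ℂ _ _

/-- A class function all of whose inner products with irreducible characters are natural numbers
is a character. -/
theorem isCharacter_of_nat [Fintype G] {f : G → ℂ} (hf : IsClassFunction G f)
    (h : ∀ χ : G → ℂ, IsIrrCharacter G χ → ∃ n : ℕ, classInner f χ = n) :
    IsCharacter G f := by
  classical
  have : Finite (IrrCharacter G) := Core.finite_irr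
  have : Fintype (IrrCharacter G) := Fintype.ofFinite _
  rw [Core.isCharacter_iff]
  choose n hn using h
  refine ⟨fun χ => n χ.1 χ.2, ?_⟩
  conv_lhs => rw [Core.classFunction_eq_sum hf]
  refine Finset.sum_congr rfl fun χ _ => ?_
  rw [hn χ.1 χ.2]
  exact Nat.cast_smul_eq_nsmul ℂ _ _

theorem isCharacter_restrict {χ : G → ℂ} (hχ : IsCharacter G χ) (H : Subgroup G) :
    IsCharacter H (fun h : H => χ h) :=
  Core.isCharacter_comp H.subtype hχ

theorem isClassFunction_restrict {χ : G → ℂ} (hχ : IsClassFunction G χ) (H : Subgroup G) :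
    IsClassFunction H (fun h : H => χ h) := fun g h => hχ g h

/-- Induced characters are characters. -/
theorem isCharacter_indFun [Fintype G] (H : Subgroup G) {φ : H → ℂ} (hφ : IsCharacter H φ) :
    IsCharacter G (indFun H φ) := by
  have : Fintype H := Fintype.ofFinite _
  refine isCharacter_of_nat (indFun_isClassFunction H φ) fun χ hχ => ?_
  rw [classInner_indFun H _ φ χ (Core.isIrr_isClassFunction hχ)]
  exact Core.classInner_isNat hφ (isCharacter_restrict (Core.isIrr_isCharacter hχ) H)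

theorem isGeneralizedCharacter_indFun [Fintype G] (H : Subgroup G) {φ : H → ℂ}
    (hφ : IsGeneralizedCharacter H φ) : IsGeneralizedCharacter G (indFun H φ) := by
  obtain ⟨α, β, hα, hβ, rfl⟩ := hφ
  exact ⟨_, _, isCharacter_indFun H hα, isCharacter_indFun H hβ, indFun_sub H α β⟩

theorem isGeneralizedCharacter_of_isCharacter {χ : G → ℂ} (hχ : IsCharacter G χ) :
    IsGeneralizedCharacter G χ :=
  ⟨χ, 0, hχ, Core.isCharacter_zero, (sub_zero χ).symm⟩

theorem isGeneralizedCharacter_zero : IsGeneralizedCharacter G 0 :=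
  isGeneralizedCharacter_of_isCharacter Core.isCharacter_zero

theorem isGeneralizedCharacter_add {χ ψ : G → ℂ} (hχ : IsGeneralizedCharacter G χ)
    (hψ : IsGeneralizedCharacter G ψ) : IsGeneralizedCharacter G (χ + ψ) := by
  obtain ⟨α, β, hα, hβ, rfl⟩ := hχ
  obtain ⟨γ, δ, hγ, hδ, rfl⟩ := hψ
  exact ⟨_, _, Core.isCharacter_add hα hγ, Core.isCharacter_add hβ hδ, by abel⟩

theorem isGeneralizedCharacter_neg {χ : G → ℂ} (hχ : IsGeneralizedCharacter G χ) :
    IsGeneralizedCharacter G (-χ) := by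
  obtain ⟨α, β, hα, hβ, rfl⟩ := hχ
  exact ⟨_, _, hβ, hα, by abel⟩

theorem isGeneralizedCharacter_sub {χ ψ : G → ℂ} (hχ : IsGeneralizedCharacter G χ)
    (hψ : IsGeneralizedCharacter G ψ) : IsGeneralizedCharacter G (χ - ψ) := by
  rw [sub_eq_add_neg]
  exact isGeneralizedCharacter_add hχ (isGeneralizedCharacter_neg hψ)

theorem isGeneralizedCharacter_mul {χ ψ : G → ℂ} (hχ : IsGeneralizedCharacter G χ)
    (hψ : IsGeneralizedCharacter G ψ) : IsGeneralizedCharacter G (χ * ψ) := by
  obtain ⟨α, β, hα, hβ, rfl⟩ := hχ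
  obtain ⟨γ, δ, hγ, hδ, rfl⟩ := hψ
  exact ⟨_, _, Core.isCharacter_add (Core.isCharacter_mul hα hγ) (Core.isCharacter_mul hβ hδ),
    Core.isCharacter_add (Core.isCharacter_mul hα hδ) (Core.isCharacter_mul hβ hγ), by ring⟩

/-- A linear character is a character. -/
theorem isCharacter_of_monoidHom (μ : G →* ℂ) : IsCharacter G (fun g => μ g) := by
  let ρ : Representation ℂ G ℂ := (algebraMap ℂ (Module.End ℂ ℂ)).toMonoidHom.comp μ
  have h : ρ.character = fun g => μ g := by
    funext g
    show LinearMap.trace ℂ ℂ (algebraMap ℂ (Module.End ℂ ℂ) (μ g)) = μ g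
    rw [Algebra.algebraMap_eq_smul_one, map_smul, LinearMap.trace_one]
    simp
  rw [← h]
  exact Core.isCharacter_of_rep ρ

/-! ### Banaschewski's lemma -/

theorem banaschewski {S : Type*} [Finite S] (W : NonUnitalSubring (S → ℤ))
    (h : ∀ (x : S) (p : ℕ), p.Prime → ∃ f ∈ W, ¬ (p : ℤ) ∣ f x) : (1 : S → ℤ) ∈ W := by
  classical
  have key : ∀ x : S, ∃ f ∈ W, f x = 1 := by
    intro x
    let I : AddSubgroup ℤ := W.toAddSubgroup.map (Pi.evalAddMonoidHom (fun _ : S => ℤ) x)
    obtain ⟨a, ha⟩ := Int.subgroup_cyclic I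
    have hmem : ∀ f ∈ W, a ∣ f x := by
      intro f hf
      have : f x ∈ I := ⟨f, hf, rfl⟩
      rw [ha, AddSubgroup.mem_closure_singleton] at this
      obtain ⟨k, hk⟩ := this
      exact ⟨k, by rw [← hk]; simp [mul_comm]⟩
    have ha1 : a.natAbs = 1 := by
      by_contra hne
      obtain ⟨p, hp, hpa⟩ := Nat.exists_prime_and_dvd hne
      obtain ⟨f, hf, hpf⟩ := h x p hp
      exact hpf ((Int.natCast_dvd.2 hpa).trans (hmem f hf))
    have h1 : (1 : ℤ) ∈ I := by
      rw [ha, AddSubgroup.mem_closure_singleton]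
      rcases Int.natAbs_eq a with h' | h' <;> rw [ha1] at h'
      · exact ⟨1, by rw [h']; simp⟩
      · exact ⟨-1, by rw [h']; simp⟩
    obtain ⟨f, hf, hfx⟩ := h1
    exact ⟨f, hf, hfx⟩
  have key2 : ∀ s : Finset S, ∃ f ∈ W, ∀ x ∈ s, f x = 1 := by
    intro s
    induction s using Finset.induction_on with
    | empty => exact ⟨0, zero_mem W, by simp⟩
    | insert a s ha ih =>
      obtain ⟨f, hf, hfs⟩ := ih
      obtain ⟨f', hf', hfa⟩ := key a
      refine ⟨f + f' - f * f', sub_mem (add_mem hf hf') (mul_mem hf hf'), ?_⟩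
      intro x hx
      rcases Finset.mem_insert.1 hx with rfl | hx
      · simp [hfa]
      · simp [hfs x hx]
  have := Fintype.ofFinite S
  obtain ⟨f, hf, hf1⟩ := key2 Finset.univ
  have : f = 1 := funext fun x => hf1 x (Finset.mem_univ x)
  rwa [this] at hf

/-! ### A retraction of finitely generated modules of algebraic integers onto `ℤ` -/

theorem exists_retraction (B : Submodule ℤ ℂ) (hB : B.FG) (h1 : (1 : ℂ) ∈ B)
    (hint : ∀ b ∈ B, IsIntegral ℤ b) : ∃ π : B →ₗ[ℤ] ℤ, π ⟨1, h1⟩ = 1 := by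
  have : Module.Finite ℤ B := Module.Finite.iff_fg.2 hB
  let e : B := ⟨1, h1⟩
  have he : e ≠ 0 := fun h => one_ne_zero (congrArg Subtype.val h)
  let N : Submodule ℤ B := Submodule.span ℤ {e}
  have htf : ∀ (n : ℤ) (b : B), n ≠ 0 → n • b ∈ N → b ∈ N := by
    intro n b hn hb
    rw [Submodule.mem_span_singleton] at hb
    obtain ⟨k, hk⟩ := hb
    have hk' : (k : ℂ) = n * (b : ℂ) := by
      have := congrArg Subtype.val hk
      simpa [e] using this
    have hn' : (n : ℂ) ≠ 0 := Int.cast_ne_zero.2 hn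
    have hbq : (b : ℂ) = algebraMap ℚ ℂ ((k : ℚ) / n) := by
      have : (b : ℂ) = (k : ℂ) / n := by rw [hk', mul_div_cancel_left₀ _ hn']
      rw [this]
      simp
    have hi := hint b b.2
    rw [hbq, isIntegral_algebraMap_iff (algebraMap ℚ ℂ).injective,
      IsIntegrallyClosed.isIntegral_iff] at hi
    obtain ⟨y, hy⟩ := hi
    rw [Submodule.mem_span_singleton]
    refine ⟨y, Subtype.ext ?_⟩
    rw [hbq, ← hy]
    simp [e]
  have : Module.IsTorsionFree ℤ (B ⧸ N) := by
    rw [Module.isTorsionFree_iff_smul_eq_zero]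
    intro n x hnx
    by_contra hcon
    push Not at hcon
    obtain ⟨hn, hx⟩ := hcon
    obtain ⟨b, rfl⟩ := N.mkQ_surjective x
    apply hx
    rw [← map_smul, Submodule.mkQ_apply, Submodule.Quotient.mk_eq_zero] at hnx
    rw [Submodule.mkQ_apply, Submodule.Quotient.mk_eq_zero]
    exact htf n b hn hnx
  have : Module.Finite ℤ (B ⧸ N) := inferInstance
  have : Module.Free ℤ (B ⧸ N) := Module.free_of_finite_type_torsion_free'
  obtain ⟨g, hg⟩ := Module.projective_lifting_property N.mkQ LinearMap.id N.mkQ_surjective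
  let q : B →ₗ[ℤ] B := LinearMap.id - g.comp N.mkQ
  have hq : ∀ b, q b ∈ N := by
    intro b
    have h2 : N.mkQ (q b) = 0 := by
      show N.mkQ (b - g (N.mkQ b)) = 0
      rw [map_sub]
      have := LinearMap.congr_fun hg (N.mkQ b)
      rw [LinearMap.comp_apply, LinearMap.id_apply] at this
      rw [this, sub_self]
    rwa [Submodule.mkQ_apply, Submodule.Quotient.mk_eq_zero] at h2
  let q' : B →ₗ[ℤ] N := q.codRestrict N hq
  let eq1 : ℤ ≃ₗ[ℤ] N := LinearEquiv.toSpanNonzeroSingleton ℤ B e he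
  refine ⟨eq1.symm.toLinearMap.comp q', ?_⟩
  show eq1.symm (q' e) = 1
  rw [LinearEquiv.symm_apply_eq]
  apply Subtype.ext
  show e - g (N.mkQ e) = (1 : ℤ) • e
  have : N.mkQ e = 0 := by
    rw [Submodule.mkQ_apply, Submodule.Quotient.mk_eq_zero]
    exact Submodule.mem_span_singleton_self e
  rw [this, map_zero, sub_zero, one_smul]

/-! ### The elementary subgroup `⟨s⟩ × P` -/

/-- The generators of the Brauer ideal. -/
def elemSet (G : Type*) [Group G] [Fintype G] : Set (G → ℂ) :=
  {f | ∃ (E : Subgroup G) (p : ℕ) (φ : E → ℂ), p.Prime ∧ IsElementary p E ∧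
    IsCharacter E φ ∧ f = indFun E φ}

theorem mem_elemSet_iff {G : Type*} [Group G] [Fintype G] {f : G → ℂ} :
    f ∈ elemSet G ↔ ∃ (E : Subgroup G) (p : ℕ) (φ : E → ℂ), p.Prime ∧ IsElementary p E ∧
      IsCharacter E φ ∧ f = indFun E φ := Iff.rfl

section elementary

variable [Finite G]

/-- Being elementary is invariant under isomorphism. -/
theorem isElementary_of_mulEquiv {E E' : Type*} [Group E] [Group E'] (e : E ≃* E') {p : ℕ}
    (h : IsElementary p E) : IsElementary p E' := by
  obtain ⟨x, hx, hc, k, hk⟩ := h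
  refine ⟨e x, ?_, ?_, k, ?_⟩
  · rw [Subgroup.mem_center_iff] at hx ⊢
    intro g
    obtain ⟨g, rfl⟩ := e.surjective g
    rw [← map_mul, ← map_mul, hx g]
  · rwa [MulEquiv.orderOf_eq]
  · have : Subgroup.zpowers (e x) = (Subgroup.zpowers x).map e.toMonoidHom := by
      rw [MonoidHom.map_zpowers]; rfl
    rw [this]
    exact (Subgroup.index_map_equiv (Subgroup.zpowers x) e).trans hk

/-- A direct product of a cyclic `p'`-group and a finite `p`-group is elementary. -/
theorem isElementary_prod {C P : Type*} [Group C] [Group P] [Finite C] [Finite P] {p : ℕ}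
    [Fact p.Prime] (s : C) (hs : ∀ c : C, c ∈ Subgroup.zpowers s) (hc : (orderOf s).Coprime p)
    (hP : IsPGroup p P) : IsElementary p (C × P) := by
  refine ⟨(s, 1), ?_, ?_, ?_⟩
  · rw [Subgroup.mem_center_iff]
    rintro ⟨c, v⟩
    obtain ⟨k, rfl⟩ := Subgroup.mem_zpowers_iff.1 (hs c)
    simp only [Prod.mk_mul_mk, mul_one, one_mul, Prod.mk.injEq, and_true]
    exact ((Commute.refl s).zpow_left k).eq
  · rwa [Prod.orderOf_mk, orderOf_one, Nat.lcm_one_right]
  · obtain ⟨k, hk⟩ := hP.exists_card_eq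
    refine ⟨k, ?_⟩
    have h1 := Subgroup.card_mul_index (Subgroup.zpowers ((s, 1) : C × P))
    rw [Nat.card_zpowers, Prod.orderOf_mk, orderOf_one, Nat.lcm_one_right, Nat.card_prod,
      ← orderOf_eq_card_of_forall_mem_zpowers hs, hk] at h1
    exact Nat.eq_of_mul_eq_mul_left (orderOf_pos s) h1

end elementary

theorem isIntegral_monoidHom {C : Type*} [Group C] [Finite C] (l : C →* ℂ) (c : C) :
    IsIntegral ℤ (l c) := by
  have h : (l c) ^ Nat.card C = 1 := by
    rw [← map_pow, pow_card_eq_one', map_one]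
  exact IsIntegral.of_pow Nat.card_pos (by rw [h]; exact isIntegral_one)

/-- The linear characters of a finite abelian group separate points: orthogonality. -/
theorem exists_dual (C : Type*) [CommGroup C] [Finite C] [DecidableEq C] : ∃ S : Finset (C →* ℂ), ∀ c : C,
    ∑ μ ∈ S, μ c = if c = 1 then (Nat.card C : ℂ) else 0 := by
  classical
  have : Fintype C := Fintype.ofFinite C
  let F : AddChar (Additive C) ℂ → (C →* ℂ) := fun l =>
    { toFun := fun c => l (Additive.ofMul c)
      map_one' := by rw [ofMul_one, AddChar.map_zero_eq_one]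
      map_mul' := fun a b => by rw [ofMul_mul, AddChar.map_add_eq_mul] }
  have hF : ∀ l c, F l c = l (Additive.ofMul c) := fun _ _ => rfl
  have hinj : Function.Injective F := by
    intro l l' h
    ext c
    have := DFunLike.congr_fun h (Additive.toMul c)
    rwa [hF, hF] at this
  refine ⟨Finset.univ.map ⟨F, hinj⟩, fun c => ?_⟩
  rw [Finset.sum_map]
  have h1 := AddChar.sum_apply_eq_ite (Additive.ofMul c)
  have h2 : (Nat.card C : ℂ) = (Fintype.card (Additive C) : ℂ) := by
    rw [← Nat.card_eq_fintype_card]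
    rfl
  rw [h2]
  by_cases hc : c = 1
  · rw [if_pos hc, if_pos (by rw [hc]; rfl)] at *
    exact h1
  · rw [if_neg (fun h => hc (ofMul_eq_zero.1 h))] at h1
    rw [if_neg hc]
    exact h1

theorem mem_span_count [Fintype G] (p : ℕ) [Fact p.Prime] (s : G) (P : Subgroup G)
    (hcomm : ∀ v ∈ P, Commute s v) (hs : (orderOf s).Coprime p) (hP : IsPGroup p P) :
    (fun y : G => (Nat.card P : ℂ)⁻¹ * (Nat.card {z : G // s⁻¹ * (z⁻¹ * y * z) ∈ P} : ℂ)) ∈
      Submodule.span (integralClosure ℤ ℂ) (elemSet G) := by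
  classical
  let C := Subgroup.zpowers s
  have hCP : ∀ (m : C) (n : P), Commute (C.subtype m) (P.subtype n) := by
    intro m n
    obtain ⟨k, hk⟩ := Subgroup.mem_zpowers_iff.1 m.2
    show Commute (m : G) (n : G)
    rw [← hk]
    exact (hcomm n n.2).zpow_left k
  let Ψ : C × P →* G := MonoidHom.noncommCoprod C.subtype P.subtype hCP
  have hΨ : ∀ c v, Ψ (c, v) = (c : G) * (v : G) := fun c v => rfl
  have hinj : Function.Injective Ψ := by
    rw [MonoidHom.noncommCoprod_injective]
    refine ⟨C.subtype_injective, P.subtype_injective, ?_⟩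
    rw [Subgroup.range_subtype, Subgroup.range_subtype]
    apply Subgroup.disjoint_of_coprime_natCard
    obtain ⟨k, hk⟩ := hP.exists_card_eq
    rw [hk, Nat.card_zpowers]
    exact Nat.Coprime.pow_right k hs
  let H := Ψ.range
  let e : C × P ≃* H := MonoidHom.ofInjective hinj
  have he : ∀ x, ((e x : H) : G) = Ψ x := fun x => rfl
  let s' : C := ⟨s, Subgroup.mem_zpowers s⟩
  have hs' : ∀ c : C, c ∈ Subgroup.zpowers s' := by
    intro c
    obtain ⟨k, hk⟩ := Subgroup.mem_zpowers_iff.1 c.2
    exact Subgroup.mem_zpowers_iff.2 ⟨k, Subtype.ext hk⟩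
  have hel : IsElementary p H := by
    refine isElementary_of_mulEquiv e (isElementary_prod s' hs' ?_ hP)
    rw [← Subgroup.orderOf_coe]
    exact hs
  obtain ⟨S, hS⟩ : ∃ S : Finset (C →* ℂ), ∀ c : C,
      ∑ μ ∈ S, μ c = if c = 1 then (Nat.card C : ℂ) else 0 := by
    let _ : CommGroup C := { (inferInstance : Group C) with
      mul_comm := fun a b => mul_comm' a b }
    exact exists_dual C
  let μ : (C →* ℂ) → (H →* ℂ) := fun l => (l.comp (MonoidHom.fst C P)).comp e.symm.toMonoidHom
  have hμ : ∀ l h, μ l h = l (e.symm h).1 := fun _ _ => rfl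
  have hmem : ∀ l, indFun H (fun h => μ l h) ∈ elemSet G := fun l =>
    ⟨H, p, fun h => μ l h, Fact.out, hel, isCharacter_of_monoidHom (μ l), rfl⟩
  have hfun : (fun y : G => (Nat.card P : ℂ)⁻¹ *
      (Nat.card {z : G // s⁻¹ * (z⁻¹ * y * z) ∈ P} : ℂ)) =
      ∑ l ∈ S, (⟨l s'⁻¹, isIntegral_monoidHom l _⟩ :
        integralClosure ℤ ℂ) • indFun H (fun h => μ l h) := by
    have h1 : ∀ l : C →* ℂ, (⟨l s'⁻¹, isIntegral_monoidHom l _⟩ :
        integralClosure ℤ ℂ) • indFun H (fun h => μ l h) =
        indFun H ((l s'⁻¹) • (fun h => μ l h)) := by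
      intro l
      rw [indFun_smul]
      rfl
    rw [Finset.sum_congr rfl (fun l _ => h1 l), ← indFun_sum]
    have h2 : ∑ l ∈ S, (l s'⁻¹) • (fun h : H => μ l h) =
        fun h : H => if (e.symm h).1 = s' then (Nat.card C : ℂ) else 0 := by
      funext h
      rw [Finset.sum_apply]
      have h3 : ∀ l : C →* ℂ, ((l s'⁻¹) • (fun h : H => μ l h)) h = l (s'⁻¹ * (e.symm h).1) := by
        intro l
        rw [map_mul]
        rfl
      rw [Finset.sum_congr rfl (fun l _ => h3 l), hS]
      congr 1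
      rw [inv_mul_eq_one]
      exact propext eq_comm
    rw [h2]
    funext y
    rw [indFun_apply]
    have h4 : ∀ g : G, extendByZero H (fun h : H => if (e.symm h).1 = s' then
        (Nat.card C : ℂ) else 0) g = if s⁻¹ * g ∈ P then (Nat.card C : ℂ) else 0 := by
      intro g
      by_cases hg : g ∈ H
      · rw [extendByZero_mem H _ hg]
        obtain ⟨⟨c, v⟩, rfl⟩ := hg
        have h5 : e.symm ⟨Ψ (c, v), ⟨(c, v), rfl⟩⟩ = (c, v) := by
          rw [MulEquiv.symm_apply_eq]; rfl
        rw [h5, hΨ]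
        congr 1
        apply propext
        constructor
        · intro h6
          have h6' : c = s' := h6
          rw [h6']
          show s⁻¹ * (s * (v : G)) ∈ P
          rw [inv_mul_cancel_left]
          exact v.2
        · intro h6
          have h7 : Ψ (c, v) = Ψ (s', ⟨_, h6⟩) := by
            rw [hΨ, hΨ]
            simp [s']
          exact congrArg Prod.fst (hinj h7)
      · rw [extendByZero_notMem H _ hg, if_neg]
        intro hcon
        apply hg
        refine ⟨(s', ⟨_, hcon⟩), ?_⟩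
        rw [hΨ]
        simp [s']
    rw [Finset.sum_congr rfl (fun x _ => h4 _), ← Finset.sum_filter, Finset.sum_const,
      nsmul_eq_mul]
    have hcard : Nat.card H = Nat.card C * Nat.card P := by
      rw [← Nat.card_prod]; exact (Nat.card_congr e.toEquiv).symm
    have hc2 : Nat.card {z : G // s⁻¹ * (z⁻¹ * y * z) ∈ P} =
        (Finset.univ.filter (fun z : G => s⁻¹ * (z⁻¹ * y * z) ∈ P)).card := by
      rw [Nat.card_eq_fintype_card, Fintype.card_subtype]
    have hC0 : (Nat.card C : ℂ) ≠ 0 := Nat.cast_ne_zero.2 Nat.card_pos.ne'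
    have hP0 : (Nat.card P : ℂ) ≠ 0 := Nat.cast_ne_zero.2 Nat.card_pos.ne'
    rw [hc2, hcard]
    push_cast
    field_simp
  rw [hfun]
  exact Submodule.sum_mem _ fun l _ => Submodule.smul_mem _ _ (Submodule.subset_span (hmem l))

/-! ### Counting -/

theorem exists_count [Finite G] (s : G) (P : Subgroup G) (hcomm : ∀ v ∈ P, Commute s v) (y : G) :
    ∃ n : ℕ, Nat.card {z : G // s⁻¹ * (z⁻¹ * y * z) ∈ P} = Nat.card P * n := by
  let T : Set G := {z : G | s⁻¹ * (z⁻¹ * y * z) ∈ P}
  have hT : T * (P : Set G) = T := by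
    ext z
    constructor
    · rintro ⟨t, ht, v, hv, rfl⟩
      show s⁻¹ * ((t * v)⁻¹ * y * (t * v)) ∈ P
      have h1 : s⁻¹ * ((t * v)⁻¹ * y * (t * v)) = v⁻¹ * (s⁻¹ * (t⁻¹ * y * t)) * v := by
        have h2 : s⁻¹ * v⁻¹ = v⁻¹ * s⁻¹ := ((hcomm v hv).inv_left.inv_right).eq
        calc s⁻¹ * ((t * v)⁻¹ * y * (t * v)) = (s⁻¹ * v⁻¹) * (t⁻¹ * y * t) * v := by group
          _ = (v⁻¹ * s⁻¹) * (t⁻¹ * y * t) * v := by rw [h2]
          _ = v⁻¹ * (s⁻¹ * (t⁻¹ * y * t)) * v := by group
      rw [h1]
      exact P.mul_mem (P.mul_mem (P.inv_mem hv) ht) hv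
    · intro hz
      exact ⟨z, hz, 1, P.one_mem, mul_one z⟩
  refine ⟨Nat.card (T.image (QuotientGroup.mk : G → G ⧸ P)), ?_⟩
  have := Subgroup.card_mul_eq_card_subgroup_mul_card_quotient P T
  rw [hT] at this
  exact this

theorem count_fix {Z : Type*} [Group Z] [Finite Z] {p : ℕ} [Fact p.Prime] (P : Sylow p Z) (u : Z)
    (hu : IsPGroup p (Subgroup.zpowers u)) :
    ∃ n : ℕ, Nat.card {z : Z // z⁻¹ * u * z ∈ P} = Nat.card P * n ∧ ¬ p ∣ n := by
  let T : Set Z := {z : Z | z⁻¹ * u * z ∈ P}
  have hT : T * ((P : Subgroup Z) : Set Z) = T := by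
    ext z
    constructor
    · rintro ⟨t, ht, v, hv, rfl⟩
      show (t * v)⁻¹ * u * (t * v) ∈ (P : Subgroup Z)
      have h1 : (t * v)⁻¹ * u * (t * v) = v⁻¹ * (t⁻¹ * u * t) * v := by group
      rw [h1]
      exact mul_mem (mul_mem (inv_mem hv) ht) hv
    · intro hz
      exact ⟨z, hz, 1, one_mem (P : Subgroup Z), mul_one z⟩
  refine ⟨Nat.card (T.image (QuotientGroup.mk : Z → Z ⧸ (P : Subgroup Z))), ?_, ?_⟩
  · have := Subgroup.card_mul_eq_card_subgroup_mul_card_quotient (P : Subgroup Z) T
    rw [hT] at this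
    exact this
  · have hfix : T.image (QuotientGroup.mk : Z → Z ⧸ (P : Subgroup Z)) =
        MulAction.fixedPoints (Subgroup.zpowers u) (Z ⧸ (P : Subgroup Z)) := by
      ext q
      constructor
      · rintro ⟨z, hz, rfl⟩
        rw [MulAction.mem_fixedPoints]
        have h1 : u • (QuotientGroup.mk z : Z ⧸ (P : Subgroup Z)) = QuotientGroup.mk z := by
          show (QuotientGroup.mk (u * z) : Z ⧸ (P : Subgroup Z)) = QuotientGroup.mk z
          rw [eq_comm, QuotientGroup.eq, ← mul_assoc]
          exact hz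
        rintro ⟨g, hg⟩
        have h2 : Subgroup.zpowers u ≤
            MulAction.stabilizer Z (QuotientGroup.mk z : Z ⧸ (P : Subgroup Z)) := by
          rw [Subgroup.zpowers_le]
          exact h1
        exact h2 hg
      · intro hq
        obtain ⟨z, rfl⟩ := QuotientGroup.mk_surjective q
        refine ⟨z, ?_, rfl⟩
        rw [MulAction.mem_fixedPoints] at hq
        have h1 : u • (QuotientGroup.mk z : Z ⧸ (P : Subgroup Z)) = QuotientGroup.mk z :=
          hq ⟨u, Subgroup.mem_zpowers u⟩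
        have h2 : (QuotientGroup.mk (u * z) : Z ⧸ (P : Subgroup Z)) = QuotientGroup.mk z := h1
        rw [eq_comm, QuotientGroup.eq, ← mul_assoc] at h2
        exact h2
    rw [hfix]
    intro hdvd
    have h1 := hu.card_modEq_card_fixedPoints (Z ⧸ (P : Subgroup Z))
    have h2 : p ∣ Nat.card (Z ⧸ (P : Subgroup Z)) :=
      (Nat.modEq_zero_iff_dvd.1 (h1.trans (Nat.modEq_zero_iff_dvd.2 hdvd)))
    exact P.not_dvd_index h2

/-- Splitting exponent: `e ≡ 1` modulo the `p'`-part and `e ≡ 0` modulo the `p`-part of `n`. -/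
theorem exists_exponent (n p : ℕ) (hn : n ≠ 0) (hp : p.Prime) : ∃ (e k m : ℕ), n = p ^ k * m ∧
    Nat.Coprime m p ∧ e ≡ 1 [MOD m] ∧ e ≡ 0 [MOD p ^ k] := by
  obtain ⟨k, m, hm, rfl⟩ := Nat.exists_eq_pow_mul_and_not_dvd hn p hp.ne_one
  have hc : Nat.Coprime m p := (Nat.Coprime.symm ((Nat.Prime.coprime_iff_not_dvd hp).2 hm))
  obtain ⟨e, he1, he2⟩ := Nat.chineseRemainder (Nat.Coprime.pow_right k hc) 1 0
  exact ⟨e, k, m, rfl, hc, he1, he2⟩

theorem exists_good [Fintype G] (x : G) (p : ℕ) (hp : p.Prime) : ∃ f : G → ℤ,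
    (fun g => (f g : ℂ)) ∈ Submodule.span (integralClosure ℤ ℂ) (elemSet G) ∧
      ¬ (p : ℤ) ∣ f x := by
  have : Fact p.Prime := ⟨hp⟩
  obtain ⟨e, k, m, hn, hmp, he1, he0⟩ :=
    exists_exponent (Nat.card G) p Nat.card_pos.ne' hp
  have hpke : p ^ k ∣ e := Nat.modEq_zero_iff_dvd.1 he0
  have hord : ∀ g : G, g ^ (p ^ k * m) = 1 := fun g => by rw [← hn]; exact pow_card_eq_one'
  obtain ⟨s, hs⟩ : ∃ s, s = x ^ e := ⟨_, rfl⟩
  obtain ⟨u, hu⟩ : ∃ u, u = s⁻¹ * x := ⟨_, rfl⟩
  have hsx : Commute s x := by rw [hs]; exact (Commute.refl x).pow_left e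
  have hxsu : x = s * u := by rw [hu, mul_inv_cancel_left]
  have hsu : Commute s u := by rw [hu]; exact ((Commute.refl s).inv_right).mul_right hsx
  have hsm : s ^ m = 1 := by
    obtain ⟨c, hc⟩ := hpke
    rw [hs, ← pow_mul, hc]
    have : p ^ k * c * m = (p ^ k * m) * c := by ring
    rw [this, pow_mul, hord, one_pow]
  have hsord : (orderOf s).Coprime p := Nat.Coprime.coprime_dvd_left (orderOf_dvd_of_pow_eq_one hsm) hmp
  have hse : s ^ e = s := by
    have h1 : e ≡ 1 [MOD orderOf s] := he1.of_dvd (orderOf_dvd_of_pow_eq_one hsm)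
    have h2 := (pow_eq_pow_iff_modEq (x := s)).2 h1
    rwa [pow_one] at h2
  have hupk : u ^ p ^ k = 1 := by
    have h1 : u = x ^ (1 - (e : ℤ)) := by
      rw [hu, hs, sub_eq_neg_add, zpow_add, zpow_neg, zpow_natCast, zpow_one]
    have h2 : (m : ℤ) ∣ 1 - e := (Nat.modEq_iff_dvd.1 he1)
    obtain ⟨c, hc⟩ := h2
    rw [h1, hc, ← zpow_natCast, ← zpow_mul]
    have h3 : (m : ℤ) * c * ((p ^ k : ℕ) : ℤ) = ((p ^ k * m : ℕ) : ℤ) * c := by push_cast; ring
    rw [h3, zpow_mul, zpow_natCast, hord, one_zpow]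
  have hve : ∀ v : G, (∃ j, v ^ p ^ j = 1) → v ^ e = 1 := by
    rintro v ⟨j, hj⟩
    have h1 : orderOf v ∣ p ^ k := by
      have h2 : (orderOf v).Coprime m :=
        Nat.Coprime.coprime_dvd_left (orderOf_dvd_of_pow_eq_one hj)
          (Nat.Coprime.pow_left j hmp.symm)
      exact h2.dvd_of_dvd_mul_right (orderOf_dvd_of_pow_eq_one (hord v))
    exact orderOf_dvd_iff_pow_eq_one.1 (h1.trans hpke)
  let Z : Subgroup G := Subgroup.centralizer {s}
  have hZ : ∀ z : G, z ∈ Z ↔ s * z = z * s := fun z => by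
    rw [Subgroup.mem_centralizer_iff]
    simp
  obtain ⟨P0⟩ : Nonempty (Sylow p Z) := inferInstance
  let P : Subgroup G := (P0 : Subgroup Z).map Z.subtype
  have hP : IsPGroup p P := P0.isPGroup'.map Z.subtype
  have hPZ : ∀ v ∈ P, Commute s v := by
    rintro v ⟨v', _, rfl⟩
    exact (hZ v').1 v'.2
  have hPc : Nat.card P = Nat.card P0 := by
    exact Subgroup.card_map_of_injective Z.subtype_injective
  choose n hn' using exists_count s P hPZ
  refine ⟨fun y => n y, ?_, ?_⟩
  · have h1 := mem_span_count p s P hPZ hsord hP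
    have h2 : (fun g : G => (((n g : ℕ) : ℤ) : ℂ)) = fun y : G => (Nat.card P : ℂ)⁻¹ *
        (Nat.card {z : G // s⁻¹ * (z⁻¹ * y * z) ∈ P} : ℂ) := by
      funext y
      have hP0 : (Nat.card P : ℂ) ≠ 0 := Nat.cast_ne_zero.2 Nat.card_pos.ne'
      rw [hn' y]
      push_cast
      field_simp
    rw [h2]
    exact h1
  · have huZ : u ∈ Z := (hZ u).2 hsu.eq
    obtain ⟨n', hn1, hn2⟩ := count_fix P0 (⟨u, huZ⟩ : Z) (by
      rintro ⟨g, hg⟩
      obtain ⟨i, rfl⟩ := Subgroup.mem_zpowers_iff.1 hg
      refine ⟨k, Subtype.ext (Subtype.ext ?_)⟩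
      simp only [SubmonoidClass.mk_pow, SubgroupClass.coe_zpow, OneMemClass.coe_one,
        SubmonoidClass.coe_pow]
      rw [← zpow_natCast, ← zpow_mul, mul_comm, zpow_mul, zpow_natCast, hupk, one_zpow])
    have hcard : Nat.card {z : G // s⁻¹ * (z⁻¹ * x * z) ∈ P} =
        Nat.card {z : Z // z⁻¹ * (⟨u, huZ⟩ : Z) * z ∈ P0} := by
      have hmem : ∀ z : G, s⁻¹ * (z⁻¹ * x * z) ∈ P → z ∈ Z := by
        intro z hz
        obtain ⟨v, hv⟩ : ∃ v, v = s⁻¹ * (z⁻¹ * x * z) := ⟨_, rfl⟩
        rw [← hv] at hz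
        have h1 : z⁻¹ * x * z = s * v := by rw [hv, mul_inv_cancel_left]
        have h2 : (z⁻¹ * x * z) ^ e = z⁻¹ * s * z := by
          have := conj_pow (i := e) (a := z⁻¹) (b := x)
          rw [inv_inv] at this
          rw [this, hs]
        rw [h1, (hPZ v hz).mul_pow, hse, hve v, mul_one] at h2
        · rw [hZ]
          calc s * z = z * (z⁻¹ * s * z) := by group
            _ = z * s := by rw [← h2]
        · obtain ⟨j, hj⟩ := hP ⟨v, hz⟩
          exact ⟨j, by simpa using congrArg Subtype.val hj⟩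
      have heq : ∀ z : Z, (s⁻¹ * ((z : G)⁻¹ * x * z) ∈ P ↔ z⁻¹ * (⟨u, huZ⟩ : Z) * z ∈ P0) := by
        intro z
        have h1 : s⁻¹ * ((z : G)⁻¹ * x * z) = (z : G)⁻¹ * u * z := by
          have h2 : (z : G)⁻¹ * s = s * (z : G)⁻¹ := by
            have h3 : Commute s z := (hZ z).1 z.2
            exact (h3.inv_right).eq.symm
          calc s⁻¹ * ((z : G)⁻¹ * x * z) = s⁻¹ * ((z : G)⁻¹ * s) * u * z := by rw [hxsu]; group
            _ = (z : G)⁻¹ * u * z := by rw [h2]; group
        rw [h1]
        constructor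
        · rintro ⟨w, hw, hw2⟩
          have : w = z⁻¹ * (⟨u, huZ⟩ : Z) * z := Subtype.ext hw2
          rw [← this]
          exact hw
        · intro h
          exact ⟨_, h, rfl⟩
      refine Nat.card_congr
        { toFun := fun z => ⟨⟨z.1, hmem z.1 z.2⟩, (heq ⟨z.1, hmem z.1 z.2⟩).1 z.2⟩
          invFun := fun z => ⟨z.1.1, (heq z.1).2 z.2⟩
          left_inv := fun z => rfl
          right_inv := fun z => rfl }
    rw [hn' x, hPc] at hcard
    have h3 : n x = n' := by
      have := hcard.trans hn1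
      exact Nat.eq_of_mul_eq_mul_left Nat.card_pos this
    show ¬ (p : ℤ) ∣ (n x : ℤ)
    rw [h3, Int.natCast_dvd_natCast]
    exact hn2

/-! ### The main theorem -/

theorem elemSet_isCharacter [Fintype G] {f : G → ℂ} (hf : f ∈ elemSet G) : IsCharacter G f := by
  obtain ⟨E, p, φ, _, _, hφ, rfl⟩ := hf
  exact isCharacter_indFun E hφ

theorem elemSet_mul [Fintype G] {f f' : G → ℂ} (hf : f ∈ elemSet G) (hf' : IsCharacter G f') :
    f * f' ∈ elemSet G := by
  obtain ⟨E, p, φ, hp, hE, hφ, rfl⟩ := hf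
  refine ⟨E, p, fun h => φ h * f' h, hp, hE, ?_, indFun_mul E φ f'
    (Core.isCharacter_isClassFunction hf')⟩
  exact Core.isCharacter_mul hφ (isCharacter_restrict hf' E)

theorem span_mul [Fintype G] {f f' : G → ℂ}
    (hf : f ∈ Submodule.span (integralClosure ℤ ℂ) (elemSet G))
    (hf' : f' ∈ Submodule.span (integralClosure ℤ ℂ) (elemSet G)) :
    f * f' ∈ Submodule.span (integralClosure ℤ ℂ) (elemSet G) := by
  refine Submodule.span_induction₂ (p := fun a b _ _ => a * b ∈
    Submodule.span (integralClosure ℤ ℂ) (elemSet G)) ?_ ?_ ?_ ?_ ?_ ?_ ?_ hf hf'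
  · intro x y hx hy
    exact Submodule.subset_span (elemSet_mul hx (elemSet_isCharacter hy))
  · intro y _
    rw [zero_mul]; exact zero_mem _
  · intro x _
    rw [mul_zero]; exact zero_mem _
  · intro x y z _ _ _ hx hy
    rw [add_mul]; exact add_mem hx hy
  · intro x y z _ _ _ hx hy
    rw [mul_add]; exact add_mem hx hy
  · intro r x y _ _ h
    rw [smul_mul_assoc]; exact Submodule.smul_mem _ _ h
  · intro r x y _ _ h
    rw [mul_smul_comm]; exact Submodule.smul_mem _ _ h

theorem one_mem_span [Fintype G] :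
    (1 : G → ℂ) ∈ Submodule.span (integralClosure ℤ ℂ) (elemSet G) := by
  let W : NonUnitalSubring (G → ℤ) :=
    { carrier := {f | (fun g => (f g : ℂ)) ∈ Submodule.span (integralClosure ℤ ℂ) (elemSet G)}
      add_mem' := by
        intro a b ha hb
        have h : (fun g => (((a + b) g : ℤ) : ℂ)) = (fun g => (a g : ℂ)) + fun g => (b g : ℂ) := by
          funext g; simp
        show (fun g => (((a + b) g : ℤ) : ℂ)) ∈ Submodule.span (integralClosure ℤ ℂ) (elemSet G)
        rw [h]
        exact add_mem ha hb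
      zero_mem' := by
        have h : (fun g => (((0 : G → ℤ) g : ℤ) : ℂ)) = 0 := by
          funext g; simp
        show (fun g => (((0 : G → ℤ) g : ℤ) : ℂ)) ∈ Submodule.span (integralClosure ℤ ℂ) (elemSet G)
        rw [h]
        exact zero_mem _
      mul_mem' := by
        intro a b ha hb
        have h : (fun g => (((a * b) g : ℤ) : ℂ)) = (fun g => (a g : ℂ)) * fun g => (b g : ℂ) := by
          funext g; simp
        show (fun g => (((a * b) g : ℤ) : ℂ)) ∈ Submodule.span (integralClosure ℤ ℂ) (elemSet G)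
        rw [h]
        exact span_mul ha hb
      neg_mem' := by
        intro a ha
        have h : (fun g => (((-a) g : ℤ) : ℂ)) = -(fun g => (a g : ℂ)) := by
          funext g; simp
        show (fun g => (((-a) g : ℤ) : ℂ)) ∈ Submodule.span (integralClosure ℤ ℂ) (elemSet G)
        rw [h]
        exact neg_mem ha }
  have h1 : (1 : G → ℤ) ∈ W := banaschewski W fun x p hp => exists_good x p hp
  have h2 : (fun g => (((1 : G → ℤ) g : ℤ) : ℂ)) ∈
    Submodule.span (integralClosure ℤ ℂ) (elemSet G) := h1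
  have h3 : (fun g => (((1 : G → ℤ) g : ℤ) : ℂ)) = 1 := by
    funext g; simp
  rwa [h3] at h2

/-- Brauer's theorem (core): the principal character is a `ℤ`-combination of characters induced
from elementary subgroups. -/
theorem one_mem_closure_elemSet [Fintype G] : (1 : G → ℂ) ∈ AddSubgroup.closure (elemSet G) := by
  classical
  obtain ⟨n, a, v, hav⟩ := Submodule.mem_span_set'.1 (one_mem_span (G := G))
  let B : Submodule ℤ ℂ := Submodule.span ℤ ((Set.range fun i => ((a i : integralClosure ℤ ℂ) : ℂ))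
    ∪ {1})
  have hB : B.FG := Submodule.fg_span ((Set.finite_range _).union (Set.finite_singleton _))
  have h1 : (1 : ℂ) ∈ B := Submodule.subset_span (Or.inr rfl)
  have hint : ∀ b ∈ B, IsIntegral ℤ b := by
    intro b hb
    have hle : B ≤ Subalgebra.toSubmodule (integralClosure ℤ ℂ) := by
      rw [Submodule.span_le]
      rintro x (⟨i, rfl⟩ | hx)
      · exact (a i).2
      · rw [Set.mem_singleton_iff] at hx
        rw [hx]
        exact one_mem (integralClosure ℤ ℂ)
    exact hle hb
  obtain ⟨π, hπ⟩ := exists_retraction B hB h1 hint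
  have haB : ∀ i, ((a i : integralClosure ℤ ℂ) : ℂ) ∈ B := fun i =>
    Submodule.subset_span (Or.inl ⟨i, rfl⟩)
  have hv : ∀ i, IsCharacter G (v i : G → ℂ) := fun i => elemSet_isCharacter (v i).2
  have hav' : ∑ i, ((a i : integralClosure ℤ ℂ) : ℂ) • (v i : G → ℂ) = 1 := hav
  have key : ∑ i, ((π ⟨_, haB i⟩ : ℤ) : ℂ) • (v i : G → ℂ) = 1 := by
    rw [← sub_eq_zero]
    apply Core.classFunction_eq_zero
    · intro g h
      simp only [Pi.sub_apply, Finset.sum_apply, Pi.smul_apply, Pi.one_apply, smul_eq_mul]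
      congr 1
      refine Finset.sum_congr rfl fun i _ => ?_
      rw [Core.isCharacter_isClassFunction (hv i) g h]
    · intro χ hχ
      rw [Core.classInner_sub_left, Core.classInner_sum_left, sub_eq_zero]
      simp_rw [Core.classInner_smul_left]
      have hχ' := Core.isIrr_isCharacter hχ
      have hn : ∀ i, ∃ m : ℕ, classInner (v i : G → ℂ) χ = m := fun i =>
        Core.classInner_isNat (hv i) hχ'
      choose m hm using hn
      obtain ⟨m1, hm1⟩ := Core.classInner_isNat (Core.isCharacter_one (G := G)) hχ'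
      have h2 : ∑ i, ((a i : integralClosure ℤ ℂ) : ℂ) * (m i : ℂ) = m1 := by
        rw [← hm1, ← hav', Core.classInner_sum_left]
        refine Finset.sum_congr rfl fun i _ => ?_
        rw [Core.classInner_smul_left, hm]
      have h3 : ∑ i, (m i : ℤ) • (⟨_, haB i⟩ : B) = (m1 : ℤ) • (⟨1, h1⟩ : B) := by
        apply Subtype.ext
        rw [Submodule.coe_sum]
        simp only [Submodule.coe_smul, zsmul_eq_mul, Int.cast_natCast, mul_one]
        rw [← h2]
        refine Finset.sum_congr rfl fun i _ => ?_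
        rw [mul_comm]
      have h4 := congrArg π h3
      rw [map_sum, map_smul, hπ] at h4
      simp only [map_smul, smul_eq_mul, mul_one] at h4
      have h5 := congrArg (fun z : ℤ => (z : ℂ)) h4
      simp only [Int.cast_sum, Int.cast_mul, Int.cast_natCast] at h5
      rw [hm1, ← h5]
      refine Finset.sum_congr rfl fun i _ => ?_
      rw [hm, mul_comm]
  rw [← key]
  refine AddSubgroup.sum_mem _ fun i _ => ?_
  rw [Int.cast_smul_eq_zsmul]
  exact AddSubgroup.zsmul_mem _ (AddSubgroup.subset_closure (v i).2) _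

theorem one_mem_brauer (G : Type*) [Group G] [Fintype G] : (1 : G → ℂ) ∈
    AddSubgroup.closure {f : G → ℂ | ∃ (E : Subgroup G) (p : ℕ) (φ : E → ℂ), p.Prime ∧
      Cfsg.IsElementary p E ∧ Cfsg.IsCharacter E φ ∧ f = Cfsg.indFun E φ} :=
  one_mem_closure_elemSet

/-- Brauer's characterisation of characters. -/
theorem brauer_characterization [Finite G] (θ : G → ℂ) (hθ : IsClassFunction G θ)
    (hE : ∀ (E : Subgroup G) (p : ℕ), p.Prime → IsElementary p E →
      IsGeneralizedCharacter E (fun e : E => θ e)) : IsGeneralizedCharacter G θ := by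
  have : Fintype G := Fintype.ofFinite G
  have key : ∀ f ∈ AddSubgroup.closure (elemSet G), IsGeneralizedCharacter G (f * θ) := by
    intro f hf
    refine AddSubgroup.closure_induction (p := fun f _ => IsGeneralizedCharacter G (f * θ))
      ?_ ?_ ?_ ?_ hf
    · rintro x ⟨E, p, φ, hp, hel, hφ, rfl⟩
      rw [indFun_mul E φ θ hθ]
      exact isGeneralizedCharacter_indFun E (isGeneralizedCharacter_mul
        (isGeneralizedCharacter_of_isCharacter hφ) (hE E p hp hel))
    · rw [zero_mul]
      exact isGeneralizedCharacter_zero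
    · intro x y _ _ hx hy
      rw [add_mul]
      exact isGeneralizedCharacter_add hx hy
    · intro x _ hx
      rw [neg_mul]
      exact isGeneralizedCharacter_neg hx
  have := key 1 one_mem_closure_elemSet
  rwa [one_mul] at this

end Cfsg.Agent.Characters.Brauer
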