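import Mathlib
import Cfsg.Prelude.Def_Characters

/-!
# Monomial characters via eigenvectors

* `indFun_eq_sum_quotient`: the induced function as a sum over cosets.
* `character_eq_indFun`: if `ρ` is irreducible, `v ≠ 0` is an eigenvector for a subgroup `H` with
  eigenvalue homomorphism `lam` and `H.index ≤ finrank V`, then `ρ.character = indFun H lam`.
* `exists_eigenvector_of_nilpotent`: a nonzero finite-dimensional complex representation of a
  finite nilpotent group has a nonzero vector which is an eigenvector for a subgroup of index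
  at most `dim V`.
-/

set_option autoImplicit false

open Cfsg Representation Module

namespace Cfsg.Agent.Characters.MonomialVec

universe u v

section indFun

variable {G : Type u} [Group G]

theorem extendByZero_coe (H : Subgroup G) (θ : H → ℂ) (h : H) :
    extendByZero H θ (h : G) = θ h :=
  Subtype.val_injective.extend_apply _ _ _

theorem extendByZero_mem (H : Subgroup G) (θ : H → ℂ) {g : G} (hg : g ∈ H) :
    extendByZero H θ g = θ ⟨g, hg⟩ :=
  extendByZero_coe H θ ⟨g, hg⟩

theorem extendByZero_notMem (H : Subgroup G) (θ : H → ℂ) {g : G} (hg : g ∉ H) :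
    extendByZero H θ g = 0 := by
  unfold extendByZero
  rw [Function.extend_apply']
  · rfl
  · rintro ⟨a, rfl⟩
    exact hg a.2

/-- A sum over the group of a function constant on left cosets of `H`. -/
theorem sum_eq_card_mul_sum_quotient [Fintype G] (H : Subgroup G) [Fintype (G ⧸ H)]
    (F : G → ℂ) (hF : ∀ (x : G) (h : H), F (x * h) = F x) :
    ∑ x : G, F x = (Nat.card H : ℂ) * ∑ q : G ⧸ H, F q.out := by
  classical
  have : Fintype H := Fintype.ofFinite H
  let f : (G ⧸ H) × H → G := fun p => p.1.out * (p.2 : G)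
  have hinj : Function.Injective f := by
    rintro ⟨q, h⟩ ⟨q', h'⟩ he
    have h1 : (q.out * (h : G)) = q'.out * (h' : G) := he
    have h2 : q = q' := by
      have h3 := congrArg (QuotientGroup.mk : G → G ⧸ H) h1
      rw [QuotientGroup.mk_mul_of_mem _ h.2, QuotientGroup.mk_mul_of_mem _ h'.2,
        QuotientGroup.out_eq', QuotientGroup.out_eq'] at h3
      exact h3
    subst h2
    have h4 := mul_left_cancel h1
    rw [Prod.mk.injEq]
    exact ⟨rfl, Subtype.ext h4⟩
  have hsurj : Function.Surjective f := by
    intro x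
    have h1 : ((x : G ⧸ H).out)⁻¹ * x ∈ H := by
      rw [← QuotientGroup.eq, QuotientGroup.out_eq']
    exact ⟨((x : G ⧸ H), ⟨_, h1⟩), by simp [f]⟩
  rw [← Equiv.sum_comp (Equiv.ofBijective f ⟨hinj, hsurj⟩), Fintype.sum_prod_type, Finset.mul_sum]
  refine Finset.sum_congr rfl fun q _ => ?_
  have : ∀ h : H, F ((Equiv.ofBijective f ⟨hinj, hsurj⟩) (q, h)) = F q.out := fun h => hF _ h
  simp only [this, Finset.sum_const, Finset.card_univ, nsmul_eq_mul, Nat.card_eq_fintype_card]

/-- The induced function as a sum over coset representatives. -/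
theorem indFun_eq_sum_quotient [Fintype G] (H : Subgroup G) [Fintype (G ⧸ H)] (θ : H → ℂ)
    (hθ : ∀ h k : H, θ (h * k * h⁻¹) = θ k) (g : G) :
    indFun H θ g = ∑ q : G ⧸ H, extendByZero H θ (q.out⁻¹ * g * q.out) := by
  have hF : ∀ (x : G) (h : H), extendByZero H θ ((x * h)⁻¹ * g * (x * h)) =
      extendByZero H θ (x⁻¹ * g * x) := by
    intro x h
    have e : (x * (h : G))⁻¹ * g * (x * h) = ((h⁻¹ : H) : G) * (x⁻¹ * g * x) * (h : G) := by
      push_cast
      group
    rw [e]
    by_cases hx : x⁻¹ * g * x ∈ H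
    · have h1 := hθ h⁻¹ ⟨_, hx⟩
      rw [inv_inv] at h1
      rw [extendByZero_mem H θ hx, ← h1]
      exact extendByZero_coe H θ (h⁻¹ * ⟨_, hx⟩ * h)
    · rw [extendByZero_notMem H θ hx, extendByZero_notMem]
      intro h2
      apply hx
      have h3 := H.mul_mem (H.mul_mem h.2 h2) (H.inv_mem h.2)
      have e2 : (h : G) * (((h⁻¹ : H) : G) * (x⁻¹ * g * x) * (h : G)) * (h : G)⁻¹ =
          x⁻¹ * g * x := by
        push_cast
        group
      rwa [e2] at h3
  have hc : (Nat.card H : ℂ) ≠ 0 := Nat.cast_ne_zero.mpr Nat.card_pos.ne'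
  unfold indFun
  rw [sum_eq_card_mul_sum_quotient H (fun x => extendByZero H θ (x⁻¹ * g * x)) hF,
    inv_mul_cancel_left₀ hc]

end indFun

section eigenvector

variable {G : Type u} [Group G] {V : Type v} [AddCommGroup V] [Module ℂ V]

/-- The eigenvalue homomorphism of a common eigenvector. -/
theorem exists_hom_of_eigenvector (ρ : Representation ℂ G V) (H : Subgroup G) {v : V}
    (hv : v ≠ 0) (h : ∀ g ∈ H, ∃ c : ℂ, ρ g v = c • v) :
    ∃ lam : H →* ℂˣ, ∀ h : H, ρ h v = (lam h : ℂ) • v := by
  choose c hc using fun g : H => h g g.2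
  have huniq : ∀ (g : H) (d : ℂ), ρ g v = d • v → c g = d := by
    intro g d hd
    exact smul_left_injective ℂ hv ((hc g).symm.trans hd)
  have h1 : c 1 = 1 := huniq 1 1 (by simp)
  have hmul : ∀ a b : H, c (a * b) = c a * c b := by
    intro a b
    apply huniq
    rw [Subgroup.coe_mul, map_mul, Module.End.mul_apply, hc b, map_smul, hc a, smul_smul, mul_comm]
  exact ⟨MonoidHom.toHomUnits ⟨⟨c, h1⟩, hmul⟩, fun h => hc h⟩

/-- An irreducible representation having an eigenvector `v` for a subgroup `H` of index at most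
`dim V` is induced from the corresponding linear character. -/
theorem character_eq_indFun [Fintype G] [FiniteDimensional ℂ V] (ρ : Representation ℂ G V)
    (hρ : ρ.IsIrreducible) (H : Subgroup G) (lam : H →* ℂˣ) {v : V} (hv : v ≠ 0)
    (hlam : ∀ h : H, ρ h v = (lam h : ℂ) • v) (hidx : H.index ≤ finrank ℂ V) :
    ρ.character = indFun H (fun h => (lam h : ℂ)) := by
  classical
  have : Fintype (G ⧸ H) := Fintype.ofFinite _
  let b : G ⧸ H → V := fun q => ρ q.out v
  have hout : ∀ x : G, ∃ h : H, x = (x : G ⧸ H).out * h := by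
    intro x
    have h1 : ((x : G ⧸ H).out)⁻¹ * x ∈ H := by
      rw [← QuotientGroup.eq, QuotientGroup.out_eq']
    exact ⟨⟨_, h1⟩, by simp⟩
  have hx : ∀ x : G, ∃ c : ℂ, ρ x v = c • b (x : G ⧸ H) := by
    intro x
    obtain ⟨h, hh⟩ := hout x
    refine ⟨lam h, ?_⟩
    conv_lhs => rw [hh, map_mul, Module.End.mul_apply, hlam, map_smul]
  -- the span of the `b q` is everything
  have hspan : Submodule.span ℂ (Set.range b) = ⊤ := by
    let S : Subrepresentation ρ :=
      { toSubmodule := Submodule.span ℂ (Set.range b)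
        apply_mem_toSubmodule := by
          intro g w hw
          refine Submodule.span_induction (p := fun w _ => ρ g w ∈ Submodule.span ℂ (Set.range b))
            ?_ ?_ ?_ ?_ hw
          · rintro _ ⟨q, rfl⟩
            obtain ⟨c, hc⟩ := hx (g * q.out)
            have : ρ g (b q) = c • b ((g * q.out : G) : G ⧸ H) := by
              rw [← hc, map_mul, Module.End.mul_apply]
            rw [this]
            exact Submodule.smul_mem _ _ (Submodule.subset_span ⟨_, rfl⟩)
          · simp
          · intro x y _ _ hx hy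
            rw [map_add]
            exact Submodule.add_mem _ hx hy
          · intro a x _ hx
            rw [map_smul]
            exact Submodule.smul_mem _ _ hx }
    have hS : S = ⊥ ∨ S = ⊤ := hρ.eq_bot_or_eq_top S
    rcases hS with hS | hS
    · exfalso
      apply hv
      have hvS : v ∈ S.toSubmodule := by
        obtain ⟨c, hc⟩ := hx 1
        rw [map_one, Module.End.one_apply] at hc
        rw [hc]
        exact Submodule.smul_mem _ _ (Submodule.subset_span ⟨_, rfl⟩)
      rw [hS] at hvS
      exact (Submodule.mem_bot ℂ).mp hvS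
    · have := congrArg Subrepresentation.toSubmodule hS
      exact this
  have hcard : Fintype.card (G ⧸ H) = finrank ℂ V := by
    have h1 : finrank ℂ V ≤ Fintype.card (G ⧸ H) := by
      have := finrank_range_le_card (R := ℂ) b
      rw [Set.finrank, hspan, finrank_top] at this
      exact this
    refine le_antisymm ?_ h1
    rw [← Nat.card_eq_fintype_card]
    exact hidx
  let B : Basis (G ⧸ H) ℂ V := basisOfTopLeSpanOfCardEqFinrank b hspan.ge hcard
  have hB : ∀ q, B q = b q := fun q => by simp [B]
  funext g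
  rw [indFun_eq_sum_quotient H (fun h => (lam h : ℂ)) (by
    intro h k
    rw [map_mul, map_mul, map_inv, mul_comm (lam h), mul_inv_cancel_right])]
  change LinearMap.trace ℂ V (ρ g) = _
  rw [LinearMap.trace_eq_matrix_trace ℂ B, Matrix.trace]
  refine Finset.sum_congr rfl fun q _ => ?_
  rw [Matrix.diag_apply, LinearMap.toMatrix_apply, hB]
  -- `ρ g (b q) = ρ (g * q.out) v`
  have h1 : ρ g (b q) = ρ (g * q.out) v := by
    rw [map_mul, Module.End.mul_apply]
  by_cases hq : q.out⁻¹ * g * q.out ∈ H
  · rw [extendByZero_mem H _ hq]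
    have h2 : ρ g (b q) = (lam ⟨_, hq⟩ : ℂ) • b q := by
      have h3 := hlam ⟨_, hq⟩
      rw [h1]
      have h4 : g * q.out = q.out * (q.out⁻¹ * g * q.out) := by group
      rw [h4, map_mul, Module.End.mul_apply]
      rw [show ρ (q.out⁻¹ * g * q.out) v = (lam ⟨_, hq⟩ : ℂ) • v from h3, map_smul]
    rw [h2, ← hB, map_smul]
    simp
  · rw [extendByZero_notMem H _ hq]
    obtain ⟨c, hc⟩ := hx (g * q.out)
    rw [h1, hc, ← hB, map_smul, Basis.repr_self, Finsupp.smul_apply, Finsupp.single_apply,
      if_neg, smul_zero]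
    intro he
    apply hq
    have h5 : ((g * q.out : G) : G ⧸ H) = ((q.out : G) : G ⧸ H) := by
      rw [he, QuotientGroup.out_eq']
    have h6 := QuotientGroup.eq.mp h5.symm
    rwa [← mul_assoc] at h6

end eigenvector

end Cfsg.Agent.Characters.MonomialVec
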