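import Mathlib
import Cfsg.Prelude.Def_Characters
import Cfsg.Agent.Characters.Core
import Cfsg.Agent.Characters.Linear
import Cfsg.Agent.CharactersDeep.NormalInd

/-!
# Subgroups equal to the centralizer of each of their nonidentity elements ("CC-subgroups")

Group theory of a CC-subgroup `A` (abelian, trivial intersection set), the action of its
normalizer on the irreducible characters of `A`, and the values and inner products of functions
induced from `A`.
-/

set_option autoImplicit false

open scoped ComplexConjugate
open Cfsg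

namespace Cfsg.Agent.Characters.CCBasic

universe u

variable {G : Type u} [Group G]

/-- A nontrivial subgroup which is the centralizer of each of its nonidentity elements. -/
structure IsCC (A : Subgroup G) : Prop where
  ne_bot : A ≠ ⊥
  cent : ∀ x ∈ A, x ≠ 1 → Subgroup.centralizer ({x} : Set G) = A

namespace IsCC

variable {A : Subgroup G}

theorem mem_of_comm (hA : IsCC A) {x g : G} (hx : x ∈ A) (hx1 : x ≠ 1) (h : g * x = x * g) :
    g ∈ A := by
  rw [← hA.cent x hx hx1, Subgroup.mem_centralizer_singleton_iff]
  exact h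

theorem comm (hA : IsCC A) {a b : G} (ha : a ∈ A) (hb : b ∈ A) : a * b = b * a := by
  by_cases hb1 : b = 1
  · simp [hb1]
  · rw [← hA.cent b hb hb1, Subgroup.mem_centralizer_singleton_iff] at ha
    exact ha

theorem ti (hA : IsCC A) {x g : G} (hx : x ∈ A) (hx1 : x ≠ 1) (h : g * x * g⁻¹ ∈ A) :
    g ∈ Subgroup.normalizer (A : Set G) := by
  have h1 : g * x * g⁻¹ ≠ 1 := by
    intro h
    apply hx1
    have := congrArg (fun y => g⁻¹ * y * g) h
    simpa [mul_assoc] using this
  have hC1 := hA.cent x hx hx1
  have hC2 := hA.cent _ h h1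
  rw [Subgroup.mem_normalizer_iff]
  intro y
  constructor
  · intro hh
    rw [← hC1, Subgroup.mem_centralizer_singleton_iff] at hh
    rw [← hC2, Subgroup.mem_centralizer_singleton_iff]
    calc g * y * g⁻¹ * (g * x * g⁻¹) = g * (y * x) * g⁻¹ := by group
      _ = g * (x * y) * g⁻¹ := by rw [hh]
      _ = g * x * g⁻¹ * (g * y * g⁻¹) := by group
  · intro hh
    rw [← hC2, Subgroup.mem_centralizer_singleton_iff] at hh
    rw [← hC1, Subgroup.mem_centralizer_singleton_iff]
    have h3 := congrArg (fun y => g⁻¹ * y * g) hh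
    simpa [mul_assoc] using h3

theorem exists_ne_one (hA : IsCC A) : ∃ x ∈ A, x ≠ 1 := by
  by_contra h
  push Not at h
  exact hA.ne_bot ((Subgroup.eq_bot_iff_forall A).2 h)

end IsCC

/-- In a group in which centralizers of nonidentity elements are abelian, these centralizers are
CC-subgroups. -/
theorem isCC_centralizer
    (hCA : ∀ x : G, x ≠ 1 → ∀ a ∈ Subgroup.centralizer ({x} : Set G),
      ∀ b ∈ Subgroup.centralizer ({x} : Set G), a * b = b * a) {x : G} (hx : x ≠ 1) :
    IsCC (Subgroup.centralizer ({x} : Set G)) where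
  ne_bot := by
    intro h
    apply hx
    have h1 : x ∈ Subgroup.centralizer ({x} : Set G) := by
      rw [Subgroup.mem_centralizer_singleton_iff]
    rw [h] at h1
    exact Subgroup.mem_bot.1 h1
  cent := by
    intro y hy hy1
    have hxy : x ∈ Subgroup.centralizer ({y} : Set G) := by
      rw [Subgroup.mem_centralizer_singleton_iff] at hy ⊢
      exact hy.symm
    have hyy : y ∈ Subgroup.centralizer ({y} : Set G) := by
      rw [Subgroup.mem_centralizer_singleton_iff]
    have hxx : x ∈ Subgroup.centralizer ({x} : Set G) := by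
      rw [Subgroup.mem_centralizer_singleton_iff]
    ext z
    constructor
    · intro hz
      have := hCA y hy1 z hz x hxy
      rw [Subgroup.mem_centralizer_singleton_iff]
      exact this
    · intro hz
      have := hCA x hx z hz y hy
      rw [Subgroup.mem_centralizer_singleton_iff]
      exact this

/-! ### The action of the normalizer on functions on `A` -/

section cj

variable (A : Subgroup G)

/-- The function `a ↦ θ (g a g⁻¹)` on `A`, for `g` in the normalizer of `A`. -/
def cj (g : Subgroup.normalizer (A : Set G)) (θ : A → ℂ) : A → ℂ :=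
  fun a => θ (A.normalizerMonoidHom g a)

theorem cj_apply (g : Subgroup.normalizer (A : Set G)) (θ : A → ℂ) (a : A) :
    cj A g θ a = θ (A.normalizerMonoidHom g a) := rfl

theorem coe_nmh (g : Subgroup.normalizer (A : Set G)) (a : A) :
    ((A.normalizerMonoidHom g a : A) : G) = (g : G) * a * (g : G)⁻¹ := rfl

theorem cj_mul (g h : Subgroup.normalizer (A : Set G)) (θ : A → ℂ) :
    cj A (g * h) θ = cj A h (cj A g θ) := by
  funext a
  rw [cj_apply, cj_apply, cj_apply, map_mul]
  rfl

theorem cj_one (θ : A → ℂ) : cj A 1 θ = θ := by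
  funext a
  rw [cj_apply, map_one]
  rfl

theorem cj_sub (g : Subgroup.normalizer (A : Set G)) (θ η : A → ℂ) :
    cj A g (θ - η) = cj A g θ - cj A g η := rfl

theorem cj_const_one (g : Subgroup.normalizer (A : Set G)) : cj A g 1 = 1 := rfl

theorem cj_injective (g : Subgroup.normalizer (A : Set G)) : Function.Injective (cj A g) := by
  intro θ η h
  have h1 : cj A g⁻¹ (cj A g θ) = cj A g⁻¹ (cj A g η) := by rw [h]
  rw [← cj_mul, ← cj_mul, mul_inv_cancel, cj_one, cj_one] at h1
  exact h1

theorem isIrr_cj (g : Subgroup.normalizer (A : Set G)) {θ : A → ℂ} (hθ : IsIrrCharacter A θ) :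
    IsIrrCharacter A (cj A g θ) :=
  Core.isIrr_comp (A.normalizerMonoidHom g : A ≃* A).toMonoidHom
    (A.normalizerMonoidHom g : A ≃* A).surjective hθ

end cj

/-! ### Irreducible characters of commutative groups -/

/-- Irreducible characters of a commutative finite group have degree one. -/
theorem irr_apply_one_of_comm {A : Type*} [Group A] (hc : ∀ a b : A, a * b = b * a)
    {θ : A → ℂ} (hθ : IsIrrCharacter A θ) : θ 1 = 1 := by
  obtain ⟨n, ρ, hρ, rfl⟩ := hθ
  have : IsMulCommutative A := ⟨⟨hc⟩⟩
  have h := Representation.IsIrreducible.finrank_eq_one_of_isMulCommutative ρ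
  rw [Representation.char_one, h]
  simp

theorem exists_hom_of_comm {A : Type*} [Group A] (hc : ∀ a b : A, a * b = b * a)
    {θ : A → ℂ} (hθ : IsIrrCharacter A θ) : ∃ f : A →* ℂˣ, θ = fun a => (f a : ℂ) :=
  Linear.exists_hom_of_isIrrCharacter hθ (irr_apply_one_of_comm hc hθ)

theorem irr_mul_of_comm {A : Type*} [Group A] (hc : ∀ a b : A, a * b = b * a)
    {θ : A → ℂ} (hθ : IsIrrCharacter A θ) (a b : A) : θ (a * b) = θ a * θ b := by
  obtain ⟨f, rfl⟩ := exists_hom_of_comm hc hθ
  simp

theorem card_irr_of_comm {A : Type*} [Group A] [Finite A] (hc : ∀ a b : A, a * b = b * a) :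
    Nat.card (IrrCharacter A) = Nat.card A := by
  have e1 : (A →* ℂˣ) ≃ IrrCharacter A :=
    (Linear.linearEquiv A).trans
      (Equiv.subtypeUnivEquiv (fun χ => irr_apply_one_of_comm hc χ.2))
  rw [← Nat.card_congr e1, Linear.card_hom_eq_index_commutator]
  have h : commutator A = ⊥ := by
    rw [commutator_eq_bot_iff_center_eq_top, eq_top_iff]
    intro a _
    rw [Subgroup.mem_center_iff]
    exact fun g => hc g a
  rw [h, Subgroup.index_bot]

end Cfsg.Agent.Characters.CCBasic
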