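import Cfsg.Agent.Characters.CCValues

/-!
# Norm estimates for the characters of `G` on a CC-subgroup `A`
-/

set_option autoImplicit false

open scoped ComplexConjugate
open Cfsg

namespace Cfsg.Agent.Characters.CCEstimates

open CCBasic CCOrbit CCInduce CCExceptional CCValues CharactersDeep.NormalInd

universe u

variable {G : Type u} [Group G] {A : Subgroup G}

/-- The index of `A` in its normalizer. -/
noncomputable def len (A : Subgroup G) : ℕ :=
  Nat.card (Subgroup.normalizer (A : Set G)) / Nat.card A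

theorem len_mul_card [Finite G] (A : Subgroup G) :
    len A * Nat.card A = Nat.card (Subgroup.normalizer (A : Set G)) :=
  Nat.div_mul_cancel (Subgroup.card_dvd_of_le Subgroup.le_normalizer)

theorem len_pos [Finite G] (A : Subgroup G) : 0 < len A := by
  have h := len_mul_card A
  have h2 : 0 < Nat.card (Subgroup.normalizer (A : Set G)) := Nat.card_pos
  rw [← h] at h2
  exact Nat.pos_of_mul_pos_right h2

theorem rel_ne_one {m l : A → ℂ} (h : Rel A m l) (hm : m ≠ 1) : l ≠ 1 := by
  obtain ⟨x, rfl⟩ := h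
  intro h1
  apply hm
  apply cj_injective A x
  rw [h1]
  rfl

open scoped Classical in
theorem card_np_rel [Finite G] (hA : IsCC A) [Fintype (NP A)] (m : NP A) :
    (Finset.univ.filter (fun l : NP A => Rel A (m.1 : A → ℂ) (l.1 : A → ℂ))).card = len A := by
  have : Finite (IrrCharacter A) := Core.finite_irr
  have : Fintype (IrrCharacter A) := Fintype.ofFinite _
  have h1 := card_rel_mul_card hA m.1.2 m.2
  have h2 : (Finset.univ.filter (fun l : NP A => Rel A (m.1 : A → ℂ) (l.1 : A → ℂ))).card =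
      (Finset.univ.filter (fun l : IrrCharacter A => Rel A (m.1 : A → ℂ) (l : A → ℂ))).card := by
    refine Finset.card_bij (fun l _ => l.1) ?_ ?_ ?_
    · intro l hl
      rw [Finset.mem_filter] at hl ⊢
      exact ⟨Finset.mem_univ _, hl.2⟩
    · intro l _ l' _ h
      exact Subtype.ext h
    · intro l hl
      rw [Finset.mem_filter] at hl
      refine ⟨⟨l, rel_ne_one hl.2 m.2⟩, ?_, rfl⟩
      rw [Finset.mem_filter]
      exact ⟨Finset.mem_univ _, hl.2⟩
  rw [← h2, ← len_mul_card A] at h1
  exact Nat.eq_of_mul_eq_mul_right Nat.card_pos h1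

/-- In a group of odd order every nonprincipal character has a nonconjugate partner. -/
theorem exists_not_rel [Finite G] (hodd : Odd (Nat.card G)) (hA : IsCC A) (m : NP A) :
    ∃ l : NP A, ¬ Rel A (m.1 : A → ℂ) (l.1 : A → ℂ) := by
  refine ⟨⟨⟨fun a => conj ((m.1 : A → ℂ) a), Core.isIrr_conj m.1.2⟩, ?_⟩, ?_⟩
  · intro h
    apply m.2
    funext a
    have h1 := congrFun h a
    have h2 : conj ((m.1 : A → ℂ) a) = 1 := h1
    have h3 := congrArg conj h2
    simpa using h3
  · exact not_rel_conj hodd hA m.1.2 m.2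

variable [Fintype G]

open scoped Classical in
/-- The set of exceptional characters. -/
noncomputable def rng [Fintype (NP A)] (X : Exc A) : Finset (IrrCharacter G) :=
  Finset.univ.image X.E

theorem mem_rng [Fintype (NP A)] (X : Exc A) (ψ : IrrCharacter G) :
    ψ ∈ rng X ↔ ∃ l, X.E l = ψ := by
  unfold rng
  simp

theorem card_rng_mul_len [Fintype (NP A)] (hA : IsCC A) (X : Exc A) :
    (rng X).card * len A + 1 = Nat.card A := by
  classical
  rw [← card_np hA]
  congr 1
  rw [← Finset.card_univ, Finset.card_eq_sum_card_fiberwise (f := X.E) (t := rng X)]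
  · rw [Finset.sum_congr rfl (g := fun _ => len A)]
    · rw [Finset.sum_const, smul_eq_mul]
    · intro ψ hψ
      obtain ⟨m, rfl⟩ := (mem_rng X ψ).1 hψ
      rw [← card_np_rel hA m]
      congr 1
      ext l
      rw [Finset.mem_filter, Finset.mem_filter]
      constructor
      · rintro ⟨h1, h2⟩
        exact ⟨h1, (X.E_iff m l).1 h2.symm⟩
      · rintro ⟨h1, h2⟩
        exact ⟨h1, ((X.E_iff m l).2 h2).symm⟩
  · intro l _
    simp only [Finset.mem_coe]
    exact (mem_rng X _).2 ⟨l, rfl⟩

theorem two_le_card_rng (hodd : Odd (Nat.card G)) [Fintype (NP A)] (hA : IsCC A) (X : Exc A) :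
    2 ≤ (rng X).card := by
  classical
  obtain ⟨m⟩ := nonempty_np hA
  obtain ⟨l, hl⟩ := exists_not_rel hodd hA m
  have h1 : X.E m ≠ X.E l := fun h => hl ((X.E_iff m l).1 h)
  have h2 : ({X.E m, X.E l} : Finset (IrrCharacter G)) ⊆ rng X := by
    intro ψ hψ
    rw [Finset.mem_insert, Finset.mem_singleton] at hψ
    rcases hψ with rfl | rfl
    · exact (mem_rng X _).2 ⟨m, rfl⟩
    · exact (mem_rng X _).2 ⟨l, rfl⟩
  calc 2 = ({X.E m, X.E l} : Finset (IrrCharacter G)).card := (Finset.card_pair h1).symm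
    _ ≤ _ := Finset.card_le_card h2

open scoped Classical in
/-- The squared norm of `ψ` on `A#`. -/
noncomputable def q (A : Subgroup G) [Fintype A] (ψ : IrrCharacter G) : ℝ :=
  ∑ a ∈ Finset.univ.filter (fun a : A => a ≠ 1), Complex.normSq ((ψ : G → ℂ) a)

theorem q_nonneg [Fintype A] (ψ : IrrCharacter G) : 0 ≤ q A ψ :=
  Finset.sum_nonneg (fun _ _ => Complex.normSq_nonneg _)

theorem q_eq (hA : IsCC A) [Fintype A] [Fintype (IrrCharacter A)] (ψ : IrrCharacter G) :
    q A ψ = ((Nat.card A * ∑ l : IrrCharacter A, mult ψ l ^ 2 -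
      (∑ l : IrrCharacter A, mult ψ l) ^ 2 : ℤ) : ℝ) := by
  classical
  have h1 := sum_normSq hA ψ
  have h2 : ∑ a : A, Complex.normSq ((ψ : G → ℂ) a) =
      Complex.normSq ((ψ : G → ℂ) 1) + q A ψ := by
    rw [← Finset.add_sum_erase Finset.univ _ (Finset.mem_univ (1 : A))]
    congr 1
    unfold q
    congr 1
    ext a
    simp
  rw [sum_mult hA ψ, Complex.normSq_intCast] at h2
  push_cast at h1 h2 ⊢
  rw [← h1, h2]
  ring

theorem q_const (c : ℤ) [Fintype A] {ψ : IrrCharacter G}
    (h : ∀ a : A, a ≠ 1 → (ψ : G → ℂ) a = c) : q A ψ = (Nat.card A - 1) * (c : ℝ) ^ 2 := by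
  classical
  unfold q
  rw [Finset.sum_congr rfl (g := fun _ => (c : ℝ) ^ 2)]
  · rw [Finset.sum_const, nsmul_eq_mul]
    congr 1
    rw [Finset.filter_ne', Finset.card_erase_of_mem (Finset.mem_univ _), Finset.card_univ,
      Nat.card_eq_fintype_card, Nat.cast_sub Fintype.card_pos]
    simp
  · intro a ha
    rw [h a (Finset.mem_filter.1 ha).2, Complex.normSq_intCast, pow_two]

theorem q_exceptional (hodd : Odd (Nat.card G)) (hA : IsCC A) [Fintype A] (X : Exc A) (l₀ : NP A) :
    (len A : ℝ) * (Nat.card A - len A) ≤ q A (X.E l₀) := by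
  classical
  have : Finite (IrrCharacter A) := Core.finite_irr
  have : Fintype (IrrCharacter A) := Fintype.ofFinite _
  obtain ⟨m₀, hm₀⟩ := exists_not_rel hodd hA l₀
  rw [q_eq hA]
  set ψ := X.E l₀ with hψ
  set α := mult ψ (one A) with hα
  set b := mult ψ m₀.1 with hb
  have hmult : ∀ l : NP A, mult ψ l.1 =
      b + X.ε * (if Rel A (l₀.1 : A → ℂ) (l.1 : A → ℂ) then 1 else 0) := by
    intro l
    have h := mult_sub hA X ψ l m₀
    have h1 : ¬ (ψ = X.E m₀) := fun h => hm₀ ((X.E_iff l₀ m₀).1 h)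
    have h2 : (ψ = X.E l) ↔ Rel A (l₀.1 : A → ℂ) (l.1 : A → ℂ) := X.E_iff l₀ l
    rw [if_neg h1] at h
    simp only [h2] at h
    rw [← hb] at h
    linarith
  have hcard : (Fintype.card (NP A) : ℤ) = Nat.card A - 1 := by
    have := card_np hA
    omega
  have hL : ∑ l : NP A, (if Rel A (l₀.1 : A → ℂ) (l.1 : A → ℂ) then (1 : ℤ) else 0) = len A := by
    rw [← card_np_rel hA l₀, Finset.card_filter]
    push_cast
    rfl
  have hε2 : X.ε * X.ε = 1 := by
    rcases X.hε with h | h <;> rw [h] <;> norm_num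
  have hs1 : ∑ l : IrrCharacter A, mult ψ l = α + (Nat.card A - 1) * b + X.ε * len A := by
    rw [sum_irr_eq, Finset.sum_congr rfl (fun l _ => hmult l), Finset.sum_add_distrib,
      ← Finset.mul_sum, hL, Finset.sum_const, Finset.card_univ, nsmul_eq_mul, hcard]
    ring
  have hs2 : ∑ l : IrrCharacter A, mult ψ l ^ 2 =
      α ^ 2 + (Nat.card A - 1) * b ^ 2 + (2 * b * X.ε + 1) * len A := by
    have h3 : ∀ l : NP A, mult ψ l.1 ^ 2 = b ^ 2 +
        (2 * b * X.ε + 1) * (if Rel A (l₀.1 : A → ℂ) (l.1 : A → ℂ) then 1 else 0) := by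
      intro l
      rw [hmult l]
      split_ifs
      · linear_combination hε2
      · ring
    rw [sum_irr_eq, Finset.sum_congr rfl (fun l _ => h3 l), Finset.sum_add_distrib,
      ← Finset.mul_sum, hL, Finset.sum_const, Finset.card_univ, nsmul_eq_mul, hcard]
    ring
  rw [hs1, hs2]
  -- the remaining inequality over the integers
  have hw : 2 * (len A : ℤ) ≤ Nat.card A - 1 := by
    have : Fintype (NP A) := inferInstance
    have h4 := card_rng_mul_len hA X
    have h5 := two_le_card_rng hodd hA X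
    have h6 : 2 * len A ≤ (rng X).card * len A := Nat.mul_le_mul_right _ h5
    omega
  have hkey : (len A : ℤ) * (Nat.card A - len A) ≤
      Nat.card A * (α ^ 2 + (Nat.card A - 1) * b ^ 2 + (2 * b * X.ε + 1) * len A) -
        (α + (Nat.card A - 1) * b + X.ε * len A) ^ 2 := by
    have h7 : Nat.card A * (α ^ 2 + (Nat.card A - 1) * b ^ 2 + (2 * b * X.ε + 1) * len A) -
        (α + (Nat.card A - 1) * b + X.ε * len A) ^ 2 =
        (len A : ℤ) * (Nat.card A - len A) +
          ((Nat.card A - 1) * (α - b) ^ 2 - 2 * len A * (X.ε * (α - b))) := by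
      linear_combination (-(len A : ℤ) ^ 2) * hε2
    rw [h7]
    have h8 : X.ε * (α - b) ≤ (α - b) ^ 2 := by
      have h9 : (X.ε * (α - b)) ^ 2 = (α - b) ^ 2 := by
        rw [mul_pow, pow_two X.ε, hε2, one_mul]
      rw [← h9]
      exact Int.le_self_sq _
    have h10 : 0 ≤ (α - b) ^ 2 := sq_nonneg _
    have h11 : (0 : ℤ) ≤ len A := Int.natCast_nonneg _
    nlinarith [mul_le_mul_of_nonneg_left h8 h11, mul_le_mul_of_nonneg_right hw h10]
  exact_mod_cast hkey

/-- The trivial character is not exceptional. -/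
theorem one_ne_exceptional (hodd : Odd (Nat.card G)) (hA : IsCC A) (X : Exc A) (l : NP A) :
    one G ≠ X.E l := by
  classical
  have : Fintype A := Fintype.ofFinite _
  intro h
  obtain ⟨m, hm⟩ := exists_not_rel hodd hA l
  have h1 : ∀ k : NP A, mult (one G) k.1 = 0 := by
    intro k
    have h2 := mult_spec (A := A) (one G) k.1
    have h3 : (fun a : A => (one G : G → ℂ) a) = (1 : A → ℂ) := rfl
    rw [h3, Core.classInner_irr_ne Core.isIrr_one k.1.2 (Ne.symm k.2)] at h2
    exact_mod_cast h2.symm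
  have h4 := mult_sub hA X (one G) l m
  have h5 : ¬ (one G = X.E m) := fun h6 => hm ((X.E_iff l m).1 (h.symm.trans h6))
  rw [if_pos h, if_neg h5, h1, h1] at h4
  rcases X.hε with h7 | h7 <;> rw [h7] at h4 <;> norm_num at h4

theorem sum_q (hA : IsCC A) [Fintype A] [Fintype (IrrCharacter G)] :
    ∑ ψ : IrrCharacter G, q A ψ = (Nat.card A - 1) * Nat.card A := by
  classical
  unfold q
  rw [Finset.sum_comm]
  have h1 : ∀ a ∈ Finset.univ.filter (fun a : A => a ≠ 1),
      ∑ ψ : IrrCharacter G, Complex.normSq ((ψ : G → ℂ) a) = (Nat.card A : ℝ) := by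
    intro a ha
    have ha1 : (a : G) ≠ 1 := fun h => (Finset.mem_filter.1 ha).2 (Subtype.ext h)
    have h := (Cfsg.Agent.S0145.result (a : G) (a : G)).1 (IsConj.refl _)
    rw [finsum_eq_sum_of_fintype, hA.cent a a.2 ha1] at h
    have h2 : ((∑ ψ : IrrCharacter G, Complex.normSq ((ψ : G → ℂ) a) : ℝ) : ℂ) =
        ((Nat.card A : ℝ) : ℂ) := by
      push_cast
      rw [← h]
      refine Finset.sum_congr rfl (fun ψ _ => ?_)
      rw [Complex.mul_conj]
    exact_mod_cast h2
  rw [Finset.sum_congr rfl h1, Finset.sum_const, nsmul_eq_mul]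
  congr 1
  rw [Finset.filter_ne', Finset.card_erase_of_mem (Finset.mem_univ _), Finset.card_univ,
    Nat.card_eq_fintype_card, Nat.cast_sub Fintype.card_pos]
  simp

open scoped Classical in
/-- The number of nonexceptional nonprincipal characters not vanishing on `A#` is less than
`|N(A) : A|`. -/
theorem card_nonvanishing_lt (hodd : Odd (Nat.card G)) (hA : IsCC A) [Fintype (NP A)]
    (X : Exc A) [Fintype (IrrCharacter G)] {a₀ : A} (ha₀ : a₀ ≠ 1) :
    (Finset.univ.filter (fun ψ : IrrCharacter G => ψ ∉ rng X ∧ ψ ≠ one G ∧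
      (ψ : G → ℂ) a₀ ≠ 0)).card < len A := by
  have : Fintype A := Fintype.ofFinite _
  set S := Finset.univ.filter (fun ψ : IrrCharacter G => ψ ∉ rng X ∧ ψ ≠ one G ∧
      (ψ : G → ℂ) a₀ ≠ 0) with hS
  have hdis1 : Disjoint (rng X) S := by
    rw [Finset.disjoint_left]
    intro ψ h1 h2
    exact (Finset.mem_filter.1 h2).2.1 h1
  have hone : one G ∉ rng X ∪ S := by
    rw [Finset.mem_union, not_or]
    constructor
    · intro h
      obtain ⟨l, hl⟩ := (mem_rng X _).1 h
      exact one_ne_exceptional hodd hA X l hl.symm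
    · intro h
      exact (Finset.mem_filter.1 h).2.2.1 rfl
  have h1 : ∑ ψ ∈ insert (one G) (rng X ∪ S), q A ψ ≤ ∑ ψ : IrrCharacter G, q A ψ :=
    Finset.sum_le_sum_of_subset_of_nonneg (Finset.subset_univ _) (fun ψ _ _ => q_nonneg ψ)
  rw [sum_q hA, Finset.sum_insert hone, Finset.sum_union hdis1] at h1
  have hq1 : q A (one G) = Nat.card A - 1 := by
    rw [q_const (A := A) (ψ := one G) 1 (fun a _ => by rw [coe_one]; simp)]
    simp
  have hn1 : (1 : ℝ) < Nat.card A := by
    have h2 := card_rng_mul_len hA X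
    have h3 := two_le_card_rng hodd hA X
    have h4 := len_pos A
    have h5 : 0 < (rng X).card * len A := Nat.mul_pos (by omega) h4
    have : 1 < Nat.card A := by omega
    exact_mod_cast this
  have hqr : ((rng X).card : ℝ) * (len A * (Nat.card A - len A)) ≤ ∑ ψ ∈ rng X, q A ψ := by
    rw [← nsmul_eq_mul]
    apply Finset.card_nsmul_le_sum
    intro ψ hψ
    obtain ⟨l, rfl⟩ := (mem_rng X ψ).1 hψ
    exact q_exceptional hodd hA X l
  have hqs : (S.card : ℝ) * (Nat.card A - 1) ≤ ∑ ψ ∈ S, q A ψ := by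
    rw [← nsmul_eq_mul]
    apply Finset.card_nsmul_le_sum
    intro ψ hψ
    obtain ⟨-, h2, -, h4⟩ := Finset.mem_filter.1 hψ
    obtain ⟨c, hc⟩ := apply_eq_of_not_exceptional hA X
      (fun l hl => h2 ((mem_rng X ψ).2 ⟨l, hl.symm⟩))
    rw [q_const c hc]
    have hc0 : c ≠ 0 := by
      rintro rfl
      apply h4
      rw [hc a₀ ha₀]
      simp
    have hc1 : (1 : ℝ) ≤ (c : ℝ) ^ 2 := by
      have : 1 ≤ c ^ 2 := by
        have := Int.one_le_abs hc0
        rw [← sq_abs]
        nlinarith
      exact_mod_cast this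
    nlinarith
  have hw : ((rng X).card : ℝ) * len A = Nat.card A - 1 := by
    have h2 := card_rng_mul_len hA X
    rw [← h2]
    push_cast
    ring
  rw [hq1] at h1
  have h6 : ((rng X).card : ℝ) * (len A * (Nat.card A - len A)) =
      (Nat.card A - 1) * (Nat.card A - len A) := by
    rw [← mul_assoc, hw]
  rw [h6] at hqr
  have h7 : ((Nat.card A : ℝ) - 1) * (1 + (Nat.card A - len A) + S.card) ≤
      (Nat.card A - 1) * Nat.card A := by
    linarith
  have h8 : (1 : ℝ) + (Nat.card A - len A) + S.card ≤ Nat.card A :=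
    le_of_mul_le_mul_left h7 (by linarith)
  have h9 : (S.card : ℝ) + 1 ≤ len A := by linarith
  have h10 : S.card + 1 ≤ len A := by exact_mod_cast h9
  omega

end Cfsg.Agent.Characters.CCEstimates
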