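import Cfsg.Agent.Characters.CCInduce
import Cfsg.Agent.S0148
import Cfsg.Agent.S0198

/-!
# Exceptional characters attached to a CC-subgroup of a group of odd order
-/

set_option autoImplicit false

open scoped ComplexConjugate
open Cfsg

namespace Cfsg.Agent.Characters.CCExceptional

open CCBasic CCOrbit CCInduce CharactersDeep.NormalInd

universe u

variable {G : Type u} [Group G]

/-- The nonprincipal irreducible characters of `A`. -/
abbrev NP (A : Subgroup G) : Type u := {l : IrrCharacter A // (l : A → ℂ) ≠ 1}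

variable {A : Subgroup G}

theorem nonempty_np [Finite G] (hA : IsCC A) : Nonempty (NP A) := by
  classical
  by_contra h
  rw [not_nonempty_iff] at h
  obtain ⟨x, hx, hx1⟩ := hA.exists_ne_one
  have h1 : Nat.card (IrrCharacter A) ≤ 1 := by
    have : Finite (IrrCharacter A) := Core.finite_irr
    rw [Finite.card_le_one_iff_subsingleton]
    constructor
    intro a b
    have ha : (a : A → ℂ) = 1 := by
      by_contra h2
      exact h.false ⟨a, h2⟩
    have hb : (b : A → ℂ) = 1 := by
      by_contra h2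
      exact h.false ⟨b, h2⟩
    exact Subtype.ext (ha.trans hb.symm)
  rw [card_irr_of_comm (comm_coe hA), Finite.card_le_one_iff_subsingleton] at h1
  exact hx1 (congrArg Subtype.val (h1.elim ⟨x, hx⟩ 1))

/-- The setoid on nonprincipal characters given by conjugacy under the normalizer. -/
def relSetoid (A : Subgroup G) : Setoid (NP A) where
  r m l := Rel A (m.1 : A → ℂ) (l.1 : A → ℂ)
  iseqv := ⟨fun m => Rel.refl _, fun h => h.symm, fun h h' => h.trans h'⟩

/-- **Exceptional characters** for a CC-subgroup of a group of odd order. -/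
theorem exists_exceptional [Fintype G] (hA : IsCC A) :
    ∃ (ε : ℂ) (E : NP A → IrrCharacter G), (ε = 1 ∨ ε = -1) ∧
      (∀ l m : NP A, E l = E m ↔ Rel A (l.1 : A → ℂ) (m.1 : A → ℂ)) ∧
      ∀ l m : NP A, indFun A (l.1 : A → ℂ) - indFun A (m.1 : A → ℂ) =
        ε • ((E l : G → ℂ) - (E m : G → ℂ)) := by
  classical
  have : Finite (IrrCharacter A) := Core.finite_irr
  let s := relSetoid A
  have : Finite (Quotient s) := Quotient.finite s
  obtain ⟨n, ⟨e⟩⟩ := Finite.exists_equiv_fin (Quotient s)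
  obtain ⟨l₀⟩ := nonempty_np hA
  let r : Fin n → NP A := fun i => (e.symm i).out
  let i₀ : Fin n := e ⟦l₀⟧
  have hr : ∀ i j : Fin n, Rel A ((r i).1 : A → ℂ) ((r j).1 : A → ℂ) ↔ i = j := by
    intro i j
    constructor
    · intro h
      have h1 : (⟦r i⟧ : Quotient s) = ⟦r j⟧ := Quotient.sound h
      simp only [r, Quotient.out_eq] at h1
      exact e.symm.injective h1
    · rintro rfl
      exact Rel.refl _
  have hre : ∀ l : NP A, Rel A ((r (e ⟦l⟧)).1 : A → ℂ) (l.1 : A → ℂ) := by
    intro l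
    have h1 : (⟦r (e ⟦l⟧)⟧ : Quotient s) = ⟦l⟧ := by simp [r]
    exact Quotient.exact h1
  let τ : Fin n → (G → ℂ) := fun i => indFun A (((r i).1 : A → ℂ) - ((r i₀).1 : A → ℂ))
  have h0 : τ i₀ = 0 := by
    simp only [τ]
    rw [indFun_sub, sub_self]
  have hgen : ∀ i, IsGeneralizedCharacter G (τ i) := by
    intro i
    refine ⟨_, _, Cfsg.Agent.S0148.result A _ (Core.isIrr_isCharacter (r i).1.2),
      Cfsg.Agent.S0148.result A _ (Core.isIrr_isCharacter (r i₀).1.2), ?_⟩
    exact indFun_sub _ _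
  have hone : ∀ i, τ i 1 = 0 := by
    intro i
    simp only [τ]
    rw [indFun_one, Pi.sub_apply, irr_apply_one_of_comm (comm_coe hA) (r i).1.2,
      irr_apply_one_of_comm (comm_coe hA) (r i₀).1.2, sub_self, mul_zero]
  have hgram : ∀ i j, i ≠ i₀ → j ≠ i₀ → classInner (τ i) (τ j) = if i = j then 2 else 1 := by
    intro i j hi hj
    simp only [τ]
    rw [classInner_indFun_sub hA (r i).1.2 (r i₀).1.2 (r j).1.2 (r i₀).1.2 (r j).2 (r i₀).2]
    simp only [hr]
    rw [if_neg (Ne.symm hi), if_neg hj, if_pos trivial]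
    by_cases hij : i = j
    · rw [if_pos hij.symm, if_pos hij]
      norm_num
    · rw [if_neg (Ne.symm hij), if_neg hij]
      norm_num
  obtain ⟨ε, hε, μ, hμ, hinj, hτ⟩ := Cfsg.Agent.S0198.result n i₀ τ h0 hgen hone hgram
  refine ⟨ε, fun l => ⟨μ (e ⟦l⟧), hμ _⟩, hε, ?_, ?_⟩
  · intro l m
    constructor
    · intro h
      have h1 : μ (e ⟦l⟧) = μ (e ⟦m⟧) := congrArg Subtype.val h
      have h2 : (⟦l⟧ : Quotient s) = ⟦m⟧ := e.injective (hinj h1)
      exact Quotient.exact h2
    · intro h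
      have h2 : (⟦l⟧ : Quotient s) = ⟦m⟧ := Quotient.sound h
      apply Subtype.ext
      show μ (e ⟦l⟧) = μ (e ⟦m⟧)
      rw [h2]
  · intro l m
    have h1 : ∀ l : NP A, indFun A (l.1 : A → ℂ) - indFun A ((r i₀).1 : A → ℂ) =
        ε • (μ (e ⟦l⟧) - μ i₀) := by
      intro l
      rw [← hτ (e ⟦l⟧)]
      simp only [τ]
      rw [indFun_sub, indFun_eq_of_rel (hre l)]
    show indFun A (l.1 : A → ℂ) - indFun A (m.1 : A → ℂ) = ε • (μ (e ⟦l⟧) - μ (e ⟦m⟧))
    have h2 : indFun A (l.1 : A → ℂ) - indFun A (m.1 : A → ℂ) =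
        (indFun A (l.1 : A → ℂ) - indFun A ((r i₀).1 : A → ℂ)) -
          (indFun A (m.1 : A → ℂ) - indFun A ((r i₀).1 : A → ℂ)) := by abel
    rw [h2, h1 l, h1 m, ← smul_sub]
    congr 1
    abel

end Cfsg.Agent.Characters.CCExceptional
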