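import Cfsg.Agent.Characters.CCOrbit

/-!
# Functions induced from a CC-subgroup
-/

set_option autoImplicit false

open scoped ComplexConjugate
open Cfsg

namespace Cfsg.Agent.Characters.CCInduce

open CCBasic CCOrbit CharactersDeep.NormalInd

universe u

variable {G : Type u} [Group G] [Fintype G] {A : Subgroup G}

theorem indFun_apply_mem (hA : IsCC A) [Fintype (Subgroup.normalizer (A : Set G))]
    {θ : A → ℂ} (hθ : θ 1 = 0) (a : A) :
    indFun A θ (a : G) = (Nat.card A : ℂ)⁻¹ * ∑ x : Subgroup.normalizer (A : Set G), cj A x θ a := by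
  classical
  by_cases ha : a = 1
  · subst ha
    rw [Subgroup.coe_one, indFun_one, hθ, mul_zero, Finset.sum_eq_zero, mul_zero]
    intro x _
    rw [cj_apply, map_one, hθ]
  · rw [indFun_apply]
    congr 1
    have ha' : (a : G) ≠ 1 := fun h => ha (Subtype.ext h)
    have h1 : ∑ x : G, extendByZero A θ (x⁻¹ * a * x) =
        ∑ x ∈ Finset.univ.filter (fun x : G => x ∈ Subgroup.normalizer (A : Set G)),
          extendByZero A θ (x⁻¹ * a * x) := by
      symm
      apply Finset.sum_subset (Finset.filter_subset _ _)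
      intro x _ hx
      apply extendByZero_of_not_mem
      intro h
      apply hx
      rw [Finset.mem_filter]
      refine ⟨Finset.mem_univ _, ?_⟩
      have h2 : x⁻¹ * a * x⁻¹⁻¹ ∈ A := by rwa [inv_inv]
      have h3 := hA.ti a.2 ha' h2
      exact (Subgroup.inv_mem_iff _).1 h3
    rw [h1, Finset.sum_subtype (Finset.univ.filter (fun x : G => x ∈ Subgroup.normalizer (A : Set G)))
      (p := fun x => x ∈ Subgroup.normalizer (A : Set G)) (fun x => by simp)]
    refine Fintype.sum_equiv (Equiv.inv _) _ _ ?_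
    intro x
    rw [cj_apply]
    have h4 : (x : G)⁻¹ * a * x = ((A.normalizerMonoidHom x⁻¹ a : A) : G) := by
      rw [coe_nmh]
      simp
    rw [h4, extendByZero_coe]
    rfl

theorem classInner_indFun_indFun (hA : IsCC A) [Fintype A]
    [Fintype (Subgroup.normalizer (A : Set G))]
    (θ : A → ℂ) {η : A → ℂ} (hη : η 1 = 0) :
    classInner (indFun A θ) (indFun A η) =
      (Nat.card A : ℂ)⁻¹ * ∑ x : Subgroup.normalizer (A : Set G), classInner θ (cj A x η) := by
  rw [classInner_indFun A θ _ (indFun_isClassFunction A η)]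
  have h : (fun a : A => indFun A η (a : G)) =
      (Nat.card A : ℂ)⁻¹ • ∑ x : Subgroup.normalizer (A : Set G), cj A x η := by
    funext a
    rw [indFun_apply_mem hA hη a, Pi.smul_apply, Finset.sum_apply, smul_eq_mul]
  rw [h, Core.classInner_smul_right, Core.classInner_sum_right]
  congr 1
  simp

open scoped Classical in
theorem avg_classInner_cj (hA : IsCC A) [Fintype A]
    [Fintype (Subgroup.normalizer (A : Set G))] {l m : A → ℂ} (hl : IsIrrCharacter A l)
    (hm : IsIrrCharacter A m) (hm1 : m ≠ 1) :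
    (Nat.card A : ℂ)⁻¹ * ∑ x : Subgroup.normalizer (A : Set G), classInner l (cj A x m) =
      if Rel A m l then 1 else 0 := by
  have hn : (Nat.card A : ℂ) ≠ 0 := Nat.cast_ne_zero.2 Nat.card_pos.ne'
  have h1 : ∀ x : Subgroup.normalizer (A : Set G), classInner l (cj A x m) =
      if cj A x m = l then 1 else 0 := by
    intro x
    rw [Core.classInner_irr hl (isIrr_cj A x hm)]
    by_cases h : l = cj A x m
    · rw [if_pos h, if_pos h.symm]
    · rw [if_neg h, if_neg (Ne.symm h)]
  rw [Finset.sum_congr rfl (fun x _ => h1 x), ← Finset.sum_filter, Finset.sum_const,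
    nsmul_eq_mul, mul_one]
  split_ifs with h
  · obtain ⟨x₀, hx₀⟩ := h
    rw [card_cj_eq hA hm hm1 x₀ hx₀, inv_mul_cancel₀ hn]
  · have : (Finset.univ.filter (fun x : Subgroup.normalizer (A : Set G) => cj A x m = l)) = ∅ := by
      rw [Finset.filter_eq_empty_iff]
      intro x _ hx
      exact h ⟨x, hx⟩
    rw [this]
    simp

open scoped Classical in
/-- Inner products of differences of induced nonprincipal linear characters. -/
theorem classInner_indFun_sub (hA : IsCC A) {l l' m m' : A → ℂ}
    (hl : IsIrrCharacter A l) (hl' : IsIrrCharacter A l')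
    (hm : IsIrrCharacter A m) (hm' : IsIrrCharacter A m') (hm1 : m ≠ 1) (hm1' : m' ≠ 1) :
    classInner (indFun A (l - l')) (indFun A (m - m')) =
      (if Rel A m l then 1 else 0) - (if Rel A m' l then 1 else 0) -
        ((if Rel A m l' then 1 else 0) - (if Rel A m' l' then 1 else 0)) := by
  have : Fintype A := Fintype.ofFinite A
  have : Fintype (Subgroup.normalizer (A : Set G)) := Fintype.ofFinite _
  have hη : (m - m') 1 = 0 := by
    rw [Pi.sub_apply, irr_apply_one_of_comm (comm_coe hA) hm,
      irr_apply_one_of_comm (comm_coe hA) hm', sub_self]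
  rw [classInner_indFun_indFun hA _ hη]
  rw [← avg_classInner_cj hA hl hm hm1, ← avg_classInner_cj hA hl hm' hm1',
    ← avg_classInner_cj hA hl' hm hm1, ← avg_classInner_cj hA hl' hm' hm1']
  rw [← mul_sub, ← mul_sub, ← mul_sub, ← Finset.sum_sub_distrib, ← Finset.sum_sub_distrib,
    ← Finset.sum_sub_distrib]
  congr 1
  refine Finset.sum_congr rfl (fun x _ => ?_)
  rw [cj_sub, Core.classInner_sub_right, Core.classInner_sub_left, Core.classInner_sub_left]
  ring

theorem indFun_eq_zero_of_not_conj {η : A → ℂ} (hη : η 1 = 0) {y : G}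
    (hy : ∀ x : G, x ≠ 1 → x ∈ A → ¬ IsConj x y) : indFun A η y = 0 := by
  rw [indFun_apply, Finset.sum_eq_zero, mul_zero]
  intro x _
  by_cases h : x⁻¹ * y * x ∈ A
  · by_cases h1 : x⁻¹ * y * x = 1
    · rw [h1]
      have := extendByZero_coe A η 1
      rw [Subgroup.coe_one] at this
      rw [this, hη]
    · exfalso
      apply hy _ h1 h
      rw [isConj_iff]
      exact ⟨x, by group⟩
  · exact extendByZero_of_not_mem A η h

theorem indFun_sub (θ η : A → ℂ) : indFun A (θ - η) = indFun A θ - indFun A η := by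
  funext g
  rw [Pi.sub_apply, indFun_apply, indFun_apply, indFun_apply, ← mul_sub, ← Finset.sum_sub_distrib]
  congr 1
  refine Finset.sum_congr rfl (fun x _ => ?_)
  by_cases h : x⁻¹ * g * x ∈ A
  · rw [extendByZero_of_mem A _ h, extendByZero_of_mem A _ h, extendByZero_of_mem A _ h]
    rfl
  · rw [extendByZero_of_not_mem A _ h, extendByZero_of_not_mem A _ h,
      extendByZero_of_not_mem A _ h, sub_zero]

theorem indFun_cj (x : Subgroup.normalizer (A : Set G)) (θ : A → ℂ) :
    indFun A (cj A x θ) = indFun A θ := by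
  funext g
  rw [indFun_apply, indFun_apply]
  congr 1
  refine Fintype.sum_equiv (Equiv.mulRight (x : G)⁻¹) _ _ ?_
  intro y
  simp only [Equiv.coe_mulRight]
  have h0 : (y * (x : G)⁻¹)⁻¹ * g * (y * (x : G)⁻¹) = (x : G) * (y⁻¹ * g * y) * (x : G)⁻¹ := by
    group
  rw [h0]
  by_cases h : y⁻¹ * g * y ∈ A
  · have h2 : (x : G) * (y⁻¹ * g * y) * (x : G)⁻¹ ∈ A :=
      (Subgroup.mem_normalizer_iff.1 x.2 _).1 h
    rw [extendByZero_of_mem A _ h, extendByZero_of_mem A _ h2]
    rfl
  · have h2 : (x : G) * (y⁻¹ * g * y) * (x : G)⁻¹ ∉ A := fun h3 =>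
      h ((Subgroup.mem_normalizer_iff.1 x.2 _).2 h3)
    rw [extendByZero_of_not_mem A _ h, extendByZero_of_not_mem A _ h2]

theorem indFun_eq_of_rel {m l : A → ℂ} (h : Rel A m l) : indFun A l = indFun A m := by
  obtain ⟨x, rfl⟩ := h
  exact indFun_cj x m

end Cfsg.Agent.Characters.CCInduce
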