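import Cfsg.Agent.Characters.CCBasic

/-!
# Orbits of the normalizer of a CC-subgroup on its linear characters
-/

set_option autoImplicit false

open scoped ComplexConjugate
open Cfsg

namespace Cfsg.Agent.Characters.CCOrbit

open CCBasic

universe u

variable {G : Type u} [Group G] {A : Subgroup G}

theorem comm_coe (hA : IsCC A) (a b : A) : a * b = b * a :=
  Subtype.ext (hA.comm a.2 b.2)

theorem cj_eq_self_iff [Finite G] (hA : IsCC A) {l : A → ℂ} (hl : IsIrrCharacter A l)
    (hl1 : l ≠ 1) (x : Subgroup.normalizer (A : Set G)) : cj A x l = l ↔ (x : G) ∈ A := by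
  obtain ⟨f, rfl⟩ := exists_hom_of_comm (comm_coe hA) hl
  constructor
  · intro h
    by_contra hx
    apply hl1
    let φ : A → A := fun a => a⁻¹ * A.normalizerMonoidHom x a
    have hinj : Function.Injective φ := by
      intro a b hab
      have h1 : (a : G)⁻¹ * ((x : G) * a * (x : G)⁻¹) = (b : G)⁻¹ * ((x : G) * b * (x : G)⁻¹) :=
        congrArg Subtype.val hab
      by_contra hne
      apply hx
      have hba : (b : G) * (a : G)⁻¹ ≠ 1 := by
        intro h
        exact hne (Subtype.ext (mul_inv_eq_one.1 h).symm)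
      apply hA.mem_of_comm (A.mul_mem b.2 (A.inv_mem a.2)) hba
      have h3 : (a : G)⁻¹ * x * a = (b : G)⁻¹ * x * b := by
        have := congrArg (· * (x : G)) h1
        simpa [mul_assoc] using this
      have h4 : (b : G) * ((a : G)⁻¹ * x * a) * (a : G)⁻¹ =
          (b : G) * ((b : G)⁻¹ * x * b) * (a : G)⁻¹ := by
        rw [h3]
      simpa [mul_assoc] using h4.symm
    have hsurj : Function.Surjective φ := Finite.injective_iff_surjective.1 hinj
    funext a
    obtain ⟨b, rfl⟩ := hsurj a
    have hb : (f (A.normalizerMonoidHom x b) : ℂ) = f b := congrFun h b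
    have hb' : f (A.normalizerMonoidHom x b) = f b := Units.ext hb
    simp [φ, hb']
  · intro hx
    funext a
    rw [cj_apply]
    have : A.normalizerMonoidHom x a = a := by
      apply Subtype.ext
      rw [coe_nmh, hA.comm hx a.2]
      simp
    rw [this]

/-- The number of elements of the normalizer moving `m` to `l`. -/
theorem card_cj_eq [Finite G] [Fintype (Subgroup.normalizer (A : Set G))] (hA : IsCC A)
    {l m : A → ℂ} (hm : IsIrrCharacter A m) (hm1 : m ≠ 1)
    (x₀ : Subgroup.normalizer (A : Set G)) (hx₀ : cj A x₀ m = l) [DecidableEq (A → ℂ)] :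
    (Finset.univ.filter (fun x : Subgroup.normalizer (A : Set G) => cj A x m = l)).card =
      Nat.card A := by
  classical
  have : Fintype A := Fintype.ofFinite A
  rw [Nat.card_eq_fintype_card, ← Finset.card_univ (α := A)]
  have hAN : ∀ a : A, (a : G) ∈ Subgroup.normalizer (A : Set G) := fun a =>
    Subgroup.le_normalizer a.2
  symm
  refine Finset.card_bij' (fun a _ => (⟨(a : G), hAN a⟩ : Subgroup.normalizer (A : Set G)) * x₀)
    (fun x hx => ⟨((x * x₀⁻¹ : Subgroup.normalizer (A : Set G)) : G), ?_⟩) ?_ ?_ ?_ ?_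
  · have h1 : cj A x m = l := (Finset.mem_filter.1 hx).2
    rw [← cj_eq_self_iff hA hm hm1, cj_mul, h1, ← hx₀, ← cj_mul, mul_inv_cancel, cj_one]
  · intro a _
    rw [Finset.mem_filter]
    refine ⟨Finset.mem_univ _, ?_⟩
    have h2 : cj A (⟨(a : G), hAN a⟩ : Subgroup.normalizer (A : Set G)) m = m :=
      (cj_eq_self_iff hA hm hm1 _).2 a.2
    rw [cj_mul, h2, hx₀]
  · intro x _
    exact Finset.mem_univ _
  · intro a _
    apply Subtype.ext
    simp
  · intro x _
    apply Subtype.ext
    simp

/-- Conjugacy of functions on `A` under the normalizer. -/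
def Rel (A : Subgroup G) (m l : A → ℂ) : Prop :=
  ∃ x : Subgroup.normalizer (A : Set G), cj A x m = l

theorem Rel.refl (m : A → ℂ) : Rel A m m := ⟨1, cj_one A m⟩

theorem Rel.symm {m l : A → ℂ} (h : Rel A m l) : Rel A l m := by
  obtain ⟨x, rfl⟩ := h
  exact ⟨x⁻¹, by rw [← cj_mul, mul_inv_cancel, cj_one]⟩

theorem Rel.trans {m l k : A → ℂ} (h : Rel A m l) (h' : Rel A l k) : Rel A m k := by
  obtain ⟨x, rfl⟩ := h
  obtain ⟨y, rfl⟩ := h'
  exact ⟨x * y, by rw [cj_mul]⟩

/-- The size of an orbit times the order of `A` is the order of the normalizer. -/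
theorem card_rel_mul_card [Finite G] [Fintype (IrrCharacter A)] [DecidableEq (A → ℂ)]
    (hA : IsCC A) {m : A → ℂ} (hm : IsIrrCharacter A m) (hm1 : m ≠ 1)
    [DecidablePred (fun l : IrrCharacter A => Rel A m (l : A → ℂ))] :
    (Finset.univ.filter (fun l : IrrCharacter A => Rel A m (l : A → ℂ))).card * Nat.card A =
      Nat.card (Subgroup.normalizer (A : Set G)) := by
  classical
  have : Fintype (Subgroup.normalizer (A : Set G)) := Fintype.ofFinite _
  rw [Nat.card_eq_fintype_card (α := Subgroup.normalizer (A : Set G)), ← Finset.card_univ]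
  let F : Subgroup.normalizer (A : Set G) → IrrCharacter A := fun x => ⟨cj A x m, isIrr_cj A x hm⟩
  rw [Finset.card_eq_sum_card_fiberwise (f := F)
    (t := Finset.univ.filter (fun l : IrrCharacter A => Rel A m (l : A → ℂ)))]
  · rw [Finset.sum_congr rfl (g := fun _ => Nat.card A)]
    · rw [Finset.sum_const, smul_eq_mul]
    · intro l hl
      obtain ⟨x₀, hx₀⟩ := (Finset.mem_filter.1 hl).2
      rw [← card_cj_eq hA hm hm1 x₀ hx₀]
      congr 1
      ext x
      rw [Finset.mem_filter, Finset.mem_filter]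
      constructor
      · rintro ⟨h1, h2⟩
        exact ⟨h1, congrArg Subtype.val h2⟩
      · rintro ⟨h1, h2⟩
        exact ⟨h1, Subtype.ext h2⟩
  · intro x _
    simp only [Finset.coe_filter, Set.mem_ofPred_eq, Finset.mem_univ, true_and]
    exact ⟨x, rfl⟩

/-- In odd order, a nonprincipal character of a CC-subgroup is not conjugate to its complex
conjugate. -/
theorem not_rel_conj [Finite G] (hodd : Odd (Nat.card G)) (hA : IsCC A) {m : A → ℂ}
    (hm : IsIrrCharacter A m) (hm1 : m ≠ 1) : ¬ Rel A m (fun a => conj (m a)) := by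
  rintro ⟨x, hx⟩
  have hx2 : cj A (x * x) m = m := by
    rw [cj_mul, hx]
    have : cj A x (fun a => conj (m a)) = fun a => conj (cj A x m a) := rfl
    rw [this, hx]
    funext a
    simp
  have hmem : ((x * x : Subgroup.normalizer (A : Set G)) : G) ∈ A :=
    (cj_eq_self_iff hA hm hm1 _).1 hx2
  have hxA : (x : G) ∈ A := by
    obtain ⟨k, hk⟩ := hodd
    have h1 : (x : G) ^ Nat.card G = 1 := pow_card_eq_one'
    have h2 : (x : G) = (((x : G) * x) ^ (k + 1)) := by
      have : (((x : G) * x) ^ (k + 1)) = (x : G) ^ Nat.card G * x := by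
        rw [hk, ← pow_two, ← pow_mul, ← pow_succ]
        congr 1
      rw [this, h1, one_mul]
    rw [h2]
    exact A.pow_mem hmem _
  have hreal : m = fun a => conj (m a) := by
    rw [← hx]
    exact ((cj_eq_self_iff hA hm hm1 x).2 hxA).symm
  apply hm1
  obtain ⟨f, rfl⟩ := exists_hom_of_comm (comm_coe hA) hm
  funext a
  have h3 : conj ((f a : ℂ)) = f a := (congrFun hreal a).symm
  have h4 : ‖(f a : ℂ)‖ = 1 := Linear.norm_hom_apply f a
  have h5 : (f a : ℂ) * (f a : ℂ) = 1 := by
    have := Complex.mul_conj (f a : ℂ)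
    rw [h3, Complex.normSq_eq_norm_sq, h4] at this
    simpa using this
  have h6 : (f a) * (f a) = 1 := Units.ext (by simpa using h5)
  have hoddA : Odd (Nat.card A) := by
    obtain ⟨c, hc⟩ := Subgroup.card_subgroup_dvd_card A
    rw [hc] at hodd
    exact (Nat.odd_mul.1 hodd).1
  obtain ⟨k, hk⟩ := hoddA
  have h7 : (f a) ^ Nat.card A = 1 := by rw [← map_pow, pow_card_eq_one', map_one]
  have h8 : (f a) = 1 := by
    rw [hk, pow_succ, pow_mul, pow_two, h6, one_pow, one_mul] at h7
    exact h7
  simp [h8]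

end Cfsg.Agent.Characters.CCOrbit
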