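import Cfsg.Agent.Characters.CCExceptional
import Cfsg.Agent.S0145

/-!
# Values of the irreducible characters of `G` on a CC-subgroup `A`
-/

set_option autoImplicit false

open scoped ComplexConjugate
open Cfsg

namespace Cfsg.Agent.Characters.CCValues

open CCBasic CCOrbit CCInduce CCExceptional CharactersDeep.NormalInd

universe u

variable {G : Type u} [Group G] {A : Subgroup G}

/-- The principal character as an element of `IrrCharacter`. -/
noncomputable def one (A : Type*) [Group A] : IrrCharacter A := ⟨1, Core.isIrr_one⟩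

theorem coe_one (A : Type*) [Group A] : (one A : A → ℂ) = 1 := rfl

theorem sum_irr_eq [Fintype (IrrCharacter A)] [Fintype (NP A)] {M : Type*} [AddCommMonoid M]
    (F : IrrCharacter A → M) : ∑ l, F l = F (one A) + ∑ l : NP A, F l.1 := by
  classical
  rw [← Finset.add_sum_erase Finset.univ F (Finset.mem_univ (one A))]
  congr 1
  apply Finset.sum_subtype
  intro l
  rw [Finset.mem_erase]
  constructor
  · rintro ⟨h, -⟩ h1
    exact h (Subtype.ext h1)
  · intro h
    refine ⟨fun h1 => h ?_, Finset.mem_univ _⟩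
    rw [h1]
    rfl

theorem card_np [Finite G] (hA : IsCC A) [Fintype (NP A)] : Fintype.card (NP A) + 1 = Nat.card A := by
  classical
  have : Finite (IrrCharacter A) := Core.finite_irr
  have : Fintype (IrrCharacter A) := Fintype.ofFinite _
  have h := sum_irr_eq (A := A) (fun _ => (1 : ℕ))
  rw [← card_irr_of_comm (comm_coe hA), Nat.card_eq_fintype_card]
  simp only [Finset.sum_const, Finset.card_univ, smul_eq_mul, mul_one] at h
  omega

theorem classFunction_of_comm (hA : IsCC A) (θ : A → ℂ) : IsClassFunction A θ := by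
  intro g h
  rw [comm_coe hA h g]
  congr 1
  group

/-- The sum of the nonprincipal characters at a nonidentity element is `-1`. -/
theorem sum_np_apply [Finite G] (hA : IsCC A) [Fintype (NP A)] {a : A} (ha : a ≠ 1) :
    ∑ l : NP A, (l.1 : A → ℂ) a = -1 := by
  classical
  have : Finite (IrrCharacter A) := Core.finite_irr
  have : Fintype (IrrCharacter A) := Fintype.ofFinite _
  have h := (Cfsg.Agent.S0145.result (G := A) a 1).2 (by
    intro hc
    rw [isConj_one_left] at hc
    exact ha hc)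
  rw [finsum_eq_sum_of_fintype, sum_irr_eq] at h
  have h1 : ∀ l : NP A, (l.1 : A → ℂ) a * conj ((l.1 : A → ℂ) 1) = (l.1 : A → ℂ) a := by
    intro l
    rw [irr_apply_one_of_comm (comm_coe hA) l.1.2]
    simp
  rw [Finset.sum_congr rfl (fun l _ => h1 l), coe_one] at h
  simp only [Pi.one_apply, map_one, mul_one] at h
  linear_combination h

section mult

variable [Fintype A]

/-- The multiplicity of `l` in the restriction of `ψ` to `A`. -/
noncomputable def mult (ψ : IrrCharacter G) (l : IrrCharacter A) : ℤ :=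
  ((Classical.choose (Core.classInner_isNat (G := A)
    (Core.isCharacter_comp A.subtype (Core.isIrr_isCharacter ψ.2))
    (Core.isIrr_isCharacter l.2)) : ℕ) : ℤ)

theorem mult_spec (ψ : IrrCharacter G) (l : IrrCharacter A) :
    classInner (fun a : A => (ψ : G → ℂ) a) (l : A → ℂ) = (mult ψ l : ℂ) := by
  have h := Classical.choose_spec (Core.classInner_isNat (G := A)
    (Core.isCharacter_comp A.subtype (Core.isIrr_isCharacter ψ.2))
    (Core.isIrr_isCharacter l.2))
  unfold mult
  rw [Int.cast_natCast]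
  exact h

theorem mult_nonneg (ψ : IrrCharacter G) (l : IrrCharacter A) : 0 ≤ mult ψ l := by
  unfold mult
  exact Int.natCast_nonneg _

theorem restrict_eq_sum (hA : IsCC A) [Fintype (IrrCharacter A)] (ψ : IrrCharacter G) (a : A) :
    (ψ : G → ℂ) a = ∑ l : IrrCharacter A, (mult ψ l : ℂ) * (l : A → ℂ) a := by
  have h := Core.classFunction_eq_sum (classFunction_of_comm hA (fun a : A => (ψ : G → ℂ) a))
  have h1 := congrFun h a
  rw [Finset.sum_apply] at h1
  refine h1.trans ?_
  refine Finset.sum_congr rfl (fun l _ => ?_)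
  rw [Pi.smul_apply, mult_spec, smul_eq_mul]

theorem sum_mult (hA : IsCC A) [Fintype (IrrCharacter A)] (ψ : IrrCharacter G) :
    (ψ : G → ℂ) 1 = ((∑ l : IrrCharacter A, mult ψ l : ℤ) : ℂ) := by
  have h := restrict_eq_sum hA ψ 1
  rw [Subgroup.coe_one] at h
  rw [h]
  push_cast
  refine Finset.sum_congr rfl (fun l _ => ?_)
  rw [irr_apply_one_of_comm (comm_coe hA) l.2, mul_one]

theorem sum_normSq (hA : IsCC A) [Fintype (IrrCharacter A)] (ψ : IrrCharacter G) :
    ∑ a : A, Complex.normSq ((ψ : G → ℂ) a) =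
      ((Nat.card A * ∑ l : IrrCharacter A, mult ψ l ^ 2 : ℤ) : ℝ) := by
  have hn : (Nat.card A : ℂ) ≠ 0 := Core.card_ne_zero_complex
  have hc := classFunction_of_comm hA (fun a : A => (ψ : G → ℂ) a)
  have h := Core.classInner_eq_sum hc hc
  rw [Core.classInner_def] at h
  have h1 : ∑ a : A, (ψ : G → ℂ) a * conj ((ψ : G → ℂ) a) =
      (Nat.card A : ℂ) * ∑ l : IrrCharacter A, (mult ψ l : ℂ) ^ 2 := by
    have h2 := congrArg (fun z => (Nat.card A : ℂ) * z) h
    rw [← mul_assoc, mul_inv_cancel₀ hn, one_mul] at h2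
    refine h2.trans ?_
    congr 1
    refine Finset.sum_congr rfl (fun l _ => ?_)
    rw [mult_spec, map_intCast, pow_two]
  have h3 : ((∑ a : A, Complex.normSq ((ψ : G → ℂ) a) : ℝ) : ℂ) =
      (((Nat.card A * ∑ l : IrrCharacter A, mult ψ l ^ 2 : ℤ) : ℝ) : ℂ) := by
    push_cast
    rw [← h1]
    refine Finset.sum_congr rfl (fun a _ => ?_)
    rw [Complex.mul_conj]
  exact_mod_cast h3

end mult

/-- The exceptional characters attached to a CC-subgroup. -/
structure Exc [Fintype G] (A : Subgroup G) where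
  /-- the sign -/
  ε : ℤ
  /-- the exceptional character attached to a nonprincipal character of `A` -/
  E : NP A → IrrCharacter G
  hε : ε = 1 ∨ ε = -1
  E_iff : ∀ l m : NP A, E l = E m ↔ Rel A (l.1 : A → ℂ) (m.1 : A → ℂ)
  ind : ∀ l m : NP A, indFun A (l.1 : A → ℂ) - indFun A (m.1 : A → ℂ) =
        (ε : ℂ) • ((E l : G → ℂ) - (E m : G → ℂ))

theorem nonempty_exc [Fintype G] (hA : IsCC A) : Nonempty (Exc A) := by
  obtain ⟨ε, E, hε, h1, h2⟩ := exists_exceptional hA
  rcases hε with rfl | rfl
  · exact ⟨⟨1, E, Or.inl rfl, h1, by simpa using h2⟩⟩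
  · exact ⟨⟨-1, E, Or.inr rfl, h1, by simpa using h2⟩⟩

open scoped Classical in
theorem mult_sub [Fintype G] [Fintype A] (hA : IsCC A) (X : Exc A) (ψ : IrrCharacter G) (l m : NP A) :
    mult ψ l.1 - mult ψ m.1 =
      X.ε * ((if ψ = X.E l then 1 else 0) - (if ψ = X.E m then 1 else 0)) := by
  have h1 : classInner (indFun A ((l.1 : A → ℂ) - (m.1 : A → ℂ))) (ψ : G → ℂ) =
      classInner ((l.1 : A → ℂ) - (m.1 : A → ℂ)) (fun a : A => (ψ : G → ℂ) a) :=
    classInner_indFun A _ _ (Core.isIrr_isClassFunction ψ.2)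
  rw [indFun_sub, X.ind, Core.classInner_smul_left, Core.classInner_sub_left,
    Core.classInner_sub_left, Core.classInner_irr (X.E l).2 ψ.2,
    Core.classInner_irr (X.E m).2 ψ.2, ← Core.classInner_conj_symm _ (l.1 : A → ℂ),
    ← Core.classInner_conj_symm _ (m.1 : A → ℂ), mult_spec, mult_spec, map_intCast,
    map_intCast] at h1
  have h2 : ∀ l : NP A, ((X.E l : G → ℂ) = (ψ : G → ℂ)) ↔ ψ = X.E l := fun l =>
    ⟨fun h => (Subtype.ext h).symm, fun h => congrArg Subtype.val h.symm⟩
  simp only [h2] at h1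
  have h3 : ((mult ψ l.1 - mult ψ m.1 : ℤ) : ℂ) =
      ((X.ε * ((if ψ = X.E l then 1 else 0) - (if ψ = X.E m then 1 else 0)) : ℤ) : ℂ) := by
    push_cast
    exact h1.symm
  exact_mod_cast h3

/-- A nonexceptional character is constant, with integral value, on `A#`. -/
theorem apply_eq_of_not_exceptional [Fintype G] [Fintype A] (hA : IsCC A) (X : Exc A)
    {ψ : IrrCharacter G} (hψ : ∀ l, ψ ≠ X.E l) :
    ∃ c : ℤ, ∀ a : A, a ≠ 1 → (ψ : G → ℂ) a = c := by
  classical
  have : Finite (IrrCharacter A) := Core.finite_irr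
  have : Fintype (IrrCharacter A) := Fintype.ofFinite _
  obtain ⟨l₀⟩ := nonempty_np hA
  refine ⟨mult ψ (one A) - mult ψ l₀.1, ?_⟩
  intro a ha
  rw [restrict_eq_sum hA ψ a, sum_irr_eq]
  have h1 : ∀ l : NP A, mult ψ l.1 = mult ψ l₀.1 := by
    intro l
    have := mult_sub hA X ψ l l₀
    rw [if_neg (hψ l), if_neg (hψ l₀)] at this
    linarith
  rw [Finset.sum_congr rfl (fun l _ => by rw [h1 l]), ← Finset.mul_sum, sum_np_apply hA ha,
    coe_one]
  push_cast
  simp
  ring

end Cfsg.Agent.Characters.CCValues
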