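import Mathlib

/-!
Basic facts on CN-groups used for the odd order CN-theorem.
-/

set_option autoImplicit false

namespace Cfsg.Agent.Characters.CNBasic

open Subgroup
open scoped commutatorElement

/-- In a finite nilpotent group elements of coprime order commute. -/
theorem commute_of_coprime {C : Type*} [Group C] [Finite C] (h : Group.IsNilpotent C) {x y : C}
    (hxy : (orderOf x).Coprime (orderOf y)) : x * y = y * x := by
  have h4 := ((Group.isNilpotent_of_finite_tfae (G := C)).out 0 4).1 h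
  obtain ⟨e⟩ := h4
  apply e.symm.injective
  rw [map_mul, map_mul]
  ext p P
  have hx : orderOf (e.symm x p P) ∣ orderOf x := by
    rw [← e.symm.orderOf_eq x]
    refine orderOf_dvd_of_pow_eq_one ?_
    have := pow_orderOf_eq_one (e.symm x)
    have h2 := congrFun (congrFun this p) P
    simpa using h2
  have hy : orderOf (e.symm y p P) ∣ orderOf y := by
    rw [← e.symm.orderOf_eq y]
    refine orderOf_dvd_of_pow_eq_one ?_
    have := pow_orderOf_eq_one (e.symm y)
    have h2 := congrFun (congrFun this p) P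
    simpa using h2
  have hp : Fact (p : ℕ).Prime := ⟨Nat.prime_of_mem_primeFactors p.2⟩
  obtain ⟨a, ha⟩ := (IsPGroup.iff_orderOf.1 P.isPGroup') (e.symm x p P)
  obtain ⟨b, hb⟩ := (IsPGroup.iff_orderOf.1 P.isPGroup') (e.symm y p P)
  rcases Nat.eq_zero_or_pos a with h0 | h0
  · rw [h0, pow_zero, orderOf_eq_one_iff] at ha
    simp [ha]
  rcases Nat.eq_zero_or_pos b with h1 | h1
  · rw [h1, pow_zero, orderOf_eq_one_iff] at hb
    simp [hb]
  exfalso
  have h3 : (p : ℕ) ∣ orderOf x := (dvd_pow_self _ h0.ne').trans (ha ▸ hx)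
  have h4 : (p : ℕ) ∣ orderOf y := (dvd_pow_self _ h1.ne').trans (hb ▸ hy)
  exact Nat.not_coprime_of_dvd_of_dvd hp.out.one_lt h3 h4 hxy

variable {G : Type*} [Group G] [Finite G]

/-- In a CN-group two elements of coprime orders commuting with a common nontrivial element commute. -/
theorem cn_commute (hCN : ∀ g : G, g ≠ 1 → Group.IsNilpotent (Subgroup.centralizer ({g} : Set G)))
    {x a b : G} (hx : x ≠ 1) (ha : a * x = x * a) (hb : b * x = x * b)
    (hab : (orderOf a).Coprime (orderOf b)) : a * b = b * a := by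
  have ha' : a ∈ Subgroup.centralizer ({x} : Set G) := by
    rw [Subgroup.mem_centralizer_singleton_iff]; exact ha
  have hb' : b ∈ Subgroup.centralizer ({x} : Set G) := by
    rw [Subgroup.mem_centralizer_singleton_iff]; exact hb
  have h := commute_of_coprime (hCN x hx) (x := ⟨a, ha'⟩) (y := ⟨b, hb'⟩)
    (by rwa [← Subgroup.orderOf_coe, ← Subgroup.orderOf_coe])
  exact congrArg Subtype.val h

theorem exists_mem_center_of_normal {p : ℕ} [Fact p.Prime] (T : Subgroup G) (hT : IsPGroup p T)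
    (D : Subgroup G) (hDp : IsPGroup p D) (hD1 : D ≠ ⊥) (hn : ∀ t ∈ T, ∀ d ∈ D, t * d * t⁻¹ ∈ D) :
    ∃ w ∈ D, w ≠ 1 ∧ ∀ t ∈ T, t * w = w * t := by
  let act : MulAction T D :=
    { smul := fun t d => ⟨t * d * (t : G)⁻¹, hn t t.2 d d.2⟩
      one_smul := fun d => Subtype.ext (by
        show ((1 : T) : G) * d * ((1 : T) : G)⁻¹ = d
        simp)
      mul_smul := fun s t d => Subtype.ext (by
        show ((s * t : T) : G) * d * ((s * t : T) : G)⁻¹ = s * (t * d * (t : G)⁻¹) * (s : G)⁻¹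
        simp [mul_assoc]) }
  have hsmul : ∀ (t : T) (d : D), ((t • d : D) : G) = t * d * (t : G)⁻¹ := fun t d => rfl
  have hdvd : p ∣ Nat.card D := by
    obtain ⟨n, hn⟩ := IsPGroup.iff_card.1 hDp
    rcases Nat.eq_zero_or_pos n with h0 | h0
    · rw [h0, pow_zero] at hn
      exact absurd (Subgroup.eq_bot_of_card_eq D hn) hD1
    · rw [hn]; exact dvd_pow_self p h0.ne'
  have h1 : (1 : D) ∈ MulAction.fixedPoints T D := by
    intro t
    apply Subtype.ext
    rw [hsmul]; simp
  obtain ⟨b, hb, hb1⟩ := hT.exists_fixed_point_of_prime_dvd_card_of_fixed_point D hdvd h1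
  refine ⟨b, b.2, fun h => hb1 (Subtype.ext h.symm), fun t ht => ?_⟩
  have := congrArg Subtype.val (hb ⟨t, ht⟩)
  rw [hsmul] at this
  exact mul_inv_eq_iff_eq_mul.1 this

theorem orderOf_coprime_of_pgroup {p : ℕ} {T : Subgroup G} (hT : IsPGroup p T) {h : G}
    (hh : (orderOf h).Coprime p) {t : G} (ht : t ∈ T) : (orderOf t).Coprime (orderOf h) := by
  obtain ⟨k, hk⟩ := hT ⟨t, ht⟩
  have hk' : t ^ p ^ k = 1 := by simpa using congrArg Subtype.val hk
  exact Nat.Coprime.coprime_dvd_left (orderOf_dvd_of_pow_eq_one hk') (Nat.Coprime.pow_left k hh.symm)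

/-- A nontrivial finite solvable group has a nontrivial normal elementary abelian subgroup. -/
theorem exists_normal_elementary (K : Type*) [Group K] [Finite K] [Group.IsSolvable K] [Nontrivial K] :
    ∃ q : ℕ, q.Prime ∧ ∃ N : Subgroup K, N.Normal ∧ N ≠ ⊥ ∧ (∀ x ∈ N, ∀ y ∈ N, x * y = y * x) ∧
      ∀ x ∈ N, x ^ q = 1 := by
  classical
  have hex : ∃ n, derivedSeries K n = ⊥ := (inferInstance : Group.IsSolvable K).solvable
  have hmin := Nat.find_spec hex
  have hpos : Nat.find hex ≠ 0 := by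
    intro h0
    rw [h0, derivedSeries_zero] at hmin
    exact bot_ne_top hmin.symm
  obtain ⟨m, hm⟩ := Nat.exists_eq_succ_of_ne_zero hpos
  have hAne : derivedSeries K m ≠ ⊥ := by
    intro h
    have := Nat.find_min' hex h
    omega
  have hAc : ∀ x ∈ derivedSeries K m, ∀ y ∈ derivedSeries K m, x * y = y * x := by
    intro x hx y hy
    have h1 : ⁅derivedSeries K m, derivedSeries K m⁆ = ⊥ := by
      rw [← derivedSeries_succ, ← Nat.succ_eq_add_one, ← hm]; exact hmin
    have h2 : ⁅x, y⁆ ∈ ⁅derivedSeries K m, derivedSeries K m⁆ := Subgroup.commutator_mem_commutator hx hy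
    rw [h1, Subgroup.mem_bot] at h2
    exact commutatorElement_eq_one_iff_mul_comm.1 h2
  have hcard : Nat.card (derivedSeries K m) ≠ 1 := fun h => hAne (Subgroup.eq_bot_of_card_eq _ h)
  obtain ⟨q, hq, hqd⟩ := Nat.exists_prime_and_dvd hcard
  haveI : Fact q.Prime := ⟨hq⟩
  obtain ⟨a, ha⟩ := exists_prime_orderOf_dvd_card' q hqd
  refine ⟨q, hq, { carrier := {x | x ∈ derivedSeries K m ∧ x ^ q = 1}, mul_mem' := ?_, one_mem' := ?_, inv_mem' := ?_ }, ?_, ?_, ?_, ?_⟩
  · rintro x y ⟨hx, hx1⟩ ⟨hy, hy1⟩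
    refine ⟨mul_mem hx hy, ?_⟩
    have : Commute x y := hAc x hx y hy
    rw [this.mul_pow, hx1, hy1, one_mul]
  · exact ⟨one_mem _, one_pow _⟩
  · rintro x ⟨hx, hx1⟩
    exact ⟨inv_mem hx, by rw [inv_pow, hx1, inv_one]⟩
  · constructor
    rintro x ⟨hx, hx1⟩ g
    refine ⟨(inferInstance : (derivedSeries K m).Normal).conj_mem x hx g, ?_⟩
    rw [conj_pow, hx1, mul_one, mul_inv_cancel]
  · intro h
    have h1 : (a : K) ∈ (⊥ : Subgroup K) := by
      rw [← h]
      refine ⟨a.2, ?_⟩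
      rw [← ha]
      exact_mod_cast congrArg Subtype.val (pow_orderOf_eq_one a)
    have h2 : a = 1 := Subtype.ext (Subgroup.mem_bot.1 h1)
    rw [h2, orderOf_one] at ha
    exact hq.one_lt.ne ha
  · rintro x ⟨hx, -⟩ y ⟨hy, -⟩
    exact hAc x hx y hy
  · rintro x ⟨-, hx⟩
    exact hx

/-- Lifting an element of order `q` from a quotient by a `p`-group. -/
theorem exists_lift {p q : ℕ} [Fact p.Prime] [hq : Fact q.Prime] (hqp : q ≠ p) (D : Subgroup G) [D.Normal]
    (hD : IsPGroup p D) (x : G ⧸ D) (hx : x ^ q = 1) (hx1 : x ≠ 1) :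
    ∃ h : G, orderOf h = q ∧ (h : G ⧸ D) = x := by
  obtain ⟨g, rfl⟩ := QuotientGroup.mk_surjective x
  have hgq : g ^ q ∈ D := by
    rw [← QuotientGroup.eq_one_iff, QuotientGroup.mk_pow]; exact hx
  obtain ⟨a, ha⟩ := hD ⟨g ^ q, hgq⟩
  have ha' : (g ^ q) ^ p ^ a = 1 := by simpa using congrArg Subtype.val ha
  have hcop : (p ^ a).Coprime q := ((Nat.coprime_primes (Fact.out) hq.out).2 hqp.symm).pow_left a
  obtain ⟨e, he⟩ := Nat.chineseRemainder hcop 0 1
  have he0 : p ^ a ∣ e := (Nat.modEq_zero_iff_dvd).1 he.1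
  have he1 : (g ^ e : G ⧸ D) = g := by
    have h1 : e ≡ 1 [MOD q] := he.2
    have h2 : e ≡ 1 [MOD orderOf (g : G ⧸ D)] := h1.of_dvd (orderOf_dvd_of_pow_eq_one hx)
    have := pow_eq_pow_iff_modEq.2 h2
    rw [this, pow_one]
  refine ⟨g ^ e, ?_, he1⟩
  apply orderOf_eq_prime
  · obtain ⟨c, rfl⟩ := he0
    rw [← pow_mul, mul_comm, ← mul_assoc, pow_mul, pow_mul, ha', one_pow]
  · intro h
    apply hx1
    rw [← he1]
    have := congrArg (QuotientGroup.mk : G → G ⧸ D) h
    simpa using this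

end Cfsg.Agent.Characters.CNBasic
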