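import Mathlib

/-!
# Focal subgroup theorem: a subgroup controlling the fusion of a Sylow subgroup
-/

set_option autoImplicit false

namespace Cfsg.Agent.Characters.CNFocal

open Subgroup

/-- If `M` contains the Sylow subgroup `P` and every element conjugating a non-identity element
of `P` into `P`, then `P ⊓ G' ≤ M'`. -/
theorem inf_commutator_le_of_controls {G : Type*} [Group G] [Finite G] (p : ℕ) [Fact p.Prime]
    (P : Sylow p G) (M : Subgroup G) (hPM : (P : Subgroup G) ≤ M)
    (hctrl : ∀ x ∈ (P : Subgroup G), x ≠ 1 → ∀ g : G, g * x * g⁻¹ ∈ (P : Subgroup G) → g ∈ M) :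
    commutator G ⊓ (P : Subgroup G) ≤ ⁅M, M⁆ := by
  rw [commutator_inf_eq_focalSubgroup P, focalSubgroup_def, closure_le]
  rintro g ⟨hg, x, hx, u, rfl⟩
  by_cases hx1 : x = 1
  · subst hx1
    rw [commutatorElement_one_left]
    exact one_mem _
  · have hu : u ∈ M := by
      refine hctrl x⁻¹ (inv_mem hx) (inv_ne_one.2 hx1) u ?_
      have h1 := mul_mem (inv_mem hx) hg
      rw [commutatorElement_def] at h1
      have h2 : x⁻¹ * (x * u * x⁻¹ * u⁻¹) = u * x⁻¹ * u⁻¹ := by group
      rwa [h2] at h1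
    exact commutator_mem_commutator (hPM hx) hu

/-- If moreover `G` is perfect, then `P ≤ M'`. -/
theorem le_commutator_of_controls {G : Type*} [Group G] [Finite G] (p : ℕ) [Fact p.Prime]
    (P : Sylow p G) (hGc : commutator G = ⊤) (M : Subgroup G) (hPM : (P : Subgroup G) ≤ M)
    (hctrl : ∀ x ∈ (P : Subgroup G), x ≠ 1 → ∀ g : G, g * x * g⁻¹ ∈ (P : Subgroup G) → g ∈ M) :
    (P : Subgroup G) ≤ ⁅M, M⁆ := by
  have h := inf_commutator_le_of_controls p P M hPM hctrl
  rwa [hGc, top_inf_eq] at h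

end Cfsg.Agent.Characters.CNFocal
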