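import Mathlib

/-!
# Fixed-point-free actions: two elementary lemmas

* `card_le_of_free`: an elementary abelian `q`-group acting freely on a nonzero abelian group
  without `q`-torsion has order at most `q`.
* `eq_zero_of_quadratic`: a quadratic automorphism `a` normalising (and not centralising) an
  abelian group `R` acting freely on an abelian group `V` without `2`-torsion forces `V = 0`.
-/

set_option autoImplicit false

namespace Cfsg.Agent.Characters.CNFree

open Finset

/-- The sum over the powers of an element of order dividing `q` acting without fixed points is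
zero. -/
theorem sum_pow_smul_eq_zero {R V : Type*} [Group R] [AddCommGroup V] [DistribMulAction R V]
    (q : ℕ) (s : R) (hs : s ^ q = 1) (hfree : ∀ v : V, s • v = v → v = 0) (v : V) :
    ∑ j ∈ range q, s ^ j • v = 0 := by
  apply hfree
  rw [smul_sum]
  have h1 := sum_range_succ (fun j => s ^ j • v) q
  rw [sum_range_succ' (fun j => s ^ j • v) q] at h1
  simp only [pow_zero, hs, one_smul, add_left_inj] at h1
  rw [← h1]
  refine sum_congr rfl fun j _ => ?_
  rw [smul_smul, pow_succ']

/-- (A) An elementary abelian `q`-group acting freely on a nonzero abelian group without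
`q`-torsion has order at most `q`. -/
theorem card_le_of_free {R V : Type*} [Group R] [AddCommGroup V] [DistribMulAction R V]
    (q : ℕ) [Fact q.Prime] (hcomm : ∀ r s : R, r * s = s * r) (hR : ∀ r : R, r ^ q = 1)
    (hfree : ∀ r : R, r ≠ 1 → ∀ v : V, r • v = v → v = 0)
    (htor : ∀ v : V, q • v = 0 → v = 0) (hV : ∃ v : V, v ≠ 0) : Nat.card R ≤ q := by
  by_contra hcon
  push Not at hcon
  have hq : q.Prime := Fact.out
  have hfin : Finite R := Nat.finite_of_card_ne_zero (by omega)
  have hnt : Nontrivial R := by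
    rw [← Finite.one_lt_card_iff_nontrivial]
    exact lt_trans hq.one_lt hcon
  obtain ⟨x, hx⟩ := exists_ne (1 : R)
  have hox : orderOf x = q := orderOf_eq_prime (hR x) hx
  obtain ⟨y, hy⟩ : ∃ y : R, y ∉ Subgroup.zpowers x := by
    by_contra h
    push Not at h
    have h1 : Subgroup.zpowers x = ⊤ := by
      ext z; simp [h z]
    have h2 : Nat.card (Subgroup.zpowers x) = Nat.card R := by rw [h1, Subgroup.card_top]
    rw [Nat.card_zpowers, hox] at h2
    omega
  have hxy : ∀ k : ℕ, x ^ k * y ≠ 1 := by
    intro k h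
    apply hy
    rw [eq_inv_of_mul_eq_one_right h]
    exact inv_mem (pow_mem (Subgroup.mem_zpowers x) k)
  have hxj : ∀ j : ℕ, 0 < j → j < q → x ^ j ≠ 1 := by
    intro j h0 hj h
    have := orderOf_dvd_of_pow_eq_one h
    rw [hox] at this
    exact absurd (Nat.le_of_dvd h0 this) (by omega)
  obtain ⟨v, hv⟩ := hV
  apply hv
  apply htor
  have h1 : ∑ k ∈ range q, ∑ j ∈ range q, (x ^ k * y) ^ j • v = 0 := by
    apply sum_eq_zero
    intro k _
    exact sum_pow_smul_eq_zero q _ (hR _) (hfree _ (hxy k)) v
  rw [sum_comm] at h1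
  have h2 : ∀ j ∈ range q, ∑ k ∈ range q, (x ^ k * y) ^ j • v = if j = 0 then q • v else 0 := by
    intro j hj
    rw [mem_range] at hj
    split_ifs with h0
    · subst h0; simp
    · have h3 : ∀ k ∈ range q, (x ^ k * y) ^ j • v = (x ^ j) ^ k • (y ^ j • v) := by
        intro k _
        rw [(show Commute (x ^ k) y from hcomm _ _).mul_pow, ← pow_mul, mul_comm k j, pow_mul, mul_smul]
      rw [sum_congr rfl h3]
      exact sum_pow_smul_eq_zero q _ (hR _) (hfree _ (hxj j (Nat.pos_of_ne_zero h0) hj)) _
  rw [sum_congr rfl h2, sum_ite_eq' (range q) 0 (fun _ => q • v)] at h1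
  simpa [hq.pos] using h1

/-- (B) A quadratic element `a` normalising but not centralising an abelian group `R` which
acts freely on an abelian group `V` without `2`-torsion forces `V = 0`. -/
theorem eq_zero_of_quadratic {A V : Type*} [Group A] [AddCommGroup V] [DistribMulAction A V]
    (R : Subgroup A) (hcomm : ∀ r ∈ R, ∀ s ∈ R, r * s = s * r) (a : A)
    (haR : ∀ r ∈ R, a * r * a⁻¹ ∈ R) (hmove : ∃ r ∈ R, a * r * a⁻¹ ≠ r)
    (hfree : ∀ r ∈ R, r ≠ 1 → ∀ v : V, r • v = v → v = 0)
    (h2 : ∀ v : V, v + v = 0 → v = 0)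
    (hquad : ∀ v : V, a • (a • v - v) = a • v - v) (v : V) : v = 0 := by
  obtain ⟨r₀, hr₀, hmv⟩ := hmove
  -- elements on whose `R`-orbit `a` acts trivially vanish
  have key0 : ∀ w : V, (∀ s ∈ R, a • (s • w) = s • w) → w = 0 := by
    intro w hw
    have h1 : a • w = w := by simpa using hw 1 R.one_mem
    have h1' : a⁻¹ • w = w := by rw [inv_smul_eq_iff, h1]
    refine hfree (r₀⁻¹ * (a * r₀ * a⁻¹)) (R.mul_mem (R.inv_mem hr₀) (haR _ hr₀)) ?_ w ?_
    · intro h
      exact hmv (inv_mul_eq_one.1 h).symm
    · rw [mul_smul, mul_smul, mul_smul, h1', hw r₀ hr₀, inv_smul_smul]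
  have haa : ∀ u : V, a • (a • u) = a • u + a • u - u := by
    intro u
    have := hquad u
    rw [smul_sub] at this
    rw [sub_eq_iff_eq_add] at this
    rw [this]; abel
  have hainv : ∀ u : V, a⁻¹ • u = u + u - a • u := by
    intro u
    rw [inv_smul_eq_iff, smul_sub, smul_add, haa]
    abel
  -- the formula `2 n r n = -(r₂ - 2 r₁ + r)`
  have hform : ∀ r : A, ∀ u : V,
      (a • (r • (a • u - u)) - r • (a • u - u)) + (a • (r • (a • u - u)) - r • (a • u - u))
      = -((a * (a * r * a⁻¹) * a⁻¹) • u - ((a * r * a⁻¹) • u + (a * r * a⁻¹) • u) + r • u) := by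
    intro r u
    simp only [mul_smul, hainv, haa, smul_sub, smul_add]
    abel
  have step1 : ∀ r ∈ R, ∀ u : V, a • (r • (a • u - u)) - r • (a • u - u) = 0 := by
    intro r hr u
    apply key0
    intro s hs
    have hr1 : a * r * a⁻¹ ∈ R := haR r hr
    have hr2 : a * (a * r * a⁻¹) * a⁻¹ ∈ R := haR _ hr1
    have hcm : s • (a • (r • (a • u - u)) - r • (a • u - u))
        = a • (r • (a • (s • u) - s • u)) - r • (a • (s • u) - s • u) := by
      have e1 := congrArg (fun z => s • z) (hform r u)
      have e2 := hform r (s • u)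
      have c0 : s • r • u = r • s • u := by rw [smul_smul, smul_smul, hcomm s hs r hr]
      have c1 : s • (a * r * a⁻¹) • u = (a * r * a⁻¹) • s • u := by
        rw [smul_smul, smul_smul, hcomm s hs _ hr1]
      have c2 : s • (a * (a * r * a⁻¹) * a⁻¹) • u = (a * (a * r * a⁻¹) * a⁻¹) • s • u := by
        rw [smul_smul, smul_smul, hcomm s hs _ hr2]
      generalize a • (r • (a • u - u)) - r • (a • u - u) = F at e1 ⊢
      generalize a • (r • (a • (s • u) - s • u)) - r • (a • (s • u) - s • u) = F' at e2 ⊢
      simp only [smul_add, smul_neg, smul_sub] at e1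
      rw [c0, c1, c2, ← e2] at e1
      rw [← sub_eq_zero]
      apply h2
      rw [sub_add_sub_comm, e1, sub_self]
    rw [hcm]
    exact hquad _
  have step2 : ∀ u : V, a • u - u = 0 := by
    intro u
    apply key0
    intro s hs
    exact sub_eq_zero.1 (step1 s hs u)
  apply key0
  intro s _
  exact sub_eq_zero.1 (step2 (s • v))

end Cfsg.Agent.Characters.CNFree
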