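import Mathlib
import Cfsg.Agent.Characters.CNFree

/-!
# Fixed-point-free actions inside a group

In-group versions of the lemmas of `CNFree`.  Here `V` is an abelian subgroup of a group `G`,
`R` a subgroup normalising `V`, and `D ≤ R` a subgroup centralising `V` such that the elements of
`R` outside `D` commute with no non-identity element of `V`.
-/

set_option autoImplicit false

namespace Cfsg.Agent.Characters.CNFreeGroup

/-- The action of a group of automorphisms on the additive version of an abelian group. -/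
@[reducible]
def addAction (V : Type*) [CommGroup V] : DistribMulAction (MulAut V) (Additive V) where
  smul f v := Additive.ofMul (f v.toMul)
  one_smul _ := rfl
  mul_smul _ _ _ := rfl
  smul_zero f := congrArg Additive.ofMul (map_one f)
  smul_add f _ _ := congrArg Additive.ofMul (map_mul f _ _)

/-- (A), multiplicative form: a group of automorphisms of the abelian group `V` that is
elementary abelian of exponent `q` and acts freely has order at most `q`, if `V` is nontrivial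
and has no `q`-torsion. -/
theorem card_le_of_free {V : Type*} [CommGroup V] (R : Subgroup (MulAut V)) (q : ℕ)
    [Fact q.Prime] (hcomm : ∀ r ∈ R, ∀ s ∈ R, r * s = s * r) (hR : ∀ r ∈ R, r ^ q = 1)
    (hfree : ∀ r ∈ R, r ≠ 1 → ∀ v : V, r v = v → v = 1)
    (htor : ∀ v : V, v ^ q = 1 → v = 1) (hV : ∃ v : V, v ≠ 1) : Nat.card R ≤ q := by
  let _ := addAction V
  refine CNFree.card_le_of_free (R := R) (V := Additive V) q ?_ ?_ ?_ ?_ ?_
  · intro r s
    exact Subtype.ext (hcomm r r.2 s s.2)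
  · intro r
    exact Subtype.ext (hR r r.2)
  · intro r hr v hv
    exact hfree r r.2 (fun h => hr (Subtype.ext h)) v.toMul hv
  · intro v hv
    exact htor v.toMul hv
  · obtain ⟨v, hv⟩ := hV
    exact ⟨Additive.ofMul v, hv⟩

/-- (B), multiplicative form. -/
theorem eq_one_of_quadratic {V : Type*} [CommGroup V] (R : Subgroup (MulAut V))
    (hcomm : ∀ r ∈ R, ∀ s ∈ R, r * s = s * r) (a : MulAut V)
    (haR : ∀ r ∈ R, a * r * a⁻¹ ∈ R) (hmove : ∃ r ∈ R, a * r * a⁻¹ ≠ r)
    (hfree : ∀ r ∈ R, r ≠ 1 → ∀ v : V, r v = v → v = 1)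
    (h2 : ∀ v : V, v * v = 1 → v = 1)
    (hquad : ∀ v : V, a (a v * v⁻¹) = a v * v⁻¹) (v : V) : v = 1 := by
  let _ := addAction V
  refine CNFree.eq_zero_of_quadratic (V := Additive V) R hcomm a haR hmove ?_ ?_ ?_
    (Additive.ofMul v)
  · intro r hr hr1 v hv
    exact hfree r hr hr1 v.toMul hv
  · intro v hv
    exact h2 v.toMul hv
  · intro v
    have := hquad v.toMul
    rw [← div_eq_mul_inv] at this
    exact this

section inGroup

variable {G : Type*} [Group G]

/-- Conjugation by the elements of a subgroup normalising `V`. -/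
def conjHom (V N : Subgroup G) (hN : N ≤ Subgroup.normalizer (V : Set G)) : N →* MulAut V :=
  V.normalizerMonoidHom.comp (Subgroup.inclusion hN)

theorem conjHom_apply (V N : Subgroup G) (hN : N ≤ Subgroup.normalizer (V : Set G)) (n : N)
    (v : V) : ((conjHom V N hN n v : V) : G) = n * v * (n : G)⁻¹ := rfl

theorem conjHom_eq_one_iff (V N : Subgroup G) (hN : N ≤ Subgroup.normalizer (V : Set G)) (n : N) :
    conjHom V N hN n = 1 ↔ ∀ v ∈ V, (n : G) * v = v * n := by
  constructor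
  · intro h v hv
    have := conjHom_apply V N hN n ⟨v, hv⟩
    rw [h] at this
    simp only [MulAut.one_apply] at this
    rw [eq_mul_inv_iff_mul_eq] at this
    exact this.symm
  · intro h
    ext v
    rw [conjHom_apply, MulAut.one_apply, h v v.2, mul_inv_cancel_right]

/-- (A) inside a group: if `R` normalises the nontrivial abelian subgroup `V` without
`q`-torsion, `D ≤ R` centralises `V`, `R` is elementary abelian of exponent `q` modulo `D` and the
elements of `R` outside `D` commute with no non-identity element of `V`, then `|R : D| ≤ q`. -/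
theorem relIndex_le_of_free (V D R : Subgroup G) (q : ℕ) [Fact q.Prime]
    (hVc : ∀ v ∈ V, ∀ w ∈ V, v * w = w * v) (hRV : R ≤ Subgroup.normalizer (V : Set G))
    (hDR : D ≤ R) (hDV : ∀ d ∈ D, ∀ v ∈ V, d * v = v * d)
    (hRq : ∀ r ∈ R, r ^ q ∈ D) (hRc : ∀ r ∈ R, ∀ s ∈ R, r * s * r⁻¹ * s⁻¹ ∈ D)
    (hfree : ∀ r ∈ R, r ∉ D → ∀ v ∈ V, r * v = v * r → v = 1)
    (htor : ∀ v ∈ V, v ^ q = 1 → v = 1) (hV : V ≠ ⊥) : D.relIndex R ≤ q := by
  let _ : CommGroup V := { (inferInstance : Group V) with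
    mul_comm := fun a b => Subtype.ext (hVc a a.2 b b.2) }
  obtain ⟨v₀, hv₀, hv₀1⟩ : ∃ v : G, v ∈ V ∧ v ≠ 1 := by
    by_contra hcon
    push Not at hcon
    exact hV ((Subgroup.eq_bot_iff_forall V).2 hcon)
  have hker : ∀ r : R, conjHom V R hRV r = 1 ↔ (r : G) ∈ D := by
    intro r
    rw [conjHom_eq_one_iff]
    constructor
    · intro h
      by_contra hr
      exact hv₀1 (hfree r r.2 hr v₀ hv₀ (h v₀ hv₀))
    · intro h v hv
      exact hDV r h v hv
  have hker' : (conjHom V R hRV).ker = D.subgroupOf R := by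
    ext r
    rw [MonoidHom.mem_ker, hker, Subgroup.mem_subgroupOf]
  have h := card_le_of_free (V := V) (conjHom V R hRV).range q ?_ ?_ ?_ ?_ ?_
  · rw [Subgroup.relIndex, ← hker', Subgroup.index_ker]
    exact h
  · rintro _ ⟨r, rfl⟩ _ ⟨s, rfl⟩
    have : conjHom V R hRV (r * s * r⁻¹ * s⁻¹) = 1 := (hker _).2 (hRc r r.2 s s.2)
    rw [map_mul, map_mul, map_mul, map_inv, map_inv] at this
    rw [mul_inv_eq_one, mul_inv_eq_iff_eq_mul] at this
    exact this
  · rintro _ ⟨r, rfl⟩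
    rw [← map_pow]
    exact (hker _).2 (hRq r r.2)
  · rintro _ ⟨r, rfl⟩ hr1 v hv
    have hr : (r : G) ∉ D := fun h => hr1 ((hker r).2 h)
    have h1 := congrArg (fun x : V => (x : G)) hv
    simp only [conjHom_apply] at h1
    rw [mul_inv_eq_iff_eq_mul] at h1
    exact Subtype.ext (hfree r r.2 hr v v.2 h1)
  · intro v hv
    exact Subtype.ext (htor v v.2 (by simpa using congrArg (fun x : V => (x : G)) hv))
  · exact ⟨⟨v₀, hv₀⟩, fun h => hv₀1 (congrArg (fun x : V => (x : G)) h)⟩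

/-- (B) inside a group. -/
theorem eq_bot_of_quadratic (V D R : Subgroup G) (a : G)
    (hVc : ∀ v ∈ V, ∀ w ∈ V, v * w = w * v) (hRV : R ≤ Subgroup.normalizer (V : Set G))
    (haV : a ∈ Subgroup.normalizer (V : Set G))
    (hDR : D ≤ R) (hDV : ∀ d ∈ D, ∀ v ∈ V, d * v = v * d)
    (hRc : ∀ r ∈ R, ∀ s ∈ R, r * s * r⁻¹ * s⁻¹ ∈ D)
    (haR : ∀ r ∈ R, a * r * a⁻¹ ∈ R) (hmove : ∃ r ∈ R, a * r * a⁻¹ * r⁻¹ ∉ D)
    (hfree : ∀ r ∈ R, r ∉ D → ∀ v ∈ V, r * v = v * r → v = 1)
    (h2 : ∀ v ∈ V, v ^ 2 = 1 → v = 1)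
    (hquad : ∀ v ∈ V, a * (a * v * a⁻¹ * v⁻¹) = (a * v * a⁻¹ * v⁻¹) * a) : V = ⊥ := by
  by_contra hV
  let _ : CommGroup V := { (inferInstance : Group V) with
    mul_comm := fun a b => Subtype.ext (hVc a a.2 b b.2) }
  obtain ⟨v₀, hv₀, hv₀1⟩ : ∃ v : G, v ∈ V ∧ v ≠ 1 := by
    by_contra hcon
    push Not at hcon
    exact hV ((Subgroup.eq_bot_iff_forall V).2 hcon)
  apply hv₀1
  set N : Subgroup G := Subgroup.normalizer (V : Set G) with hN
  let φ := conjHom V N le_rfl
  have hφ : ∀ (n : N) (v : V), ((φ n v : V) : G) = n * v * (n : G)⁻¹ := fun n v => rfl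
  have hker : ∀ r : N, (r : G) ∈ R → (φ r = 1 ↔ (r : G) ∈ D) := by
    intro r hrR
    rw [conjHom_eq_one_iff]
    constructor
    · intro h
      by_contra hr
      exact hv₀1 (hfree r hrR hr v₀ hv₀ (h v₀ hv₀))
    · intro h v hv
      exact hDV r h v hv
  let a' : N := ⟨a, haV⟩
  have h := eq_one_of_quadratic (V := V) ((R.subgroupOf N).map φ) ?_ (φ a') ?_ ?_ ?_ ?_ ?_ ⟨v₀, hv₀⟩
  · exact congrArg (fun x : V => (x : G)) h
  · rintro _ ⟨r, hr, rfl⟩ _ ⟨s, hs, rfl⟩
    have hr' : (r : G) ∈ R := hr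
    have hs' : (s : G) ∈ R := hs
    have : φ (r * s * r⁻¹ * s⁻¹) = 1 :=
      (hker _ (hDR (hRc r hr' s hs'))).2 (hRc r hr' s hs')
    rw [map_mul, map_mul, map_mul, map_inv, map_inv] at this
    rw [mul_inv_eq_one, mul_inv_eq_iff_eq_mul] at this
    exact this
  · rintro _ ⟨r, hr, rfl⟩
    rw [← map_inv, ← map_mul, ← map_mul]
    exact ⟨a' * r * a'⁻¹, haR r hr, rfl⟩
  · obtain ⟨r, hr, hrD⟩ := hmove
    refine ⟨φ ⟨r, hRV hr⟩, ⟨⟨r, hRV hr⟩, hr, rfl⟩, ?_⟩
    intro heq
    apply hrD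
    have h1 : φ (a' * ⟨r, hRV hr⟩ * a'⁻¹ * ⟨r, hRV hr⟩⁻¹) = 1 := by
      rw [map_mul, map_mul, map_mul, map_inv, map_inv, heq, mul_inv_cancel]
    exact (hker _ (R.mul_mem (haR r hr) (R.inv_mem hr))).1 h1
  · rintro _ ⟨r, hr, rfl⟩ hr1 v hv
    have hr' : (r : G) ∈ R := hr
    have hrD : (r : G) ∉ D := fun h => hr1 ((hker r hr').2 h)
    have h1 := congrArg (fun x : V => (x : G)) hv
    simp only [hφ] at h1
    rw [mul_inv_eq_iff_eq_mul] at h1
    exact Subtype.ext (hfree r hr' hrD v v.2 h1)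
  · intro v hv
    exact Subtype.ext (h2 v v.2 (by simpa [pow_two] using congrArg (fun x : V => (x : G)) hv))
  · intro v
    apply Subtype.ext
    have h1 := hquad v v.2
    have h2 : (((φ a' v) * v⁻¹ : V) : G) = a * v * a⁻¹ * (v : G)⁻¹ := rfl
    rw [hφ, h2]
    show a * _ * a⁻¹ = _
    rw [h1, mul_inv_cancel_right]

end inGroup

end Cfsg.Agent.Characters.CNFreeGroup
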