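import Mathlib

/-!
# A Frobenius group cannot act freely on an abelian group of coprime order

Norm argument: if `X = H ⋊ E` with `E ≠ 1` acting on `H ≠ 1` without fixed points, and `X` acts on
the abelian group `V` such that no nonidentity element of `X` has nontrivial fixed points, then
`v ^ |H| = 1` for all `v ∈ V`.
-/

set_option autoImplicit false

namespace Cfsg.Agent.Characters.FrobeniusNoFree

variable {X V : Type*} [Group X] [CommGroup V] [MulDistribMulAction X V]

/-- The norm over a nontrivial finite subgroup vanishes. -/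
theorem prod_smul_eq_one (S : Subgroup X) [Fintype S] (hS : S ≠ ⊥)
    (hfree : ∀ x : X, x ≠ 1 → ∀ v : V, x • v = v → v = 1) (v : V) :
    ∏ s : S, (s : X) • v = 1 := by
  obtain ⟨s₀, hs₀⟩ := (Subgroup.ne_bot_iff_exists_ne_one).mp hS
  apply hfree (s₀ : X) (fun h => hs₀ (Subtype.ext h))
  rw [Finset.smul_prod']
  have : ∀ s : S, (s₀ : X) • (s : X) • v = ((s₀ * s : S) : X) • v := by
    intro s
    rw [← mul_smul]
    rfl
  simp only [this]
  exact Equiv.prod_comp (Equiv.mulLeft s₀) (fun s : S => (s : X) • v)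

theorem pow_card_eq_one [Finite X] (H E : Subgroup X) [H.Normal] (hH : H ≠ ⊥) (hE : E ≠ ⊥)
    (hHE : ∀ e ∈ E, e ≠ 1 → ∀ h ∈ H, Commute h e → h = 1)
    (hfree : ∀ x : X, x ≠ 1 → ∀ v : V, x • v = v → v = 1) (v : V) :
    v ^ Nat.card H = 1 := by
  classical
  haveI : Fintype X := Fintype.ofFinite X
  -- the double product
  have h1 : ∏ x : H, ∏ e : E, ((x : X) * e * (x : X)⁻¹) • v = 1 := by
    apply Finset.prod_eq_one
    intro x _
    have h2 := prod_smul_eq_one E hE hfree ((x : X)⁻¹ • v)
    have h3 : ∀ e : E, ((x : X) * e * (x : X)⁻¹) • v = (x : X) • ((e : X) • ((x : X)⁻¹ • v)) := by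
      intro e
      rw [mul_smul, mul_smul]
    simp only [h3]
    rw [← Finset.smul_prod', h2, smul_one]
  rw [Finset.prod_comm] at h1
  -- for `e ≠ 1` the inner product is a norm over `H`
  have h4 : ∀ e : E, e ≠ 1 → ∏ x : H, ((x : X) * e * (x : X)⁻¹) • v = 1 := by
    intro e he
    have he1 : (e : X) ≠ 1 := fun h => he (Subtype.ext h)
    let f : H → H := fun x => ⟨(x : X) * e * (x : X)⁻¹ * (e : X)⁻¹, by
      have h5 : (e : X) * (x : X)⁻¹ * (e : X)⁻¹ ∈ H :=
        (inferInstance : H.Normal).conj_mem _ (H.inv_mem x.2) _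
      have h6 := H.mul_mem x.2 h5
      have h7 : (x : X) * e * (x : X)⁻¹ * (e : X)⁻¹ = x * (e * (x : X)⁻¹ * (e : X)⁻¹) := by group
      rw [h7]
      exact h6⟩
    have hf : Function.Injective f := by
      intro x y hxy
      have h5 : (x : X) * e * (x : X)⁻¹ * (e : X)⁻¹ = (y : X) * e * (y : X)⁻¹ * (e : X)⁻¹ :=
        congrArg Subtype.val hxy
      have h6 : (x : X) * e * (x : X)⁻¹ = (y : X) * e * (y : X)⁻¹ := mul_right_cancel h5
      have h7 : Commute ((y : X)⁻¹ * x) (e : X) := by
        change (y : X)⁻¹ * x * e = e * ((y : X)⁻¹ * x)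
        have h8 : (x : X) * e = (y : X) * e * (y : X)⁻¹ * x := by
          rw [← h6]; group
        rw [mul_assoc, h8]
        group
      have h9 := hHE e e.2 he1 _ (H.mul_mem (H.inv_mem y.2) x.2) h7
      apply Subtype.ext
      rw [inv_mul_eq_one] at h9
      exact h9.symm
    have hfb : Function.Bijective f := Finite.injective_iff_bijective.mp hf
    have h5 : ∀ x : H, ((x : X) * e * (x : X)⁻¹) • v = ((f x : H) : X) • ((e : X) • v) := by
      intro x
      rw [← mul_smul]
      congr 1
      simp [f]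
    simp only [h5]
    rw [Function.Bijective.prod_comp hfb (fun x : H => (x : X) • ((e : X) • v))]
    exact prod_smul_eq_one H hH hfree _
  rw [Fintype.prod_eq_single (1 : E) (fun e he => h4 e he)] at h1
  simpa using h1

end Cfsg.Agent.Characters.FrobeniusNoFree
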