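import Cfsg.Agent.OddOrderLocal.CNMaxNilpotent
import Cfsg.Agent.OddOrderLocal.CNBasic
import Cfsg.Agent.OddOrderLocal.MinSimpleBasic
import Cfsg.Agent.Lib.SolvableMinNormal
import Cfsg.Agent.Lib.NormalHall
import Cfsg.Agent.Characters.FrobeniusNoFree

/-!
# Minimal simple CN-groups of odd order with TI Sylow subgroups

From the hypothesis that all Sylow subgroups of a minimal simple CN-group of odd order are
TI-subgroups we derive the structure of the maximal nilpotent subgroups and of the maximal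
subgroups.
-/

set_option autoImplicit false
set_option linter.style.haveILetI false
set_option linter.unusedSectionVars false

namespace Cfsg.Agent.Characters.CNFromTI

open scoped commutatorElement

open Subgroup Cfsg Cfsg.Agent.OddOrderLocal Cfsg.Agent.OddOrderLocal.CNNil
open Cfsg.Agent.OddOrderLocal.CNMaxNilpotent (mem_map_conj)

variable {G : Type*} [Group G] [Finite G]

/-- Maximal nilpotent subgroups. -/
def MaxNil (H : Subgroup G) : Prop :=
  Group.IsNilpotent H ∧ ∀ L : Subgroup G, Group.IsNilpotent L → H ≤ L → L = H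

/-- All Sylow subgroups are TI. -/
def SylowTI (G : Type*) [Group G] : Prop :=
  ∀ (p : ℕ) [Fact p.Prime] (P Q : Sylow p G), P ≠ Q → (P : Subgroup G) ⊓ Q = ⊥

theorem exists_maxNil (L : Subgroup G) (hL : Group.IsNilpotent L) :
    ∃ H : Subgroup G, MaxNil H ∧ L ≤ H := by
  obtain ⟨H, hLH, hH⟩ := (Set.toFinite {K : Subgroup G | Group.IsNilpotent K}).exists_le_maximal
    (a := L) hL
  refine ⟨H, ⟨hH.1, fun K hK hHK => le_antisymm (hH.2 hK hHK) hHK⟩, hLH⟩

/-- A Sylow subgroup meeting its conjugate nontrivially is normalised. -/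
theorem mem_normalizer_of_sylow (hTI : SylowTI G) {p : ℕ} [Fact p.Prime] (P : Sylow p G) {g x : G}
    (hx1 : x ≠ 1) (hx : x ∈ (P : Subgroup G)) (hgx : g * x * g⁻¹ ∈ (P : Subgroup G)) :
    g ∈ normalizer ((P : Subgroup G) : Set G) := by
  have h1 : g • P = P := by
    by_contra hne
    have h2 := hTI p (g • P) P hne
    have h3 : g * x * g⁻¹ ∈ ((g • P : Sylow p G) : Subgroup G) ⊓ P := by
      refine Subgroup.mem_inf.mpr ⟨?_, hgx⟩
      rw [Sylow.coe_subgroup_smul, Subgroup.mem_pointwise_smul_iff_inv_smul_mem]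
      simpa [mul_assoc] using hx
    rw [h2, Subgroup.mem_bot] at h3
    apply hx1
    simpa using h3
  exact Sylow.smul_eq_iff_mem_normalizer.mp h1

theorem mem_normalizer_iff_map {H : Subgroup G} {g : G} :
    g ∈ normalizer (H : Set G) ↔ H.map (MulAut.conj g).toMonoidHom = H := by
  constructor
  · intro hg
    ext x
    rw [mem_map_conj]
    have h1 := (Subgroup.mem_set_normalizer_iff (S := (H : Set G)).mp
      (inv_mem hg)) x
    rw [inv_inv] at h1
    exact h1.symm
  · intro h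
    rw [← inv_mem_iff, Subgroup.mem_set_normalizer_iff]
    intro x
    have h1 : x ∈ H ↔ x ∈ H.map (MulAut.conj g).toMonoidHom := by rw [h]
    rw [mem_map_conj] at h1
    rw [inv_inv]
    exact h1

section

variable (hCN : IsCNGroup G) (hTI : SylowTI G)
include hCN hTI

/-- Maximal nilpotent subgroups are TI. -/
theorem inf_conj_eq_bot {H : Subgroup G} (hH : MaxNil H) (g : G)
    (hg : H.map (MulAut.conj g).toMonoidHom ≠ H) :
    H ⊓ H.map (MulAut.conj g).toMonoidHom = ⊥ := by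
  by_cases hpp : IsPrimePow (Nat.card H)
  · rw [isPrimePow_nat_iff] at hpp
    obtain ⟨p, k, hp, -, hk⟩ := hpp
    haveI := Fact.mk hp
    obtain ⟨P, hP⟩ := CNMaxNilpotent.eq_sylow_of_isPGroup hH.2 (IsPGroup.of_card hk.symm)
    rw [eq_bot_iff]
    intro x hxx
    obtain ⟨hx, hxg⟩ := Subgroup.mem_inf.mp hxx
    rw [Subgroup.mem_bot]
    by_contra hx1
    apply hg
    rw [← mem_normalizer_iff_map]
    rw [mem_map_conj] at hxg
    have h2 := mem_normalizer_of_sylow hTI P (g := g⁻¹) (x := x) hx1 (by rw [hP]; exact hx)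
      (by rw [hP, inv_inv]; exact hxg)
    rw [hP] at h2
    exact inv_mem_iff.mp h2
  · by_cases h1 : Nat.card H = 1
    · have : H = ⊥ := Subgroup.eq_bot_of_card_eq H h1
      rw [this]
      simp
    · exact CNMaxNilpotent.inf_conj_eq_bot hCN hH.1 hH.2 hpp h1 g hg

theorem centralizer_le {H : Subgroup G} (hH : MaxNil H) {x : G} (hx : x ∈ H) (hx1 : x ≠ 1) :
    centralizer ({x} : Set G) ≤ H :=
  CNMaxNilpotent.centralizer_le hCN hH.1 hH.2 (fun g hg => inf_conj_eq_bot hCN hTI hH g hg) x hx hx1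

theorem mem_of_commute {H : Subgroup G} (hH : MaxNil H) {x y : G} (hx : x ∈ H) (hx1 : x ≠ 1)
    (h : Commute y x) : y ∈ H :=
  centralizer_le hCN hTI hH hx hx1 (mem_centralizer_singleton_iff.mpr h.eq)

theorem le_of_mem {H K : Subgroup G} (hH : MaxNil H) (hK : MaxNil K) {x : G}
    (hxH : x ∈ H) (hxK : x ∈ K) (hx1 : x ≠ 1) : H ≤ K := by
  have hcard : Nat.card H ≠ 1 := by
    intro h
    have : H = ⊥ := Subgroup.eq_bot_of_card_eq H h
    rw [this, Subgroup.mem_bot] at hxH
    exact hx1 hxH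
  obtain ⟨p, hp, hpd⟩ := Nat.exists_prime_and_dvd hcard
  obtain ⟨z, hzH, hzo, hzc⟩ := exists_central_orderOf_subgroup hH.1 hp hpd
  have hz1 : z ≠ 1 := by
    rintro rfl
    rw [orderOf_one] at hzo
    exact hp.one_lt.ne hzo
  have hzK : z ∈ K := mem_of_commute hCN hTI hK hxK hx1 (hzc x hxH).symm
  intro h hh
  exact mem_of_commute hCN hTI hK hzK hz1 (hzc h hh)

theorem eq_of_mem {H K : Subgroup G} (hH : MaxNil H) (hK : MaxNil K) {x : G}
    (hxH : x ∈ H) (hxK : x ∈ K) (hx1 : x ≠ 1) : H = K :=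
  le_antisymm (le_of_mem hCN hTI hH hK hxH hxK hx1) (le_of_mem hCN hTI hK hH hxK hxH hx1)

theorem maxNil_map {H : Subgroup G} (hH : MaxNil H) (g : G) :
    MaxNil (H.map (MulAut.conj g).toMonoidHom) := by
  refine ⟨isNilpotent_map_conj hH.1 g, fun L hL hle => ?_⟩
  have h1 := isNilpotent_map_conj hL g⁻¹
  have h2 : H ≤ L.map (MulAut.conj g⁻¹).toMonoidHom := by
    intro x hx
    rw [mem_map_conj]
    apply hle
    rw [mem_map_conj]
    simpa [mul_assoc] using hx
  have h3 := hH.2 _ h1 h2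
  apply le_antisymm _ hle
  intro x hx
  rw [mem_map_conj, ← h3, mem_map_conj]
  simpa [mul_assoc] using hx

/-- An element moving a nonidentity element of `H` into `H` normalises `H`. -/
theorem mem_normalizer {H : Subgroup G} (hH : MaxNil H) {g x : G} (hx1 : x ≠ 1) (hx : x ∈ H)
    (hgx : g * x * g⁻¹ ∈ H) : g ∈ normalizer (H : Set G) := by
  rw [mem_normalizer_iff_map]
  apply eq_of_mem hCN hTI (maxNil_map hCN hTI hH g) hH (x := g * x * g⁻¹) _ hgx
  · intro h
    apply hx1
    simpa using h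
  · rw [mem_map_conj]
    simpa [mul_assoc] using hx

end

/-- Existence of a complement acting freely. -/
theorem exists_compl (hCN : IsCNGroup G) (hTI : SylowTI G) {H : Subgroup G} (hH : MaxNil H) :
    ∃ E : Subgroup G, IsComplIn H E (normalizer (H : Set G)) ∧
      ∀ e ∈ E, e ≠ 1 → H ⊓ centralizer ({e} : Set G) = ⊥ := by
  let N : Subgroup G := normalizer (H : Set G)
  have hHN : H ≤ N := Subgroup.le_normalizer
  haveI hn : (H.subgroupOf N).Normal := Subgroup.normal_in_normalizer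
  have hcop : (Nat.card (H.subgroupOf N)).Coprime (H.subgroupOf N).index := by
    have h1 := CNMaxNilpotent.coprime_index hCN hH.1 hH.2
    rw [Nat.card_congr (Subgroup.subgroupOfEquivOfLe hHN).toEquiv]
    apply Nat.Coprime.coprime_dvd_right _ h1
    exact Subgroup.relIndex_dvd_index_of_le hHN
  obtain ⟨E', hE'⟩ := Subgroup.exists_right_complement'_of_coprime hcop
  refine ⟨E'.map N.subtype, ⟨hHN, ?_, ?_, ?_⟩, ?_⟩
  · rintro x ⟨y, -, rfl⟩
    exact y.2
  · rw [eq_bot_iff]
    rintro x ⟨hxH, ⟨y, hyE, rfl⟩⟩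
    have h1 : y ∈ H.subgroupOf N ⊓ E' := ⟨hxH, hyE⟩
    rw [hE'.disjoint.eq_bot, Subgroup.mem_bot] at h1
    rw [h1]
    exact Subgroup.mem_bot.mpr rfl
  · intro m hm
    obtain ⟨⟨a, b⟩, hab⟩ := hE'.2 ⟨m, hm⟩
    refine ⟨(a : N), a.2, (b : N), ⟨b, b.2, rfl⟩, ?_⟩
    exact (congrArg Subtype.val hab).symm
  · rintro e ⟨y, hyE, rfl⟩ he1
    rw [eq_bot_iff]
    intro x hxx
    obtain ⟨hxH, hxc⟩ := Subgroup.mem_inf.mp hxx
    rw [Subgroup.mem_bot]
    by_contra hx1
    rw [mem_centralizer_singleton_iff] at hxc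
    have h2 : (y : G) ∈ H := mem_of_commute hCN hTI hH hxH hx1 hxc.symm
    have h3 : y ∈ H.subgroupOf N ⊓ E' := ⟨h2, hyE⟩
    rw [hE'.disjoint.eq_bot, Subgroup.mem_bot] at h3
    apply he1
    rw [h3]
    rfl

section

variable (hG : IsMinSimpleOddOrder G) (hCN : IsCNGroup G) (hTI : SylowTI G)
include hG hCN hTI

theorem maxNil_ne_bot {H : Subgroup G} (hH : MaxNil H) : H ≠ ⊥ := by
  rintro rfl
  haveI := MinSimpleBasic.nontrivial' hG
  obtain ⟨x, hx⟩ := exists_ne (1 : G)
  have hnil : Group.IsNilpotent (Subgroup.zpowers x) := by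
    letI : CommGroup (Subgroup.zpowers x) :=
      { (inferInstance : Group (Subgroup.zpowers x)) with
        mul_comm := (inferInstance : IsMulCommutative (Subgroup.zpowers x)).1.1 }
    exact CommGroup.isNilpotent
  have h1 := hH.2 (Subgroup.zpowers x) hnil bot_le
  rw [Subgroup.zpowers_eq_bot] at h1
  exact hx h1

theorem maxNil_ne_top {H : Subgroup G} (hH : MaxNil H) : H ≠ ⊤ :=
  MinSimpleBasic.ne_top_of_isNilpotent hG hH.1

/-- Every maximal subgroup is the normaliser of a maximal nilpotent subgroup. -/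
theorem exists_maxNil_of_coatom {M : Subgroup G} (hM : IsCoatom M) :
    ∃ K : Subgroup G, MaxNil K ∧ normalizer (K : Set G) = M := by
  haveI : Nontrivial M := (Subgroup.nontrivial_iff_ne_bot M).mpr (MinSimpleBasic.coatom_ne_bot hG hM)
  haveI := MinSimpleBasic.isSolvable_of_isCoatom hG hM
  obtain ⟨p, hp, N, hNc, -, hNp, hN1⟩ :=
    Cfsg.Agent.Lib.SolvableMinNormal.exists_characteristic_pgroup (G := M)
  haveI := Fact.mk hp
  obtain ⟨P, hP⟩ := (hNp.map M.subtype).exists_le_sylow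
  obtain ⟨K, hK, hPK⟩ := exists_maxNil (P : Subgroup G) P.isPGroup'.isNilpotent
  refine ⟨K, hK, ?_⟩
  apply MinSimpleBasic.normalizer_eq_of_coatom hG hM (maxNil_ne_bot hG hCN hTI hK)
    (maxNil_ne_top hG hCN hTI hK)
  obtain ⟨x, hx1⟩ := (Subgroup.ne_bot_iff_exists_ne_one).mp hN1
  have hxG1 : ((x : M) : G) ≠ 1 := fun h => hx1 (Subtype.ext (Subtype.ext h))
  intro m hm
  apply mem_normalizer hCN hTI hK hxG1
  · exact hPK (hP ⟨(x : M), x.2, rfl⟩)
  · have h1 : (⟨m, hm⟩ : M) * x * (⟨m, hm⟩ : M)⁻¹ ∈ N :=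
      (inferInstance : N.Normal).conj_mem _ x.2 _
    exact hPK (hP ⟨_, h1, rfl⟩)

/-- A maximal nilpotent subgroup is properly contained in its normaliser. -/
theorem normalizer_ne_self {H : Subgroup G} (hH : MaxNil H) : normalizer (H : Set G) ≠ H := by
  intro hNH
  have hcard : Nat.card H ≠ 1 := fun h =>
    maxNil_ne_bot hG hCN hTI hH (Subgroup.eq_bot_of_card_eq H h)
  obtain ⟨p, hp, hpd⟩ := Nat.exists_prime_and_dvd hcard
  haveI := Fact.mk hp
  -- a Sylow `p`-subgroup of `G` inside `H`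
  obtain ⟨z, hzH, hzo, hzc⟩ := exists_central_orderOf_subgroup hH.1 hp hpd
  have hz1 : z ≠ 1 := by
    rintro rfl
    rw [orderOf_one] at hzo
    exact hp.one_lt.ne hzo
  obtain ⟨P, hP⟩ := (isPGroup_zpowers (p := p) (k := 1) (x := z) (by rw [hzo, pow_one])).exists_le_sylow
  have hzP : z ∈ (P : Subgroup G) := hP (Subgroup.mem_zpowers z)
  have hPH : (P : Subgroup G) ≤ H := by
    obtain ⟨K, hK, hPK⟩ := exists_maxNil (P : Subgroup G) P.isPGroup'.isNilpotent
    have h1 := eq_of_mem hCN hTI hH hK hzH (hPK hzP) hz1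
    rw [h1]
    exact hPK
  -- the focal subgroup is inside the commutator subgroup of `P`
  have hfoc : (P : Subgroup G).focalSubgroup ≤ ⁅(P : Subgroup G), (P : Subgroup G)⁆ := by
    rw [Subgroup.focalSubgroup_def, Subgroup.closure_le]
    rintro g ⟨hgP, x, hxP, u, rfl⟩
    by_cases hx1 : x = 1
    · rw [hx1, commutatorElement_one_left]
      exact Subgroup.one_mem _
    have hux : u * x⁻¹ * u⁻¹ ∈ (P : Subgroup G) := by
      have h1 : u * x⁻¹ * u⁻¹ = x⁻¹ * ⁅x, u⁆ := by
        rw [commutatorElement_def]; group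
      rw [h1]
      exact mul_mem (inv_mem hxP) hgP
    have huH : u ∈ H := by
      rw [← hNH]
      exact mem_normalizer hCN hTI hH (inv_ne_one.mpr hx1) (hPH (inv_mem hxP)) (hPH hux)
    have huNP : u ∈ normalizer ((P : Subgroup G) : Set G) :=
      mem_normalizer_of_sylow hTI P (inv_ne_one.mpr hx1) (inv_mem hxP) hux
    obtain ⟨a, b, ha, hb, hab, ⟨k, hak⟩, hbp⟩ := CNBasic.exists_mul_parts hp u
    have haP : a ∈ (P : Subgroup G) := by
      have hap : IsPGroup p (Subgroup.zpowers a) := by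
        obtain ⟨j, -, hj⟩ := (Nat.dvd_prime_pow hp).mp (orderOf_dvd_of_pow_eq_one hak)
        exact isPGroup_zpowers hj
      have h1 := hap.inf_normalizer_sylow P
      have h2 : a ∈ Subgroup.zpowers a ⊓ normalizer ((P : Subgroup G) : Set G) :=
        ⟨Subgroup.mem_zpowers a, (Subgroup.zpowers_le.mpr huNP) ha⟩
      have h3 : a ∈ Subgroup.zpowers a ⊓ (P : Subgroup G) := by
        rw [← h1]
        exact h2
      exact h3.2
    have hbx : Commute b x := by
      apply CNBasic.commute_of_mem_of_coprime hH.1 ((Subgroup.zpowers_le.mpr huH) hb) (hPH hxP)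
      obtain ⟨j, hj⟩ := (IsPGroup.iff_orderOf.mp P.isPGroup') ⟨x, hxP⟩
      rw [Subgroup.orderOf_mk] at hj
      rw [hj]
      exact Nat.Coprime.pow_right j hbp
    have h5 : ⁅x, u⁆ = ⁅x, a⁆ := by
      rw [commutatorElement_def, commutatorElement_def, ← hab]
      have h6 : b * x⁻¹ * b⁻¹ = x⁻¹ := by
        rw [(hbx.inv_right).eq]; group
      calc x * (a * b) * x⁻¹ * (a * b)⁻¹ = x * a * (b * x⁻¹ * b⁻¹) * a⁻¹ := by group
        _ = _ := by rw [h6]
    rw [h5]
    exact Subgroup.commutator_mem_commutator hxP haP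
  have h1 := Subgroup.commutator_inf_eq_focalSubgroup P
  rw [MinSimpleBasic.commutator_eq_top hG, top_inf_eq] at h1
  rw [← h1] at hfoc
  -- contradiction with solvability of `P`
  have hPne : (P : Subgroup G) ≠ ⊥ := by
    intro h
    rw [h, Subgroup.mem_bot] at hzP
    exact hz1 hzP
  haveI : Nontrivial P := (Subgroup.nontrivial_iff_ne_bot _).mpr hPne
  haveI : Group.IsNilpotent P := P.isPGroup'.isNilpotent
  haveI : Group.IsSolvable P := inferInstance
  have h2 := Group.IsSolvable.commutator_lt_top_of_nontrivial P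
  apply h2.ne
  rw [eq_top_iff]
  intro x _
  have h3 : (x : G) ∈ ⁅(P : Subgroup G), (P : Subgroup G)⁆ := hfoc x.2
  rw [← Subgroup.map_subtype_commutator] at h3
  obtain ⟨y, hy, hyx⟩ := h3
  have : y = x := Subtype.ext hyx
  rw [← this]
  exact hy

/-- The normaliser of a maximal nilpotent subgroup is a maximal subgroup. -/
theorem isCoatom_normalizer {H : Subgroup G} (hH : MaxNil H) :
    IsCoatom (normalizer (H : Set G)) := by
  obtain ⟨M, hM, hle⟩ := MinSimpleBasic.exists_coatom_normalizer_le hG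
    (maxNil_ne_bot hG hCN hTI hH) (maxNil_ne_top hG hCN hTI hH)
  obtain ⟨K, hK, hKM⟩ := exists_maxNil_of_coatom hG hCN hTI hM
  by_cases hHK : H = K
  · rw [hHK, hKM]
    exact hM
  exfalso
  have hinf : ∀ x, x ∈ H → x ∈ K → x = 1 := by
    intro x hxH hxK
    by_contra hx1
    exact hHK (eq_of_mem hCN hTI hH hK hxH hxK hx1)
  have hHM : H ≤ M := le_trans Subgroup.le_normalizer hle
  -- `N(H) ∩ K = 1`
  obtain ⟨h₀, hh₀⟩ := (Subgroup.ne_bot_iff_exists_ne_one).mp (maxNil_ne_bot hG hCN hTI hH)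
  have hh₀1 : (h₀ : G) ≠ 1 := fun h => hh₀ (Subtype.ext h)
  have hNK : ∀ n, n ∈ normalizer (H : Set G) → n ∈ K → n = 1 := by
    intro n hn hnK
    have h1 : n * h₀ * n⁻¹ ∈ H := (Subgroup.mem_set_normalizer_iff.mp hn h₀).mp h₀.2
    have h2 : (h₀ : G) * n⁻¹ * (h₀ : G)⁻¹ ∈ K := by
      have h3 : (h₀ : G) ∈ normalizer (K : Set G) := by
        rw [hKM]
        exact hHM h₀.2
      exact (Subgroup.mem_set_normalizer_iff.mp h3 n⁻¹).mp (inv_mem hnK)
    have h4 : n * h₀ * n⁻¹ * (h₀ : G)⁻¹ = 1 := by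
      apply hinf
      · exact mul_mem h1 (inv_mem h₀.2)
      · have h5 : n * h₀ * n⁻¹ * (h₀ : G)⁻¹ = n * ((h₀ : G) * n⁻¹ * (h₀ : G)⁻¹) := by group
        rw [h5]
        exact mul_mem hnK h2
    have h5 : Commute n h₀ := by
      change n * h₀ = h₀ * n
      rw [mul_inv_eq_one] at h4
      rw [mul_inv_eq_iff_eq_mul] at h4
      exact h4
    exact hinf n (mem_of_commute hCN hTI hH h₀.2 hh₀1 h5) hnK
  -- the centre of `K`
  let V : Subgroup G := (center K).map K.subtype
  have hVK : V ≤ K := by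
    rintro x ⟨y, -, rfl⟩
    exact y.2
  have hVc : ∀ v ∈ V, ∀ k ∈ K, v * k = k * v := by
    rintro v ⟨y, hy, rfl⟩ k hk
    exact (congrArg Subtype.val (mem_center_iff.mp hy ⟨k, hk⟩)).symm
  have hVmem : ∀ v ∈ K, (∀ k ∈ K, v * k = k * v) → v ∈ V := by
    intro v hv h
    refine ⟨⟨v, hv⟩, ?_, rfl⟩
    rw [SetLike.mem_coe, mem_center_iff]
    intro k
    exact Subtype.ext (h k k.2).symm
  have hVn : M ≤ normalizer (V : Set G) := by
    have key : ∀ m ∈ M, ∀ v ∈ V, m * v * m⁻¹ ∈ V := by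
      intro m hm v hv
      have hmK : m ∈ normalizer (K : Set G) := by rw [hKM]; exact hm
      apply hVmem
      · exact (Subgroup.mem_set_normalizer_iff.mp hmK v).mp (hVK hv)
      · intro k hk
        have h1 : m⁻¹ * k * m ∈ K := by
          have := (Subgroup.mem_set_normalizer_iff.mp (inv_mem hmK) k).mp hk
          simpa using this
        have h2 := hVc v hv _ h1
        calc m * v * m⁻¹ * k = m * (v * (m⁻¹ * k * m)) * m⁻¹ := by group
          _ = m * (m⁻¹ * k * m * v) * m⁻¹ := by rw [h2]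
          _ = k * (m * v * m⁻¹) := by group
    intro m hm
    rw [Subgroup.mem_set_normalizer_iff]
    intro v
    constructor
    · exact key m hm v
    · intro h
      have := key m⁻¹ (inv_mem hm) _ h
      simpa [mul_assoc] using this
  haveI hVcomm : IsMulCommutative V := ⟨⟨fun a b => Subtype.ext (hVc a a.2 b (hVK b.2))⟩⟩
  letI : CommGroup V := { (inferInstance : Group V) with mul_comm := hVcomm.1.1 }
  let X : Subgroup G := normalizer (H : Set G)
  have hXV : X ≤ normalizer (V : Set G) := hle.trans hVn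
  letI : MulDistribMulAction X V :=
    { smul := fun x v => ⟨(x : G) * v * (x : G)⁻¹,
        (Subgroup.mem_set_normalizer_iff.mp (hXV x.2) v).mp v.2⟩
      one_smul := fun v => Subtype.ext (by
        change ((1 : X) : G) * v * ((1 : X) : G)⁻¹ = v
        simp)
      mul_smul := fun x y v => Subtype.ext (by
        change ((x * y : X) : G) * v * ((x * y : X) : G)⁻¹ =
          (x : G) * ((y : G) * v * (y : G)⁻¹) * (x : G)⁻¹
        rw [Subgroup.coe_mul]
        group)
      smul_mul := fun x a b => Subtype.ext (by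
        change (x : G) * ((a * b : V) : G) * (x : G)⁻¹ =
          ((x : G) * a * (x : G)⁻¹) * ((x : G) * b * (x : G)⁻¹)
        rw [Subgroup.coe_mul]
        group)
      smul_one := fun x => Subtype.ext (by
        change (x : G) * ((1 : V) : G) * (x : G)⁻¹ = 1
        simp) }
  have hsmul : ∀ (x : X) (v : V), ((x • v : V) : G) = (x : G) * v * (x : G)⁻¹ := fun _ _ => rfl
  obtain ⟨E, ⟨-, hEX, hHE, hdec⟩, hEfree⟩ := exists_compl hCN hTI hH
  have hE1 : E ≠ ⊥ := by
    intro hE
    apply normalizer_ne_self hG hCN hTI hH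
    apply le_antisymm _ Subgroup.le_normalizer
    intro m hm
    obtain ⟨a, ha, b, hb, rfl⟩ := hdec m hm
    rw [hE, Subgroup.mem_bot] at hb
    rw [hb, mul_one]
    exact ha
  haveI : (H.subgroupOf X).Normal := Subgroup.normal_in_normalizer
  have hfree : ∀ x : X, x ≠ 1 → ∀ v : V, x • v = v → v = 1 := by
    intro x hx1 v hxv
    by_contra hv1
    have h1 : (x : G) * v * (x : G)⁻¹ = v := by
      rw [← hsmul, hxv]
    have h2 : Commute (x : G) (v : G) := by
      change (x : G) * v = v * x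
      exact mul_inv_eq_iff_eq_mul.mp h1
    have h3 : (x : G) ∈ K := mem_of_commute hCN hTI hK (hVK v.2) (fun h => hv1 (Subtype.ext h)) h2
    exact hx1 (Subtype.ext (hNK x x.2 h3))
  have hpow := FrobeniusNoFree.pow_card_eq_one (X := X) (V := V) (H.subgroupOf X) (E.subgroupOf X)
    (by
      intro h
      apply hh₀1
      have h1 : (⟨h₀, Subgroup.le_normalizer h₀.2⟩ : X) ∈ H.subgroupOf X := h₀.2
      rw [h, Subgroup.mem_bot] at h1
      exact congrArg Subtype.val h1)
    (by
      intro h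
      obtain ⟨e, he⟩ := (Subgroup.ne_bot_iff_exists_ne_one).mp hE1
      apply he
      have h1 : (⟨e, hEX e.2⟩ : X) ∈ E.subgroupOf X := e.2
      rw [h, Subgroup.mem_bot] at h1
      have h2 : (e : G) = 1 := congrArg Subtype.val h1
      exact Subtype.ext h2)
    (by
      intro e he he1 h hh hc
      have h1 : (h : G) ∈ H ⊓ centralizer ({(e : G)} : Set G) := by
        refine Subgroup.mem_inf.mpr ⟨hh, ?_⟩
        rw [mem_centralizer_singleton_iff]
        exact congrArg Subtype.val hc.eq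
      rw [hEfree e he (fun h => he1 (Subtype.ext h)), Subgroup.mem_bot] at h1
      exact Subtype.ext h1)
    hfree
  -- `|H|` and `|K|` are coprime
  have hcardHX : Nat.card (H.subgroupOf X) = Nat.card H :=
    Nat.card_congr (Subgroup.subgroupOfEquivOfLe Subgroup.le_normalizer).toEquiv
  have hcop : (Nat.card H).Coprime (Nat.card K) := by
    by_contra hnc
    obtain ⟨p, hp, hpH, hpK⟩ := Nat.Prime.not_coprime_iff_dvd.mp hnc
    haveI := Fact.mk hp
    obtain ⟨x, hx⟩ := exists_prime_orderOf_dvd_card' (G := H) p hpH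
    have hKM' : K ≤ M := by rw [← hKM]; exact Subgroup.le_normalizer
    haveI : (K.subgroupOf M).Normal := by
      rw [← hKM]
      exact Subgroup.normal_in_normalizer
    have h1 : (⟨(x : G), hHM x.2⟩ : M) ∈ K.subgroupOf M := by
      apply Cfsg.Agent.Lib.NormalHall.mem_of_orderOf_coprime_index
      rw [Subgroup.orderOf_mk, Subgroup.orderOf_coe, hx]
      have h2 := CNMaxNilpotent.coprime_index hCN hK.1 hK.2
      have h3 : (Nat.card K).Coprime (K.subgroupOf M).index :=
        h2.coprime_dvd_right (Subgroup.relIndex_dvd_index_of_le hKM')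
      exact h3.coprime_dvd_left hpK
    have h2 : (x : G) = 1 := hinf _ x.2 h1
    rw [OneMemClass.coe_eq_one] at h2
    rw [h2, orderOf_one] at hx
    exact hp.one_lt.ne hx
  -- contradiction
  have hKcard : Nat.card K ≠ 1 := fun h =>
    maxNil_ne_bot hG hCN hTI hK (Subgroup.eq_bot_of_card_eq K h)
  obtain ⟨p, hp, hpd⟩ := Nat.exists_prime_and_dvd hKcard
  obtain ⟨z, hzK, hzo, hzc⟩ := exists_central_orderOf_subgroup hK.1 hp hpd
  have hzV : z ∈ V := hVmem z hzK (fun k hk => (hzc k hk).symm.eq)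
  have h1 := hpow ⟨z, hzV⟩
  rw [hcardHX] at h1
  have h2 : z ^ Nat.card H = 1 := congrArg Subtype.val h1
  have h3 : p ∣ Nat.card H := by
    rw [← hzo]
    exact orderOf_dvd_of_pow_eq_one h2
  exact hp.one_lt.ne' (Nat.dvd_one.mp (hcop ▸ Nat.dvd_gcd h3 hpd))

/-- The conclusion of S1479 from TI Sylow subgroups. -/
theorem structure_of_TI :
    (∀ H : Subgroup G, Group.IsNilpotent H → (∀ L : Subgroup G, Group.IsNilpotent L → H ≤ L → L = H) →
        (Nat.card H).Coprime H.index ∧ (∀ g : G, H.map (MulAut.conj g).toMonoidHom ≠ H → H ⊓ H.map (MulAut.conj g).toMonoidHom = ⊥) ∧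
        IsCoatom (Subgroup.normalizer (H : Set G)) ∧
        ∃ E : Subgroup G, Cfsg.IsComplIn H E (Subgroup.normalizer (H : Set G)) ∧ E ≠ ⊥ ∧
          ∀ e ∈ E, e ≠ 1 → H ⊓ Subgroup.centralizer ({e} : Set G) = ⊥) ∧
      ∀ M : Subgroup G, IsCoatom M → ∃ H E : Subgroup G, Group.IsNilpotent H ∧ (∀ L : Subgroup G, Group.IsNilpotent L → H ≤ L → L = H) ∧
        M ≤ Subgroup.normalizer (H : Set G) ∧ Cfsg.IsComplIn H E M ∧ H ≠ ⊥ ∧ E ≠ ⊥ ∧
        ∀ e ∈ E, e ≠ 1 → H ⊓ Subgroup.centralizer ({e} : Set G) = ⊥ := by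
  have key : ∀ H : Subgroup G, MaxNil H → ∃ E : Subgroup G,
      Cfsg.IsComplIn H E (Subgroup.normalizer (H : Set G)) ∧ E ≠ ⊥ ∧
          ∀ e ∈ E, e ≠ 1 → H ⊓ Subgroup.centralizer ({e} : Set G) = ⊥ := by
    intro H hH
    obtain ⟨E, hE, hEfree⟩ := exists_compl hCN hTI hH
    refine ⟨E, hE, ?_, hEfree⟩
    intro hE1
    apply normalizer_ne_self hG hCN hTI hH
    apply le_antisymm _ Subgroup.le_normalizer
    intro m hm
    obtain ⟨a, ha, b, hb, rfl⟩ := hE.2.2.2 m hm
    rw [hE1, Subgroup.mem_bot] at hb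
    rw [hb, mul_one]
    exact ha
  refine ⟨fun H hH hmax => ⟨CNMaxNilpotent.coprime_index hCN hH hmax,
    fun g hg => inf_conj_eq_bot hCN hTI ⟨hH, hmax⟩ g hg,
    isCoatom_normalizer hG hCN hTI ⟨hH, hmax⟩, key H ⟨hH, hmax⟩⟩, fun M hM => ?_⟩
  obtain ⟨K, hK, hKM⟩ := exists_maxNil_of_coatom hG hCN hTI hM
  obtain ⟨E, hE, hE1, hEfree⟩ := key K hK
  refine ⟨K, E, hK.1, hK.2, hKM.ge, ?_, maxNil_ne_bot hG hCN hTI hK, hE1, hEfree⟩
  rw [← hKM]
  exact hE

end

end Cfsg.Agent.Characters.CNFromTI
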