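import Mathlib
import Cfsg.Agent.Characters.CNFocal

/-!
# From `p`-local information to TI Sylow subgroups

`J` is a conjugation-equivariant assignment of subgroups with `1 ≠ J T ≤ T` for nontrivial
`p`-subgroups `T`.  If `N(X) ≤ N(J T)` for every nontrivial `p`-subgroup `X` and every Sylow
subgroup `T` of `N(X)`, then `N(J P)` controls fusion in the Sylow subgroup `P`.
-/

set_option autoImplicit false

namespace Cfsg.Agent.Characters.CNGlobal

open Subgroup
open scoped Pointwise

variable {G : Type*} [Group G]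

theorem mem_normalizer_iff_smul (H : Subgroup G) (g : G) :
    g ∈ normalizer (H : Set G) ↔ MulAut.conj g • H = H :=
  mem_normalizer_iff_map_conj_eq

theorem normalizer_smul (H : Subgroup G) (g : G) :
    normalizer ((MulAut.conj g • H : Subgroup G) : Set G)
      = MulAut.conj g • normalizer (H : Set G) := by
  ext x
  rw [Subgroup.mem_pointwise_smul_iff_inv_smul_mem, mem_normalizer_iff_smul, ← map_inv,
    MulAut.smul_def, MulAut.conj_apply, inv_inv, mem_normalizer_iff_smul, map_mul, map_mul,
    mul_smul, mul_smul, map_inv, inv_smul_eq_iff]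

theorem le_normalizer_self (H : Subgroup G) : H ≤ normalizer (H : Set G) := le_normalizer

theorem exists_mem_normalizer_of_lt [Finite G] {p : ℕ} [Fact p.Prime] (T P : Subgroup G)
    (hP : IsPGroup p P) (hTP : T < P) : ∃ x ∈ P, x ∉ T ∧ x ∈ normalizer (T : Set G) := by
  have hnil : Group.IsNilpotent P := hP.isNilpotent
  have hnc : NormalizerCondition P := Group.normalizerCondition_of_isNilpotent
  have hlt : T.subgroupOf P < ⊤ := by
    rw [lt_top_iff_ne_top, Ne, subgroupOf_eq_top]
    exact not_le_of_gt hTP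
  have h := hnc _ hlt
  obtain ⟨x, hx, hxT⟩ := SetLike.exists_of_lt h
  refine ⟨x, x.2, fun h => hxT h, ?_⟩
  rw [mem_normalizer_iff] at hx ⊢
  intro y
  constructor
  · intro hy
    exact (hx ⟨y, hTP.le hy⟩).1 hy
  · intro hy
    have hyP : y ∈ P := by
      have h1 : (x : G)⁻¹ * ((x : G) * y * (x : G)⁻¹) * x ∈ P :=
        mul_mem (mul_mem (inv_mem x.2) (hTP.le hy)) x.2
      have h2 : (x : G)⁻¹ * ((x : G) * y * (x : G)⁻¹) * x = y := by group
      rwa [h2] at h1
    exact (hx ⟨y, hyP⟩).2 hy

/-- A `p`-subgroup of `M` lies in an `M`-conjugate of a Sylow subgroup contained in `M`. -/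
theorem exists_conj_ge [Finite G] {p : ℕ} [Fact p.Prime] (M : Subgroup G) (P : Sylow p G)
    (hPM : (P : Subgroup G) ≤ M) (Q : Subgroup G) (hQ : IsPGroup p Q) (hQM : Q ≤ M) :
    ∃ m ∈ M, Q ≤ MulAut.conj m • (P : Subgroup G) := by
  let P' : Sylow p M := P.subtype hPM
  have hQ' : IsPGroup p (Q.subgroupOf M) := hQ.comap_of_injective M.subtype M.subtype_injective
  obtain ⟨S, hS⟩ := hQ'.exists_le_sylow
  obtain ⟨m, hm⟩ := MulAction.exists_smul_eq M P' S
  refine ⟨m, m.2, ?_⟩
  intro x hx
  have h1 : (⟨x, hQM hx⟩ : M) ∈ (S : Subgroup M) := hS hx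
  rw [← hm, Sylow.coe_subgroup_smul, mem_pointwise_smul_iff_inv_smul_mem, ← map_inv,
    MulAut.smul_def, MulAut.conj_apply] at h1
  rw [mem_pointwise_smul_iff_inv_smul_mem, ← map_inv, MulAut.smul_def, MulAut.conj_apply]
  exact h1

theorem exists_maximal_ge [Finite G] {p : ℕ} (N Q : Subgroup G) (hQ : IsPGroup p Q)
    (hQN : Q ≤ N) : ∃ T : Subgroup G, Q ≤ T ∧
      Maximal (fun Q : Subgroup G => IsPGroup p Q ∧ Q ≤ N) T := by
  have hfin : {Q : Subgroup G | IsPGroup p Q ∧ Q ≤ N}.Finite := Set.toFinite _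
  exact hfin.exists_le_maximal ⟨hQ, hQN⟩

section main

variable [Finite G] {p : ℕ} [Fact p.Prime] (J : Subgroup G → Subgroup G)
  (hJle : ∀ T, J T ≤ T)
  (hJne : ∀ T : Subgroup G, IsPGroup p T → T ≠ ⊥ → J T ≠ ⊥)
  (hJconj : ∀ (T : Subgroup G) (g : G), J (MulAut.conj g • T) = MulAut.conj g • J T)
  (hloc : ∀ X : Subgroup G, IsPGroup p X → X ≠ ⊥ → ∀ T : Subgroup G,
    Maximal (fun Q : Subgroup G => IsPGroup p Q ∧ Q ≤ normalizer (X : Set G)) T →
      normalizer (X : Set G) ≤ normalizer (J T : Set G))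

include hJconj in
omit [Finite G] in
theorem normalizer_le_normalizer_J (T : Subgroup G) :
    normalizer (T : Set G) ≤ normalizer (J T : Set G) := by
  intro g hg
  rw [mem_normalizer_iff_smul] at hg ⊢
  rw [← hJconj, hg]

include hJle hJne hJconj hloc in
/-- Every normaliser of a nontrivial `p`-subgroup lies in `N(J P)` for some Sylow `P`. -/
theorem exists_sylow_normalizer_le : ∀ (n : ℕ) (X T : Subgroup G), IsPGroup p X → X ≠ ⊥ →
    Maximal (fun Q : Subgroup G => IsPGroup p Q ∧ Q ≤ normalizer (X : Set G)) T →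
    Nat.card G - Nat.card T = n →
    ∃ P : Sylow p G, T ≤ P ∧ normalizer (X : Set G) ≤ normalizer (J P : Set G) := by
  intro n
  induction n using Nat.strong_induction_on with
  | _ n ih =>
    intro X T hX hX1 hT hn
    obtain ⟨P, hTP⟩ := hT.prop.1.exists_le_sylow
    rcases eq_or_lt_of_le hTP with h | h
    · refine ⟨P, hTP, ?_⟩
      rw [← h]
      exact hloc X hX hX1 T hT
    · have hT1 : T ≠ ⊥ := by
        rintro rfl
        apply hX1
        exact le_bot_iff.1 (hT.2 ⟨hX, le_normalizer_self X⟩ bot_le)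
      have hTp : IsPGroup p T := hT.prop.1
      obtain ⟨x, hxP, hxT, hxN⟩ := exists_mem_normalizer_of_lt T P P.isPGroup' h
      have hT'P : T ⊔ zpowers x ≤ P := sup_le hTP (zpowers_le.2 hxP)
      have hT'p : IsPGroup p (T ⊔ zpowers x : Subgroup G) := P.isPGroup'.to_le hT'P
      have hT'N : T ⊔ zpowers x ≤ normalizer (J T : Set G) :=
        (sup_le (le_normalizer_self T) (zpowers_le.2 hxN)).trans
          (normalizer_le_normalizer_J J hJconj T)
      obtain ⟨T1, hT1le, hT1max⟩ := exists_maximal_ge (p := p) _ _ hT'p hT'N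
      have hlt : T < T1 := by
        refine lt_of_lt_of_le ?_ hT1le
        refine lt_of_le_of_ne le_sup_left ?_
        intro heq
        apply hxT
        rw [heq]
        exact (le_sup_right : zpowers x ≤ T ⊔ zpowers x) (mem_zpowers x)
      have hcard : Nat.card T < Nat.card T1 := by
        exact Set.ncard_lt_ncard (s := (T : Set G)) (t := (T1 : Set G)) hlt (Set.toFinite _)
      have hcardG : Nat.card T1 ≤ Nat.card G := Subgroup.card_le_card_group T1
      have hJp : IsPGroup p (J T) := hTp.to_le (hJle T)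
      obtain ⟨P', hT1P', hP'⟩ := ih (Nat.card G - Nat.card T1) (by omega) (J T) T1 hJp
        (hJne T hTp hT1) hT1max rfl
      exact ⟨P', hlt.le.trans hT1P', (hloc X hX hX1 T hT).trans hP'⟩

include hJle hJne hJconj hloc in
/-- Sylow subgroups with nontrivial intersection have the same `N(J P)`. -/
theorem normalizer_J_eq : ∀ (n : ℕ) (P P2 : Sylow p G), (P : Subgroup G) ⊓ P2 ≠ ⊥ →
    Nat.card G - Nat.card ((P : Subgroup G) ⊓ P2 : Subgroup G) = n →
    normalizer (J P : Set G) = normalizer (J P2 : Set G) := by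
  intro n
  induction n using Nat.strong_induction_on with
  | _ n ih =>
    intro P P2 hne hn
    by_cases hPP : P = P2
    · rw [hPP]
    set X : Subgroup G := (P : Subgroup G) ⊓ P2 with hXdef
    have hXp : IsPGroup p X := P.isPGroup'.to_le inf_le_left
    obtain ⟨T, -, hTmax⟩ := exists_maximal_ge (p := p) (normalizer (X : Set G)) X hXp
      (le_normalizer_self X)
    obtain ⟨P3, -, hP3⟩ := exists_sylow_normalizer_le J hJle hJne hJconj hloc _ X T hXp hne hTmax rfl
    -- the key step for a Sylow subgroup `S` properly containing `X`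
    have key : ∀ S : Sylow p G, X < S → normalizer (J S : Set G) = normalizer (J P3 : Set G) := by
      intro S hXS
      obtain ⟨x, hxS, hxX, hxN⟩ := exists_mem_normalizer_of_lt X S S.isPGroup' hXS
      have hQS : X ⊔ zpowers x ≤ S := sup_le hXS.le (zpowers_le.2 hxS)
      have hQp : IsPGroup p (X ⊔ zpowers x : Subgroup G) := S.isPGroup'.to_le hQS
      have hQM : X ⊔ zpowers x ≤ normalizer (J P3 : Set G) :=
        (sup_le (le_normalizer_self X) (zpowers_le.2 hxN)).trans hP3
      have hP3M : (P3 : Subgroup G) ≤ normalizer (J P3 : Set G) :=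
        (le_normalizer_self _).trans (normalizer_le_normalizer_J J hJconj _)
      obtain ⟨m, hm, hQm⟩ := exists_conj_ge _ P3 hP3M _ hQp hQM
      have hlt : X < (S : Subgroup G) ⊓ (m • P3 : Sylow p G) := by
        rw [Sylow.coe_subgroup_smul]
        refine lt_of_lt_of_le ?_ (le_inf hQS hQm)
        refine lt_of_le_of_ne le_sup_left ?_
        intro heq
        apply hxX
        rw [heq]
        exact (le_sup_right : zpowers x ≤ X ⊔ zpowers x) (mem_zpowers x)
      have hcard : Nat.card X < Nat.card ((S : Subgroup G) ⊓ (m • P3 : Sylow p G) : Subgroup G) :=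
        Set.ncard_lt_ncard (s := (X : Set G))
          (t := (((S : Subgroup G) ⊓ (m • P3 : Sylow p G) : Subgroup G) : Set G)) hlt (Set.toFinite _)
      have hcardG := Subgroup.card_le_card_group ((S : Subgroup G) ⊓ (m • P3 : Sylow p G) : Subgroup G)
      have hne' : (S : Subgroup G) ⊓ (m • P3 : Sylow p G) ≠ ⊥ := by
        intro h0
        rw [h0] at hlt
        exact not_lt_bot hlt
      have h1 := ih _ (by omega) S (m • P3) hne' rfl
      rw [h1, Sylow.coe_subgroup_smul, hJconj, normalizer_smul]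
      exact conj_smul_eq_self_of_mem hm
    have hX1 : X < P := by
      refine lt_of_le_of_ne inf_le_left ?_
      intro heq
      apply hPP
      have h1 : (P : Subgroup G) ≤ P2 := by rw [← heq]; exact inf_le_right
      exact Sylow.ext (P.is_maximal' P2.isPGroup' h1).symm
    have hX2 : X < P2 := by
      refine lt_of_le_of_ne inf_le_right ?_
      intro heq
      apply hPP
      have h1 : (P2 : Subgroup G) ≤ P := by rw [← heq]; exact inf_le_left
      exact Sylow.ext (P2.is_maximal' P.isPGroup' h1)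
    rw [key P hX1, key P2 hX2]

include hJle hJne hJconj hloc in
/-- `N(J P)` contains every element conjugating a non-identity element of `P` into `P`. -/
theorem mem_normalizer_J (P : Sylow p G) (x : G) (hx : x ∈ (P : Subgroup G)) (hx1 : x ≠ 1)
    (g : G) (hg : g * x * g⁻¹ ∈ (P : Subgroup G)) : g ∈ normalizer (J P : Set G) := by
  have hx' : x ∈ (((g⁻¹ • P : Sylow p G)) : Subgroup G) := by
    rw [Sylow.coe_subgroup_smul, mem_pointwise_smul_iff_inv_smul_mem, ← map_inv, inv_inv,
      MulAut.smul_def, MulAut.conj_apply]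
    exact hg
  have hne : (P : Subgroup G) ⊓ ((g⁻¹ • P : Sylow p G)) ≠ ⊥ := by
    intro h0
    apply hx1
    rw [← mem_bot, ← h0]
    exact ⟨hx, hx'⟩
  have h1 := normalizer_J_eq J hJle hJne hJconj hloc _ P (g⁻¹ • P) hne rfl
  rw [Sylow.coe_subgroup_smul, hJconj, normalizer_smul] at h1
  have hPM : (P : Subgroup G) ≤ normalizer (J P : Set G) :=
    (le_normalizer_self _).trans (normalizer_le_normalizer_J J hJconj _)
  have hPM' : MulAut.conj g⁻¹ • (P : Subgroup G) ≤ normalizer (J P : Set G) := by
    rw [h1]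
    exact Subgroup.pointwise_smul_le_pointwise_smul_iff.2 hPM
  obtain ⟨m, hm, hle⟩ := exists_conj_ge _ P hPM (MulAut.conj g⁻¹ • (P : Subgroup G))
    (by rw [← Sylow.coe_subgroup_smul]; exact (g⁻¹ • P).isPGroup') hPM'
  have heq : MulAut.conj m • (P : Subgroup G) = MulAut.conj g⁻¹ • (P : Subgroup G) := by
    rw [← Sylow.coe_subgroup_smul, ← Sylow.coe_subgroup_smul] at hle ⊢
    exact ((g⁻¹ • P).is_maximal' (m • P).isPGroup' hle)
  have h2 : m⁻¹ * g⁻¹ ∈ normalizer ((P : Subgroup G) : Set G) := by
    rw [mem_normalizer_iff_smul, map_mul, mul_smul, ← heq, map_inv, inv_smul_smul]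
  have h3 : m⁻¹ * g⁻¹ ∈ normalizer (J P : Set G) := normalizer_le_normalizer_J J hJconj _ h2
  have h4 : g⁻¹ ∈ normalizer (J P : Set G) := by
    have := mul_mem hm h3
    rwa [mul_inv_cancel_left] at this
  exact inv_mem_iff.1 h4

include hJle hJne hJconj hloc in
/-- If moreover `G` is perfect and `P ≤ N(J P)'` forces `N(J P) ≤ N(P)`, then `P` is a
TI-subgroup. -/
theorem sylow_TI (hGc : commutator G = ⊤)
    (hfoc : ∀ P : Sylow p G, (P : Subgroup G) ≤
      ⁅normalizer (J P : Set G), normalizer (J P : Set G)⁆ →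
      normalizer (J P : Set G) ≤ normalizer ((P : Subgroup G) : Set G))
    (P : Sylow p G) (g : G) (hg : g ∉ normalizer ((P : Subgroup G) : Set G)) :
    (P : Subgroup G) ⊓ MulAut.conj g • (P : Subgroup G) = ⊥ := by
  have hPM : (P : Subgroup G) ≤ normalizer (J P : Set G) :=
    (le_normalizer_self _).trans (normalizer_le_normalizer_J J hJconj _)
  have hcomm := CNFocal.le_commutator_of_controls p P hGc (normalizer (J P : Set G)) hPM
    (fun x hx hx1 g hg => mem_normalizer_J J hJle hJne hJconj hloc P x hx hx1 g hg)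
  have hle := hfoc P hcomm
  rw [eq_bot_iff]
  rintro y ⟨hy1, hy2⟩
  rw [mem_bot]
  by_contra hy
  apply hg
  apply hle
  have hy2' : y ∈ MulAut.conj g • (P : Subgroup G) := hy2
  rw [mem_pointwise_smul_iff_inv_smul_mem, ← map_inv, MulAut.smul_def, MulAut.conj_apply,
    inv_inv] at hy2'
  refine mem_normalizer_J J hJle hJne hJconj hloc P (g⁻¹ * y * g) hy2' ?_ g ?_
  · intro h
    apply hy
    have : y = g * (g⁻¹ * y * g) * g⁻¹ := by group
    rw [this, h]; group
  · have : g * (g⁻¹ * y * g) * g⁻¹ = y := by group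
    rw [this]; exact hy1

end main

end Cfsg.Agent.Characters.CNGlobal
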