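import Cfsg.Agent.Characters.CNBasic
import Cfsg.Agent.Characters.CNFreeGroup

/-!
Local structure of solvable CN-groups of odd order with nontrivial `O_p`.
-/

set_option autoImplicit false

namespace Cfsg.Agent.Characters.CNLocal

open Subgroup Cfsg.Agent.Characters.CNBasic

variable {L : Type*} [Group L] [Finite L]

/-- If all Sylow `p`-subgroups lie in a nilpotent subgroup, they are normal. -/
theorem sylow_normal_of_le_nilpotent {p : ℕ} [Fact p.Prime] (N : Subgroup L)
    (hN : Group.IsNilpotent N) (h : ∀ T : Sylow p L, (T : Subgroup L) ≤ N) (T : Sylow p L) :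
    (T : Subgroup L).Normal := by
  have hsub : Subsingleton (Sylow p L) := by
    constructor
    intro S S'
    apply Sylow.subtype_injective (hP := h S) (hQ := h S')
    have hn : ((S.subtype (h S) : Sylow p N) : Subgroup N).Normal := by
      have := ((Group.isNilpotent_of_finite_tfae (G := N)).out 0 3).1 hN
      exact this p inferInstance _
    have := Sylow.unique_of_normal _ hn
    exact Subsingleton.elim _ _
  exact Sylow.normal_of_subsingleton T

/-- `p'`-elements act freely on `O_p`. -/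
theorem no_fixed (hCN : ∀ g : L, g ≠ 1 → Group.IsNilpotent (Subgroup.centralizer ({g} : Set L)))
    {p : ℕ} [Fact p.Prime] (D : Subgroup L) [hDn : D.Normal] (hD : IsPGroup p D)
    (T : Sylow p L) (hT : ¬ (T : Subgroup L).Normal) {h v : L} (hh : (orderOf h).Coprime p)
    (hv : v ∈ D) (hv1 : v ≠ 1) (hhv : h * v = v * h) : h = 1 := by
  by_contra hh1
  have hD1 : D ≠ ⊥ := by
    rintro rfl
    exact hv1 (Subgroup.mem_bot.1 hv)
  apply hT
  refine sylow_normal_of_le_nilpotent (Subgroup.centralizer ({h} : Set L)) (hCN h hh1) ?_ T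
  intro S
  have hDS : D ≤ S := hD.le_sylow_of_normal S
  obtain ⟨w, hwD, hw1, hw⟩ := exists_mem_center_of_normal (S : Subgroup L) S.isPGroup' D hD hD1
    (fun t _ d hd => hDn.conj_mem d hd t)
  -- `h` commutes with `w`
  have hwh : w * h = h * w := by
    refine cn_commute hCN hv1 (hw v (hDS hv)).symm hhv ?_
    exact orderOf_coprime_of_pgroup hD hh hwD
  intro t ht
  rw [Subgroup.mem_centralizer_singleton_iff]
  exact cn_commute hCN hw1 (hw t ht) hwh.symm (orderOf_coprime_of_pgroup S.isPGroup' hh ht)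

/-- No `p'`-element commutes modulo `O_p` with a `p`-element outside `O_p`. -/
theorem no_comm_mod (hCN : ∀ g : L, g ≠ 1 → Group.IsNilpotent (Subgroup.centralizer ({g} : Set L)))
    {p : ℕ} [Fact p.Prime] (D : Subgroup L) [hDn : D.Normal] (hD : IsPGroup p D) (hD1 : D ≠ ⊥)
    (T : Sylow p L) (hT : ¬ (T : Subgroup L).Normal) {r : ℕ} [hr : Fact r.Prime] (hrp : r ≠ p) {h y : L}
    (hh : orderOf h = r) (hy : y ∈ T) (hhy : y⁻¹ * h * y * h⁻¹ ∈ D) : y ∈ D := by
  classical
  by_contra hyD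
  have hpp : p.Prime := Fact.out
  have hcop : (orderOf h).Coprime p := by
    rw [hh]; exact (Nat.coprime_primes hr.out hpp).2 hrp
  have hh1 : h ≠ 1 := by
    rintro rfl
    rw [orderOf_one] at hh
    exact hr.out.one_lt.ne hh
  let _ : Fintype D := Fintype.ofFinite D
  have hstep : ∀ d ∈ D, y⁻¹ * h * y * d * h⁻¹ ∈ D := by
    intro d hd
    have : y⁻¹ * h * y * d * h⁻¹ = (y⁻¹ * h * y * h⁻¹) * (h * d * h⁻¹) := by group
    rw [this]
    exact D.mul_mem hhy (hDn.conj_mem d hd h)
  have hinj : Function.Injective (fun d : D => (⟨y⁻¹ * h * y * d * h⁻¹, hstep d d.2⟩ : D)) := by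
    intro d d' hdd
    have := congrArg Subtype.val hdd
    simpa using this
  let σ : Equiv.Perm D := Equiv.ofBijective _ (Finite.injective_iff_bijective.1 hinj)
  have hσ : ∀ d : D, ((σ d : D) : L) = y⁻¹ * h * y * d * h⁻¹ := fun d => rfl
  have hσn : ∀ (n : ℕ) (d : D), (((σ ^ n) d : D) : L) = y⁻¹ * h ^ n * y * d * (h ^ n)⁻¹ := by
    intro n
    induction n with
    | zero => intro d; simp
    | succ n ih =>
      intro d
      rw [pow_succ', Equiv.Perm.mul_apply, hσ, ih, pow_succ' h]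
      group
  have hσr : σ ^ r ^ 1 = 1 := by
    ext d
    rw [hσn, pow_one, ← hh, pow_orderOf_eq_one]
    simp
  have hnd : ¬ r ∣ Fintype.card D := by
    obtain ⟨n, hn⟩ := IsPGroup.iff_card.1 hD
    rw [← Nat.card_eq_fintype_card, hn]
    intro hd
    exact hrp ((Nat.prime_dvd_prime_iff_eq hr.out hpp).1 (hr.out.dvd_of_dvd_pow hd))
  obtain ⟨d, hd⟩ := Equiv.Perm.exists_fixed_point_of_prime hnd hσr
  have hd' := congrArg Subtype.val hd
  rw [hσ] at hd'
  -- `y d` commutes with `h`
  have hcomm : h * (y * d) = (y * d) * h := by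
    have h1 : y⁻¹ * h * y * d * h⁻¹ = d := hd'
    have h2 : y⁻¹ * h * y * d = d * h := by rw [← mul_inv_eq_iff_eq_mul]; exact h1
    calc h * (y * d) = y * (y⁻¹ * h * y * d) := by group
      _ = (y * d) * h := by rw [h2]; group
  have hDT : D ≤ T := hD.le_sylow_of_normal T
  obtain ⟨w, hwD, hw1, hw⟩ := exists_mem_center_of_normal (T : Subgroup L) T.isPGroup' D hD hD1
    (fun t _ d hd => hDn.conj_mem d hd t)
  have hydT : y * d ∈ (T : Subgroup L) := T.mul_mem hy (hDT d.2)
  have hyd1 : y * d ≠ 1 := by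
    intro h1
    apply hyD
    rw [eq_inv_of_mul_eq_one_left h1]
    exact D.inv_mem d.2
  have hwh : w * h = h * w := by
    refine cn_commute hCN hyd1 (hw _ hydT).symm hcomm (orderOf_coprime_of_pgroup hD hcop hwD)
  exact hh1 (no_fixed hCN D hD T hT hcop hwD hw1 hwh.symm)

/-- `Ω₁(Z(D))`. -/
def omegaZ (p : ℕ) (D : Subgroup L) : Subgroup L where
  carrier := {v | v ∈ D ∧ (∀ d ∈ D, d * v = v * d) ∧ v ^ p = 1}
  mul_mem' := by
    rintro x y ⟨hx, hxc, hx1⟩ ⟨hy, hyc, hy1⟩
    refine ⟨mul_mem hx hy, fun d hd => ?_, ?_⟩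
    · rw [← mul_assoc, hxc d hd, mul_assoc, hyc d hd, mul_assoc]
    · have : Commute x y := hyc x hx
      rw [this.mul_pow, hx1, hy1, one_mul]
  one_mem' := ⟨one_mem _, fun d _ => by simp, one_pow _⟩
  inv_mem' := by
    rintro x ⟨hx, hxc, hx1⟩
    refine ⟨inv_mem hx, fun d hd => ?_, by rw [inv_pow, hx1, inv_one]⟩
    have : Commute d x := hxc d hd
    exact this.inv_right

omit [Finite L] in
theorem mem_omegaZ {p : ℕ} {D : Subgroup L} {v : L} :
    v ∈ omegaZ p D ↔ v ∈ D ∧ (∀ d ∈ D, d * v = v * d) ∧ v ^ p = 1 := Iff.rfl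

omit [Finite L] in
theorem omegaZ_normal (p : ℕ) (D : Subgroup L) [hDn : D.Normal] : (omegaZ p D).Normal := by
  constructor
  rintro v ⟨hv, hvc, hv1⟩ g
  refine ⟨hDn.conj_mem v hv g, fun d hd => ?_, by rw [conj_pow, hv1, mul_one, mul_inv_cancel]⟩
  have h1 := hvc (g⁻¹ * d * g) (by simpa using hDn.conj_mem d hd g⁻¹)
  calc d * (g * v * g⁻¹) = g * ((g⁻¹ * d * g) * v) * g⁻¹ := by group
    _ = (g * v * g⁻¹) * d := by rw [h1]; group

theorem omegaZ_ne_bot {p : ℕ} [hp : Fact p.Prime] (D : Subgroup L) (hD : IsPGroup p D) (hD1 : D ≠ ⊥) :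
    omegaZ p D ≠ ⊥ := by
  obtain ⟨w, hwD, hw1, hw⟩ := exists_mem_center_of_normal D hD D hD hD1
    (fun t ht d hd => D.mul_mem (D.mul_mem ht hd) (D.inv_mem ht))
  obtain ⟨k, hk⟩ := (IsPGroup.iff_orderOf.1 hD) ⟨w, hwD⟩
  rw [Subgroup.orderOf_mk] at hk
  have hk0 : k ≠ 0 := by
    rintro rfl
    rw [pow_zero, orderOf_eq_one_iff] at hk
    exact hw1 hk
  obtain ⟨m, rfl⟩ := Nat.exists_eq_succ_of_ne_zero hk0
  intro hbot
  have hmem : w ^ p ^ m ∈ omegaZ p D := by
    refine ⟨D.pow_mem hwD _, fun d hd => ?_, ?_⟩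
    · have : Commute d w := hw d hd
      exact this.pow_right _
    · rw [← pow_mul, ← pow_succ, ← Nat.succ_eq_add_one, ← hk, pow_orderOf_eq_one]
  rw [hbot, Subgroup.mem_bot] at hmem
  have h1 := orderOf_dvd_of_pow_eq_one hmem
  rw [hk] at h1
  have := (Nat.pow_dvd_pow_iff_le_right hp.out.one_lt).1 h1
  omega

theorem free_on_omegaZ
    (hCN : ∀ g : L, g ≠ 1 → Group.IsNilpotent (Subgroup.centralizer ({g} : Set L)))
    {p : ℕ} [hp : Fact p.Prime] (D : Subgroup L) [hDn : D.Normal] (hD : IsPGroup p D)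
    (T : Sylow p L) (hT : ¬ (T : Subgroup L).Normal) {q : ℕ} [hqF : Fact q.Prime] (hqp : q ≠ p)
    (N : Subgroup (L ⧸ D)) (hNq : ∀ x ∈ N, x ^ q = 1) :
    ∀ r ∈ N.comap (QuotientGroup.mk' D), r ∉ D → ∀ v ∈ omegaZ p D, r * v = v * r → v = 1 := by
  have hcop : (q : ℕ).Coprime p := (Nat.coprime_primes hqF.out hp.out).2 hqp
  intro r hr hrD v hv hrv
  obtain ⟨h, hh, hhr⟩ := exists_lift hqp D hD (r : L ⧸ D) (hNq _ hr)
    (fun h => hrD ((QuotientGroup.eq_one_iff r).1 h))
  by_contra hv1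
  have h1 : h⁻¹ * r ∈ D := by rw [← QuotientGroup.eq]; exact hhr
  have h2 : h * v = v * h := by
    have h3 := (mem_omegaZ.1 hv).2.1 _ h1
    have h4 : r * v = h * (v * (h⁻¹ * r)) := by rw [← h3]; group
    rw [hrv] at h4
    have h5 : v = h * v * h⁻¹ := by
      apply mul_right_cancel (b := r)
      rw [h4]; group
    rw [← mul_inv_eq_iff_eq_mul]; exact h5.symm
  have h3 := no_fixed hCN D hD T hT (h := h) (by rw [hh]; exact hcop) (mem_omegaZ.1 hv).1 hv1 h2
  rw [h3, orderOf_one] at hh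
  exact hqF.out.one_lt.ne hh

/-- The relevant section `R/D` of order `q`. -/
theorem exists_section [Group.IsSolvable L]
    (hCN : ∀ g : L, g ≠ 1 → Group.IsNilpotent (Subgroup.centralizer ({g} : Set L)))
    {p : ℕ} [hp : Fact p.Prime] (D : Subgroup L) [hDn : D.Normal] (hD : IsPGroup p D) (hD1 : D ≠ ⊥)
    (hDmax : ∀ N : Subgroup L, N.Normal → IsPGroup p N → N ≤ D)
    (T : Sylow p L) (hT : ¬ (T : Subgroup L).Normal) :
    ∃ q : ℕ, q.Prime ∧ q ≠ p ∧ ∃ N : Subgroup (L ⧸ D), N.Normal ∧ Nat.card N = q := by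
  classical
  have hDtop : D ≠ ⊤ := by
    rintro rfl
    apply hT
    have : (T : Subgroup L) = ⊤ := top_le_iff.1 (hD.le_sylow_of_normal T)
    rw [this]; infer_instance
  have : Nontrivial (L ⧸ D) := by
    rw [QuotientGroup.nontrivial_iff]; exact hDtop
  obtain ⟨q, hq, N, hNn, hN1, hNc, hNq⟩ := exists_normal_elementary (L ⧸ D)
  have hqF : Fact q.Prime := ⟨hq⟩
  have hNpg : IsPGroup q N := by
    intro x
    refine ⟨1, ?_⟩
    rw [pow_one]
    exact Subtype.ext (by simpa using hNq x x.2)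
  have hqp : q ≠ p := by
    rintro rfl
    apply hN1
    have h1 : IsPGroup q (N.comap (QuotientGroup.mk' D)) := by
      apply hNpg.comap_of_ker_isPGroup
      rw [QuotientGroup.ker_mk']; exact hD
    have h2 := hDmax _ (hNn.comap _) h1
    rw [eq_bot_iff]
    intro x hx
    obtain ⟨g, rfl⟩ := QuotientGroup.mk_surjective x
    have : g ∈ D := h2 hx
    rw [Subgroup.mem_bot]
    exact (QuotientGroup.eq_one_iff g).2 this
  refine ⟨q, hq, hqp, N, hNn, ?_⟩
  have hcop : (q : ℕ).Coprime p := (Nat.coprime_primes hq hp.out).2 hqp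
  have hVn : (omegaZ p D).Normal := omegaZ_normal p D
  have hle : D.relIndex (N.comap (QuotientGroup.mk' D)) ≤ q := by
    apply CNFreeGroup.relIndex_le_of_free (omegaZ p D) D (N.comap (QuotientGroup.mk' D)) q
    · intro v hv w hw
      exact (mem_omegaZ.1 hw).2.1 v (mem_omegaZ.1 hv).1
    · intro r _
      rw [Subgroup.normalizer_eq_top]
      trivial
    · intro d hd
      show (QuotientGroup.mk' D) d ∈ N
      have : (QuotientGroup.mk' D) d = 1 := (QuotientGroup.eq_one_iff d).2 hd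
      rw [this]; exact N.one_mem
    · intro d hd v hv
      exact (mem_omegaZ.1 hv).2.1 d hd
    · intro r hr
      rw [← QuotientGroup.eq_one_iff, QuotientGroup.mk_pow]
      exact hNq _ hr
    · intro r hr s hs
      rw [← QuotientGroup.eq_one_iff]
      have := hNc _ hr _ hs
      simp only [QuotientGroup.mk_mul, QuotientGroup.mk_inv]
      simp only [QuotientGroup.mk'_apply] at this
      rw [this]; group
    · exact free_on_omegaZ hCN D hD T hT hqp N hNq
    · intro v hv hvq
      have h1 : v ^ p = 1 := (mem_omegaZ.1 hv).2.2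
      have h2 := Nat.dvd_gcd (orderOf_dvd_of_pow_eq_one hvq) (orderOf_dvd_of_pow_eq_one h1)
      rw [Nat.Coprime] at hcop
      rw [hcop, Nat.dvd_one, orderOf_eq_one_iff] at h2
      exact h2
    · exact omegaZ_ne_bot D hD hD1
  have hrel : D.relIndex (N.comap (QuotientGroup.mk' D)) = Nat.card N := by
    have h1 := Subgroup.relIndex_comap (H := (⊥ : Subgroup (L ⧸ D))) (QuotientGroup.mk' D)
      (N.comap (QuotientGroup.mk' D))
    rw [MonoidHom.comap_bot, QuotientGroup.ker_mk', Subgroup.relIndex_bot_left,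
      Subgroup.map_comap_eq_self_of_surjective (QuotientGroup.mk'_surjective D)] at h1
    exact h1
  rw [hrel] at hle
  obtain ⟨n, hn⟩ := IsPGroup.iff_card.1 hNpg
  have hn1 : n ≠ 0 := by
    rintro rfl
    rw [pow_zero] at hn
    exact hN1 (Subgroup.eq_bot_of_card_eq N hn)
  rw [hn] at hle ⊢
  have : n ≤ 1 := by
    by_contra hcon
    have h2 : q ^ 2 ≤ q ^ n := Nat.pow_le_pow_right hq.pos (by omega)
    have h3 : q < q ^ 2 := by
      rw [pow_two]; nlinarith [hq.one_lt]
    omega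
  have : n = 1 := by omega
  rw [this, pow_one]

/-- Main local lemma. -/
theorem local_main [Group.IsSolvable L] (hodd : Odd (Nat.card L))
    (hCN : ∀ g : L, g ≠ 1 → Group.IsNilpotent (Subgroup.centralizer ({g} : Set L)))
    {p : ℕ} [hp : Fact p.Prime] (D : Subgroup L) [hDn : D.Normal] (hD : IsPGroup p D) (hD1 : D ≠ ⊥)
    (hDmax : ∀ N : Subgroup L, N.Normal → IsPGroup p N → N ≤ D)
    (T : Sylow p L) (hT : ¬ (T : Subgroup L).Normal) :
    (∀ A : Subgroup L, A ≤ T → (∀ x ∈ A, ∀ y ∈ A, x * y = y * x) → (∀ x ∈ A, x ^ p = 1) →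
      (∀ B : Subgroup L, B ≤ T → (∀ x ∈ B, ∀ y ∈ B, x * y = y * x) → (∀ x ∈ B, x ^ p = 1) →
        Nat.card B ≤ Nat.card A) → A ≤ D) ∧ ¬ ((T : Subgroup L) ≤ commutator L) := by
  classical
  obtain ⟨q, hq, hqp, N, hNn, hNcard⟩ := exists_section hCN D hD hD1 hDmax T hT
  have hqF : Fact q.Prime := ⟨hq⟩
  have hcop : (q : ℕ).Coprime p := (Nat.coprime_primes hq hp.out).2 hqp
  have hNcyc : IsCyclic N := isCyclic_of_prime_card hNcard
  have hDT : D ≤ T := hD.le_sylow_of_normal T
  let φ : L →* MulAut N := (MulAut.conjNormal (H := N)).comp (QuotientGroup.mk' D)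
  have hφ : ∀ (g : L) (n : N), ((φ g n : N) : L ⧸ D) = (g : L ⧸ D) * n * (g : L ⧸ D)⁻¹ := by
    intro g n
    rfl
  -- a generator
  have hNne : N ≠ ⊥ := by
    rintro rfl
    rw [Subgroup.card_bot] at hNcard
    exact hq.one_lt.ne hNcard
  obtain ⟨n₀, hn₀N, hn₀1⟩ := (Subgroup.ne_bot_iff_exists_ne_one.1 hNne : ∃ a : N, a ≠ 1) |>.elim
    (fun a ha => (⟨(a : L ⧸ D), a.2, fun h => ha (Subtype.ext h)⟩ : ∃ x, x ∈ N ∧ x ≠ (1 : L ⧸ D)))
  have hNq : ∀ x ∈ N, x ^ q = 1 := by
    intro x hx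
    have := pow_card_eq_one' (x := (⟨x, hx⟩ : N))
    rw [hNcard] at this
    simpa using congrArg Subtype.val this
  obtain ⟨h, hh, hhn⟩ := exists_lift hqp D hD n₀ (hNq n₀ hn₀N) hn₀1
  -- kernel of `φ` on `T`
  have hker : ∀ y ∈ T, φ y = 1 → y ∈ D := by
    intro y hy hφy
    refine no_comm_mod hCN D hD hD1 T hT hqp hh hy ?_
    have h1 := hφ y ⟨n₀, hn₀N⟩
    rw [hφy] at h1
    simp only [MulAut.one_apply] at h1
    rw [← QuotientGroup.eq_one_iff]
    simp only [QuotientGroup.mk_mul, QuotientGroup.mk_inv]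
    rw [hhn]
    have h2 : (y : L ⧸ D)⁻¹ * n₀ * y = n₀ := by
      calc (y : L ⧸ D)⁻¹ * n₀ * y = (y : L ⧸ D)⁻¹ * (y * n₀ * (y : L ⧸ D)⁻¹) * y := by rw [← h1]
        _ = n₀ := by group
    rw [h2, mul_inv_cancel]
  have hVn : (omegaZ p D).Normal := omegaZ_normal p D
  refine ⟨?_, ?_⟩
  · intro A hAT hAc hAp hAmax
    by_contra hAD
    obtain ⟨a, haA, haD⟩ := SetLike.not_le_iff_exists.1 hAD
    -- `|A : A ∩ D| ≤ p`
    have hker' : (D ⊓ A) = φ.ker ⊓ A := by
      ext y
      constructor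
      · rintro ⟨hyD, hyA⟩
        refine ⟨?_, hyA⟩
        show φ y = 1
        have : QuotientGroup.mk' D y = 1 := (QuotientGroup.eq_one_iff y).2 hyD
        show MulAut.conjNormal (QuotientGroup.mk' D y) = 1
        rw [this, map_one]
      · rintro ⟨hy, hyA⟩
        exact ⟨hker y (hAT hyA) hy, hyA⟩
    have hidx : D.relIndex A ≤ p := by
      have h1 : D.relIndex A = Nat.card (A.map φ) := by
        rw [← Subgroup.inf_relIndex_right, hker', Subgroup.inf_relIndex_right,
          ← MonoidHom.comap_bot, Subgroup.relIndex_comap, Subgroup.relIndex_bot_left]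
      rw [h1]
      let e := IsCyclic.mulAutMulEquiv N
      have hcyc : IsCyclic (MulAut N) := by
        have h2 : IsCyclic (ZMod (Nat.card N))ˣ := by
          rw [hNcard]; infer_instance
        exact isCyclic_of_surjective e.symm.toMonoidHom e.symm.surjective
      let _ : Fintype (MulAut N) := Fintype.ofFinite _
      have h3 := IsCyclic.card_pow_eq_one_le (α := MulAut N) hp.out.pos
      refine le_trans ?_ h3
      have h5 : Nat.card (A.map φ) = (Finset.univ.filter (fun x : MulAut N => x ∈ A.map φ)).card := by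
        rw [Nat.card_eq_fintype_card, Fintype.card_subtype]
      rw [h5]
      apply Finset.card_le_card
      intro x hx
      simp only [Finset.mem_filter, Finset.mem_univ, true_and] at hx ⊢
      obtain ⟨y, hy, rfl⟩ := hx
      rw [← map_pow, hAp y hy, map_one]
    set V := omegaZ p D with hV
    have hVD : V ≤ D := fun v hv => (mem_omegaZ.1 hv).1
    have hVc : ∀ v ∈ V, ∀ w ∈ V, v * w = w * v := fun v hv w hw =>
      (mem_omegaZ.1 hw).2.1 v (mem_omegaZ.1 hv).1
    have hBmem : ∀ x ∈ (D ⊓ A) ⊔ V, ∃ y ∈ D ⊓ A, ∃ v ∈ V, y * v = x := fun x hx =>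
      Subgroup.mem_sup_of_normal_right.1 hx
    have hcardB : Nat.card ((D ⊓ A) ⊔ V : Subgroup L) ≤ Nat.card A := by
      apply hAmax
      · exact sup_le (inf_le_right.trans hAT) (hVD.trans hDT)
      · intro x hx y hy
        obtain ⟨x1, hx1, x2, hx2, rfl⟩ := hBmem x hx
        obtain ⟨y1, hy1, y2, hy2, rfl⟩ := hBmem y hy
        have e1 : Commute x1 y1 := hAc x1 hx1.2 y1 hy1.2
        have e2 : Commute x1 y2 := (mem_omegaZ.1 hy2).2.1 x1 hx1.1
        have e3 : Commute y1 x2 := (mem_omegaZ.1 hx2).2.1 y1 hy1.1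
        have e4 : Commute x2 y2 := hVc x2 hx2 y2 hy2
        exact ((e1.mul_right e2).mul_left (e3.symm.mul_right e4)).eq
      · intro x hx
        obtain ⟨x1, hx1, x2, hx2, rfl⟩ := hBmem x hx
        have e1 : Commute x1 x2 := (mem_omegaZ.1 hx2).2.1 x1 hx1.1
        rw [e1.mul_pow, hAp x1 hx1.2, (mem_omegaZ.1 hx2).2.2, one_mul]
    -- counting
    have c1 : Nat.card (D ⊓ A : Subgroup L) * D.relIndex A = Nat.card A := by
      have := Subgroup.relIndex_mul_relIndex ⊥ (D ⊓ A) A bot_le inf_le_right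
      rwa [Subgroup.relIndex_bot_left, Subgroup.relIndex_bot_left, Subgroup.inf_relIndex_right] at this
    have c2 : Nat.card V * V.relIndex (D ⊓ A) = Nat.card ((D ⊓ A) ⊔ V : Subgroup L) := by
      have := Subgroup.relIndex_mul_relIndex ⊥ V ((D ⊓ A) ⊔ V) bot_le le_sup_right
      rwa [Subgroup.relIndex_bot_left, Subgroup.relIndex_bot_left, Subgroup.relIndex_sup_right] at this
    have c3 : Nat.card (V ⊓ (D ⊓ A) : Subgroup L) * V.relIndex (D ⊓ A) = Nat.card (D ⊓ A : Subgroup L) := by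
      have := Subgroup.relIndex_mul_relIndex ⊥ (V ⊓ (D ⊓ A)) (D ⊓ A) bot_le inf_le_right
      rwa [Subgroup.relIndex_bot_left, Subgroup.relIndex_bot_left, Subgroup.inf_relIndex_right] at this
    have c4 : Nat.card V ≤ Nat.card (V ⊓ (D ⊓ A) : Subgroup L) * p := by
      have hm : 0 < V.relIndex (D ⊓ A) := Nat.pos_of_ne_zero (by
        intro h0
        rw [h0, mul_zero] at c3
        exact Nat.card_pos.ne c3)
      apply Nat.le_of_mul_le_mul_right _ hm
      calc Nat.card V * V.relIndex (D ⊓ A) = Nat.card ((D ⊓ A) ⊔ V : Subgroup L) := c2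
        _ ≤ Nat.card A := hcardB
        _ = Nat.card (D ⊓ A : Subgroup L) * D.relIndex A := c1.symm
        _ ≤ Nat.card (D ⊓ A : Subgroup L) * p := Nat.mul_le_mul_left _ hidx
        _ = Nat.card (V ⊓ (D ⊓ A) : Subgroup L) * p * V.relIndex (D ⊓ A) := by rw [← c3]; ring
    -- the commutator map
    let f : V →* L :=
      { toFun := fun v => a * v * a⁻¹ * (v : L)⁻¹
        map_one' := by simp
        map_mul' := by
          intro v w
          have hw : a * w * a⁻¹ * (w : L)⁻¹ ∈ V := V.mul_mem (hVn.conj_mem w w.2 a) (V.inv_mem w.2)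
          have hc := hVc _ (V.inv_mem v.2) _ hw
          calc a * ((v * w : V) : L) * a⁻¹ * ((v * w : V) : L)⁻¹
              = (a * v * a⁻¹) * ((a * w * a⁻¹ * (w : L)⁻¹) * (v : L)⁻¹) := by
                rw [Subgroup.coe_mul]; group
            _ = (a * v * a⁻¹) * ((v : L)⁻¹ * (a * w * a⁻¹ * (w : L)⁻¹)) := by rw [hc]
            _ = (a * v * a⁻¹ * (v : L)⁻¹) * (a * w * a⁻¹ * (w : L)⁻¹) := by group }
    have hf : ∀ v : V, f v = a * v * a⁻¹ * (v : L)⁻¹ := fun v => rfl
    have hfV : f.range ≤ V := by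
      rintro _ ⟨v, rfl⟩
      exact V.mul_mem (hVn.conj_mem v v.2 a) (V.inv_mem v.2)
    have hW : Nat.card f.range ≤ p := by
      have k1 : Nat.card f.ker * Nat.card f.range = Nat.card V := by
        rw [← Subgroup.index_ker]; exact Subgroup.card_mul_index f.ker
      have k2 : Nat.card (V ⊓ (D ⊓ A) : Subgroup L) ≤ Nat.card f.ker := by
        have k3 : (V ⊓ (D ⊓ A) : Subgroup L) ≤ f.ker.map V.subtype := by
          rintro x ⟨hxV, hxD, hxA⟩
          refine ⟨⟨x, hxV⟩, ?_, rfl⟩
          show a * x * a⁻¹ * x⁻¹ = 1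
          rw [hAc a haA x hxA]; group
        refine (Subgroup.card_le_of_le k3).trans ?_
        exact le_of_eq (Subgroup.card_map_of_injective (Subgroup.subtype_injective V))
      have hpos : 0 < Nat.card (V ⊓ (D ⊓ A) : Subgroup L) := Nat.card_pos
      have k4 : Nat.card (V ⊓ (D ⊓ A) : Subgroup L) * Nat.card f.range
          ≤ Nat.card (V ⊓ (D ⊓ A) : Subgroup L) * p :=
        (Nat.mul_le_mul_right _ k2).trans (k1.le.trans c4)
      exact Nat.le_of_mul_le_mul_left k4 hpos
    have hquad : ∀ w ∈ f.range, a * w = w * a := by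
      rcases eq_or_ne f.range ⊥ with hbot | hbot
      · intro w hw
        rw [hbot, Subgroup.mem_bot] at hw
        rw [hw, mul_one, one_mul]
      · have hVp : IsPGroup p V := hD.to_le hVD
        have haT : a ∈ (T : Subgroup L) := hAT haA
        obtain ⟨w, hwW, hw1, hw⟩ := exists_mem_center_of_normal (Subgroup.zpowers a)
          (T.isPGroup'.to_le (by rwa [Subgroup.zpowers_le])) f.range (hVp.to_le hfV) hbot (by
            rintro t ht _ ⟨v, rfl⟩
            refine ⟨⟨t * v * t⁻¹, hVn.conj_mem v v.2 t⟩, ?_⟩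
            have hta : a * t = t * a := by
              obtain ⟨k, rfl⟩ := Subgroup.mem_zpowers_iff.1 ht
              exact (Commute.refl a).zpow_right k
            have hta' : t⁻¹ * a⁻¹ = a⁻¹ * t⁻¹ := by
              rw [← mul_inv_rev, ← mul_inv_rev, hta]
            rw [hf, hf]
            show a * (t * v * t⁻¹) * a⁻¹ * (t * v * t⁻¹)⁻¹ = t * (a * v * a⁻¹ * (v : L)⁻¹) * t⁻¹
            calc a * (t * v * t⁻¹) * a⁻¹ * (t * v * t⁻¹)⁻¹
                = (a * t) * v * (t⁻¹ * a⁻¹) * t * (v : L)⁻¹ * t⁻¹ := by group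
              _ = (t * a) * v * (a⁻¹ * t⁻¹) * t * (v : L)⁻¹ * t⁻¹ := by rw [hta, hta']
              _ = t * (a * v * a⁻¹ * (v : L)⁻¹) * t⁻¹ := by group)
        have hwo : orderOf w = p := orderOf_eq_prime ((mem_omegaZ.1 (hfV hwW)).2.2) hw1
        have hWz : Subgroup.zpowers w = f.range := by
          apply Subgroup.eq_of_le_of_card_ge
          · rwa [Subgroup.zpowers_le]
          · rw [Nat.card_zpowers, hwo]; exact hW
        intro x hx
        rw [← hWz] at hx
        obtain ⟨k, rfl⟩ := Subgroup.mem_zpowers_iff.1 hx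
        have : Commute a w := hw a (Subgroup.mem_zpowers a)
        exact this.zpow_right k
    apply omegaZ_ne_bot D hD hD1
    apply CNFreeGroup.eq_bot_of_quadratic V D (N.comap (QuotientGroup.mk' D)) a hVc
    · intro r _
      rw [Subgroup.normalizer_eq_top]
      trivial
    · rw [Subgroup.normalizer_eq_top]
      trivial
    · intro d hd
      show (QuotientGroup.mk' D) d ∈ N
      have : (QuotientGroup.mk' D) d = 1 := (QuotientGroup.eq_one_iff d).2 hd
      rw [this]; exact N.one_mem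
    · intro d hd v hv
      exact (mem_omegaZ.1 hv).2.1 d hd
    · intro r hr s hs
      rw [← QuotientGroup.eq_one_iff]
      have h1 : (⟨_, hr⟩ : N) * ⟨_, hs⟩ = ⟨_, hs⟩ * ⟨_, hr⟩ := by
        exact (IsCyclic.isMulCommutative (α := N)).is_comm.comm _ _
      have := congrArg Subtype.val h1
      simp only [QuotientGroup.mk_mul, QuotientGroup.mk_inv]
      simp only [QuotientGroup.mk'_apply, Subgroup.coe_mul] at this
      rw [this]; group
    · intro r hr
      exact (hNn.comap (QuotientGroup.mk' D)).conj_mem r hr a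
    · refine ⟨h, ?_, ?_⟩
      · show (QuotientGroup.mk' D) h ∈ N
        rw [QuotientGroup.mk'_apply, hhn]; exact hn₀N
      · intro hmem
        apply haD
        refine no_comm_mod hCN D hD hD1 T hT hqp hh (hAT haA) ?_
        rw [← QuotientGroup.eq_one_iff] at hmem ⊢
        simp only [QuotientGroup.mk_mul, QuotientGroup.mk_inv] at hmem ⊢
        have h1 : (a : L ⧸ D) * h * (a : L ⧸ D)⁻¹ = h := mul_inv_eq_one.1 hmem
        have h2 : (a : L ⧸ D)⁻¹ * h * a = h := by
          calc (a : L ⧸ D)⁻¹ * h * a = (a : L ⧸ D)⁻¹ * ((a : L ⧸ D) * h * (a : L ⧸ D)⁻¹) * a := by rw [h1]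
            _ = h := by group
        rw [h2, mul_inv_cancel]
    · exact free_on_omegaZ hCN D hD T hT hqp N hNq
    · intro v hv hv2
      have h1 : orderOf v ∣ 2 := orderOf_dvd_of_pow_eq_one hv2
      have h2 : orderOf v ∣ Nat.card L := orderOf_dvd_natCard v
      have h3 : Nat.Coprime (Nat.card L) 2 := Nat.Coprime.symm (Nat.coprime_two_left.2 hodd)
      have h4 := Nat.dvd_gcd h2 h1
      rw [Nat.Coprime] at h3
      rw [h3, Nat.dvd_one, orderOf_eq_one_iff] at h4
      exact h4
    · intro v hv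
      exact hquad _ ⟨⟨v, hv⟩, rfl⟩
  · intro hTc
    apply hT
    have hTD : (T : Subgroup L) ≤ D := by
      intro y hy
      apply hker y hy
      have hcomm : ∀ f g : MulAut N, f * g = g * f := by
        intro f g
        apply (IsCyclic.mulAutMulEquiv N).injective
        rw [map_mul, map_mul, mul_comm]
      have h1 : commutator L ≤ φ.ker := by
        rw [_root_.commutator_def, Subgroup.commutator_le]
        intro a _ b _
        rw [MonoidHom.mem_ker, map_commutatorElement, commutatorElement_eq_one_iff_mul_comm]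
        exact hcomm _ _
      exact h1 (hTc hy)
    have : (T : Subgroup L) = D := le_antisymm hTD hDT
    rw [this]; exact hDn

end Cfsg.Agent.Characters.CNLocal
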