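import Cfsg.Agent.OddOrderLocal.CNMaxNilpotent

/-!
CN-groups all of whose Sylow subgroups are TI: maximal nilpotent subgroups are TI, contain the
centralizers of their non-identity elements, and are conjugate or of coprime orders (S1483 from the
Sylow-TI property).
-/

set_option autoImplicit false

namespace Cfsg.Agent.Characters.CNMaxNil

open Subgroup Cfsg.Agent.OddOrderLocal.CNNil Cfsg.Agent.OddOrderLocal.CNMaxNilpotent

variable {G : Type*} [Group G] [Finite G]

/-- `H` is a maximal nilpotent subgroup. -/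
def IsMaxNil {G : Type*} [Group G] (H : Subgroup G) : Prop :=
  Group.IsNilpotent H ∧ ∀ L : Subgroup G, Group.IsNilpotent L → H ≤ L → L = H

/-- All maximal nilpotent subgroups of `G` are TI. -/
def MaxNilTI (G : Type*) [Group G] : Prop :=
  ∀ H : Subgroup G, Group.IsNilpotent H →
    (∀ L : Subgroup G, Group.IsNilpotent L → H ≤ L → L = H) →
    ∀ g : G, H.map (MulAut.conj g).toMonoidHom ≠ H → H ⊓ H.map (MulAut.conj g).toMonoidHom = ⊥

theorem maxNilTI_def (G : Type*) [Group G] : MaxNilTI G ↔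
    ∀ H : Subgroup G, Group.IsNilpotent H →
      (∀ L : Subgroup G, Group.IsNilpotent L → H ≤ L → L = H) →
      ∀ g : G, H.map (MulAut.conj g).toMonoidHom ≠ H →
        H ⊓ H.map (MulAut.conj g).toMonoidHom = ⊥ := Iff.rfl

/-- A maximal nilpotent subgroup above a given nilpotent subgroup. -/
theorem exists_maxNil (A : Subgroup G) (hA : Group.IsNilpotent A) :
    ∃ H : Subgroup G, A ≤ H ∧ Group.IsNilpotent H ∧
      ∀ L : Subgroup G, Group.IsNilpotent L → H ≤ L → L = H := by
  obtain ⟨H, hAH, hH⟩ :=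
    Finite.exists_le_maximal (p := fun K : Subgroup G => Group.IsNilpotent K) hA
  exact ⟨H, hAH, hH.1, fun L hL hHL => le_antisymm (hH.2 hL hHL) hHL⟩

/-- If all Sylow subgroups are TI then all maximal nilpotent subgroups of a CN-group are TI. -/
theorem maxNilTI_of_sylow (hCN : Cfsg.IsCNGroup G)
    (hS : ∀ (p : ℕ) [Fact p.Prime] (P Q : Sylow p G), P ≠ Q →
      (P : Subgroup G) ⊓ (Q : Subgroup G) = ⊥) : MaxNilTI G := by
  intro H hH hmax g hg
  by_cases h1 : Nat.card H = 1
  · have : H = ⊥ := Subgroup.card_eq_one.1 h1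
    rw [this, bot_inf_eq]
  by_cases hpp : IsPrimePow (Nat.card H)
  · rw [isPrimePow_nat_iff] at hpp
    obtain ⟨p, k, hp, -, hk⟩ := hpp
    have := Fact.mk hp
    obtain ⟨P, hP⟩ := eq_sylow_of_isPGroup hmax (IsPGroup.of_card hk.symm)
    have h2 : (P : Subgroup G) ⊓ ((g • P : Sylow p G) : Subgroup G) = ⊥ := by
      refine hS p P (g • P) ?_
      intro h
      apply hg
      rw [← hP]
      have h3 : ((g • P : Sylow p G) : Subgroup G) = (P : Subgroup G) := by rw [← h]
      rw [Sylow.coe_subgroup_smul] at h3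
      exact h3
    rw [Sylow.coe_subgroup_smul] at h2
    rw [← hP]
    exact h2
  · exact inf_conj_eq_bot hCN hH hmax hpp h1 g hg

/-- Conjugates of maximal nilpotent subgroups are maximal nilpotent. -/
theorem maxNil_map_conj {H : Subgroup G} (hH : Group.IsNilpotent H)
    (hmax : ∀ L : Subgroup G, Group.IsNilpotent L → H ≤ L → L = H) (g : G) :
    Group.IsNilpotent (H.map (MulAut.conj g).toMonoidHom) ∧
      ∀ L : Subgroup G, Group.IsNilpotent L → H.map (MulAut.conj g).toMonoidHom ≤ L →
        L = H.map (MulAut.conj g).toMonoidHom := by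
  refine ⟨isNilpotent_map_conj hH g, fun L hL hle => ?_⟩
  have h1 : L.map (MulAut.conj g⁻¹).toMonoidHom = H := by
    refine hmax _ (isNilpotent_map_conj hL g⁻¹) ?_
    intro x hx
    rw [mem_map_conj]
    apply hle
    rw [mem_map_conj]
    simpa [mul_assoc] using hx
  ext x
  rw [mem_map_conj, ← h1, mem_map_conj]
  simp [mul_assoc]

/-- A maximal nilpotent subgroup that is TI contains the centralizers of its non-identity
elements. -/
theorem centralizer_le_of_maxNilTI (hCN : Cfsg.IsCNGroup G) (hT : MaxNilTI G) {H : Subgroup G}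
    (hH : Group.IsNilpotent H)
    (hmax : ∀ L : Subgroup G, Group.IsNilpotent L → H ≤ L → L = H) {x : G} (hx : x ∈ H)
    (hx1 : x ≠ 1) : centralizer ({x} : Set G) ≤ H :=
  centralizer_le hCN hH hmax (hT H hH hmax) x hx hx1

/-- Two maximal nilpotent subgroups with a non-trivial intersection are equal. -/
theorem eq_of_inf_ne_bot (hCN : Cfsg.IsCNGroup G) (hT : MaxNilTI G) {H K : Subgroup G}
    (hH : Group.IsNilpotent H) (hHmax : ∀ L : Subgroup G, Group.IsNilpotent L → H ≤ L → L = H)
    (hK : Group.IsNilpotent K) (hKmax : ∀ L : Subgroup G, Group.IsNilpotent L → K ≤ L → L = K)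
    {x : G} (hxH : x ∈ H) (hxK : x ∈ K) (hx1 : x ≠ 1) : H = K := by
  have : Nontrivial K := ⟨⟨⟨x, hxK⟩, 1, fun h => hx1 (congrArg Subtype.val h)⟩⟩
  obtain ⟨w, hw⟩ := Subgroup.ne_bot_iff_exists_ne_one.1 (Group.IsNilpotent.center_ne_bot (G := K))
  have hw1 : ((w : K) : G) ≠ 1 := fun h => hw (Subtype.ext (Subtype.ext h))
  have hwc : ∀ y ∈ K, y * ((w : K) : G) = ((w : K) : G) * y := fun y hy =>
    congrArg Subtype.val (mem_center_iff.1 w.2 ⟨y, hy⟩)
  have hwH : ((w : K) : G) ∈ H := by
    apply centralizer_le_of_maxNilTI hCN hT hH hHmax hxH hx1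
    rw [mem_centralizer_singleton_iff]
    exact (hwc x hxK).symm
  have hKH : K ≤ H := by
    intro y hy
    apply centralizer_le_of_maxNilTI hCN hT hH hHmax hwH hw1
    rw [mem_centralizer_singleton_iff]
    exact hwc y hy
  exact hKmax H hH hKH

/-- Two maximal nilpotent subgroups whose orders have a common prime divisor are conjugate. -/
theorem exists_conj_of_dvd (hCN : Cfsg.IsCNGroup G) (hT : MaxNilTI G) {H K : Subgroup G}
    (hH : Group.IsNilpotent H) (hHmax : ∀ L : Subgroup G, Group.IsNilpotent L → H ≤ L → L = H)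
    (hK : Group.IsNilpotent K) (hKmax : ∀ L : Subgroup G, Group.IsNilpotent L → K ≤ L → L = K)
    {p : ℕ} (hp : p.Prime) (hpH : p ∣ Nat.card H) (hpK : p ∣ Nat.card K) :
    ∃ g : G, K = H.map (MulAut.conj g).toMonoidHom := by
  have := Fact.mk hp
  -- the Sylow p-subgroup of `H` is a Sylow p-subgroup of `G`
  obtain ⟨Q⟩ := (inferInstance : Nonempty (Sylow p H))
  obtain ⟨P, hP⟩ := (Q.isPGroup'.map H.subtype).exists_le_sylow
  have hcop := coprime_index hCN hH hHmax
  have hQne : (Q : Subgroup H) ≠ ⊥ := Q.ne_bot_of_dvd_card hpH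
  -- |P| = |Q|
  have hPH : (P : Subgroup G) ≤ H := by
    have hcard : Nat.card P = Nat.card ((Q : Subgroup H).map H.subtype) := by
      rw [Subgroup.card_map_of_injective H.subtype_injective]
      rw [Sylow.card_eq_multiplicity, Sylow.card_eq_multiplicity]
      congr 1
      rw [← H.card_mul_index, Nat.factorization_mul Nat.card_pos.ne' H.index_ne_zero_of_finite]
      rw [Finsupp.add_apply]
      have h0 : (H.index).factorization p = 0 := by
        apply Nat.factorization_eq_zero_of_not_dvd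
        intro hd
        have := Nat.dvd_gcd hpH hd
        rw [hcop] at this
        exact hp.one_lt.ne' (Nat.dvd_one.1 this)
      rw [h0, add_zero]
    have heq : (Q : Subgroup H).map H.subtype = (P : Subgroup G) :=
      Subgroup.eq_of_le_of_card_ge hP hcard.le
    rw [← heq]
    exact Subgroup.map_subtype_le _
  -- an element of order p in K
  obtain ⟨z, hz⟩ := exists_prime_orderOf_dvd_card' (G := K) p hpK
  have hz1 : (z : G) ≠ 1 := by
    intro h
    have : z = 1 := Subtype.ext h
    rw [this, orderOf_one] at hz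
    exact hp.one_lt.ne hz
  have hzo : orderOf (z : G) = p ^ 1 := by rw [Subgroup.orderOf_coe, hz, pow_one]
  obtain ⟨R, hR⟩ := (isPGroup_zpowers hzo).exists_le_sylow
  obtain ⟨g, hg⟩ := MulAction.exists_smul_eq G P R
  refine ⟨g, ?_⟩
  have hzR : (z : G) ∈ (R : Subgroup G) := hR (mem_zpowers _)
  have hzg : (z : G) ∈ H.map (MulAut.conj g).toMonoidHom := by
    rw [← hg, Sylow.coe_subgroup_smul] at hzR
    obtain ⟨y, hy, hyz⟩ := hzR
    exact ⟨y, hPH hy, hyz⟩
  obtain ⟨h1, h2⟩ := maxNil_map_conj hH hHmax g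
  exact (eq_of_inf_ne_bot hCN hT h1 h2 hK hKmax hzg z.2 hz1).symm

/-- Two maximal nilpotent subgroups are conjugate or of coprime orders. -/
theorem conj_or_coprime (hCN : Cfsg.IsCNGroup G) (hT : MaxNilTI G) (H K : Subgroup G)
    (hH : Group.IsNilpotent H ∧ ∀ L : Subgroup G, Group.IsNilpotent L → H ≤ L → L = H)
    (hK : Group.IsNilpotent K ∧ ∀ L : Subgroup G, Group.IsNilpotent L → K ≤ L → L = K) :
    (∃ g : G, K = H.map (MulAut.conj g).toMonoidHom) ∨ (Nat.card H).Coprime (Nat.card K) := by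
  by_cases h : (Nat.card H).Coprime (Nat.card K)
  · exact Or.inr h
  · left
    rw [Nat.Prime.not_coprime_iff_dvd] at h
    obtain ⟨p, hp, h1, h2⟩ := h
    exact exists_conj_of_dvd hCN hT hH.1 hH.2 hK.1 hK.2 hp h1 h2

/-- The group generated by two commuting elements is nilpotent. -/
theorem exists_nilpotent_pair {x y : G} (h : x * y = y * x) :
    ∃ A : Subgroup G, Group.IsNilpotent A ∧ x ∈ A ∧ y ∈ A := by
  have hcomm : IsMulCommutative (Subgroup.closure ({x, y} : Set G)) := by
    refine Subgroup.isMulCommutative_closure ?_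
    intro a ha b hb
    rcases ha with rfl | ha <;> rcases hb with rfl | hb
    · rfl
    · rw [Set.mem_singleton_iff] at hb
      rw [hb, h]
    · rw [Set.mem_singleton_iff] at ha
      rw [ha, h]
    · rw [Set.mem_singleton_iff] at ha hb
      rw [ha, hb]
  refine ⟨Subgroup.closure ({x, y} : Set G), ?_, Subgroup.subset_closure (by simp),
    Subgroup.subset_closure (by simp)⟩
  let _ : CommGroup (Subgroup.closure ({x, y} : Set G)) :=
    { (inferInstance : Group (Subgroup.closure ({x, y} : Set G))) with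
      mul_comm := hcomm.is_comm.comm }
  exact CommGroup.isNilpotent

theorem orderOf_of_isPGroup_zpowers {p : ℕ} {x : G} (hx : x ≠ 1)
    (h : IsPGroup p (Subgroup.zpowers x)) (hp : p.Prime) : p ∣ orderOf x := by
  have := Fact.mk hp
  obtain ⟨k, hk⟩ := IsPGroup.iff_card.1 h
  rw [Nat.card_zpowers] at hk
  rcases Nat.eq_zero_or_pos k with h0 | h0
  · rw [h0, pow_zero, orderOf_eq_one_iff] at hk
    exact absurd hk hx
  · rw [hk]
    exact dvd_pow_self p h0.ne'

/-- The commuting relation on primes is transitive. -/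
theorem commuting_primes_trans (hCN : Cfsg.IsCNGroup G) (hT : MaxNilTI G)
    (p q r : ℕ) (hp : p.Prime) (hq : q.Prime) (hr : r.Prime) (x y y' z : G) (hx : x ≠ 1)
    (hy : y ≠ 1) (hy' : y' ≠ 1) (hz : z ≠ 1)
    (hxp : IsPGroup p (Subgroup.zpowers x)) (hyq : IsPGroup q (Subgroup.zpowers y))
    (hyq' : IsPGroup q (Subgroup.zpowers y')) (hzr : IsPGroup r (Subgroup.zpowers z))
    (hxy : x * y = y * x) (hyz : y' * z = z * y') :
    ∃ x' z' : G, x' ≠ 1 ∧ z' ≠ 1 ∧ IsPGroup p (Subgroup.zpowers x') ∧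
      IsPGroup r (Subgroup.zpowers z') ∧ x' * z' = z' * x' := by
  obtain ⟨A, hA, hxA, hyA⟩ := exists_nilpotent_pair hxy
  obtain ⟨B, hB, hyB, hzB⟩ := exists_nilpotent_pair hyz
  obtain ⟨H, hAH, hH, hHmax⟩ := exists_maxNil A hA
  obtain ⟨K, hBK, hK, hKmax⟩ := exists_maxNil B hB
  have hpH : p ∣ Nat.card H := (orderOf_of_isPGroup_zpowers hx hxp hp).trans
    (H.orderOf_dvd_natCard (hAH hxA))
  have hqH : q ∣ Nat.card H := (orderOf_of_isPGroup_zpowers hy hyq hq).trans
    (H.orderOf_dvd_natCard (hAH hyA))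
  have hqK : q ∣ Nat.card K := (orderOf_of_isPGroup_zpowers hy' hyq' hq).trans
    (K.orderOf_dvd_natCard (hBK hyB))
  have hrK : r ∣ Nat.card K := (orderOf_of_isPGroup_zpowers hz hzr hr).trans
    (K.orderOf_dvd_natCard (hBK hzB))
  obtain ⟨g, hg⟩ := exists_conj_of_dvd hCN hT hH hHmax hK hKmax hq hqH hqK
  have hpK : p ∣ Nat.card K := by
    rw [hg, Subgroup.card_map_of_injective (MulAut.conj g).injective]
    exact hpH
  obtain ⟨a, haK, hao, hac⟩ := exists_central_orderOf_subgroup hK hp hpK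
  obtain ⟨b, hbK, hbo, hbc⟩ := exists_central_orderOf_subgroup hK hr hrK
  refine ⟨a, b, ?_, ?_, isPGroup_zpowers (k := 1) (by rw [hao, pow_one]),
    isPGroup_zpowers (k := 1) (by rw [hbo, pow_one]), (hbc a haK).eq⟩
  · rintro rfl
    rw [orderOf_one] at hao
    exact hp.one_lt.ne hao
  · rintro rfl
    rw [orderOf_one] at hbo
    exact hr.one_lt.ne hbo

end Cfsg.Agent.Characters.CNMaxNil
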