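import Mathlib.RepresentationTheory.Character
import Cfsg.Prelude.Def_Characters

/-! Unfolding lemmas for the Prelude definitions (use these with `rw` instead of
`simp [Cfsg.classInner]`/`unfold`, which would generate duplicate equation lemmas). -/

set_option autoImplicit false

open scoped ComplexConjugate
open Cfsg

namespace Cfsg.Agent.Characters.Defs

theorem isCharacter_def {G : Type*} [Group G] (χ : G → ℂ) : IsCharacter G χ ↔
    ∃ (n : ℕ) (ρ : Representation ℂ G (Fin n → ℂ)), ρ.character = χ := Iff.rfl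

theorem isIrrCharacter_def {G : Type*} [Group G] (χ : G → ℂ) : IsIrrCharacter G χ ↔
    ∃ (n : ℕ) (ρ : Representation ℂ G (Fin n → ℂ)), ρ.IsIrreducible ∧ ρ.character = χ := Iff.rfl

theorem isGeneralizedCharacter_def {G : Type*} [Group G] (θ : G → ℂ) :
    IsGeneralizedCharacter G θ ↔
    ∃ (χ ψ : G → ℂ), IsCharacter G χ ∧ IsCharacter G ψ ∧ θ = χ - ψ := Iff.rfl

theorem isClassFunction_def {G : Type*} [Group G] (θ : G → ℂ) : IsClassFunction G θ ↔
    ∀ g h : G, θ (h * g * h⁻¹) = θ g := Iff.rfl

theorem classInner_def {G : Type*} [Group G] [Fintype G] (φ ψ : G → ℂ) :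
    classInner φ ψ = (Nat.card G : ℂ)⁻¹ * ∑ g : G, φ g * conj (ψ g) := rfl

theorem extendByZero_def {G : Type*} [Group G] (H : Subgroup G) (θ : H → ℂ) :
    extendByZero H θ = Function.extend (Subtype.val : H → G) θ 0 := rfl

theorem extendByZero_mem {G : Type*} [Group G] (H : Subgroup G) (θ : H → ℂ) (g : G) (hg : g ∈ H) :
    extendByZero H θ g = θ ⟨g, hg⟩ :=
  Function.Injective.extend_apply Subtype.val_injective θ 0 ⟨g, hg⟩

theorem extendByZero_coe {G : Type*} [Group G] (H : Subgroup G) (θ : H → ℂ) (g : H) :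
    extendByZero H θ (g : G) = θ g :=
  Function.Injective.extend_apply Subtype.val_injective θ 0 g

theorem extendByZero_notMem {G : Type*} [Group G] (H : Subgroup G) (θ : H → ℂ) (g : G)
    (hg : g ∉ H) : extendByZero H θ g = 0 :=
  Function.extend_apply' θ (0 : G → ℂ) g (fun ⟨a, ha⟩ => hg (ha ▸ a.2))

open Classical in
theorem extendByZero_eq_ite {G : Type*} [Group G] (H : Subgroup G) (θ : H → ℂ) (g : G) :
    extendByZero H θ g = if h : g ∈ H then θ ⟨g, h⟩ else 0 := by
  split_ifs with h
  · exact extendByZero_mem H θ g h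
  · exact extendByZero_notMem H θ g h

theorem indFun_def {G : Type*} [Group G] [Fintype G] (H : Subgroup G) (θ : H → ℂ) (g : G) :
    indFun H θ g = (Nat.card H : ℂ)⁻¹ * ∑ x : G, extendByZero H θ (x⁻¹ * g * x) := rfl

end Cfsg.Agent.Characters.Defs
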