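import Mathlib.RepresentationTheory.Character
import Mathlib.RepresentationTheory.Irreducible
import Mathlib.RepresentationTheory.Maschke
import Mathlib.Analysis.Complex.Basic
import Mathlib.Analysis.Complex.Polynomial.Basic

/-!
# Complex representations of a finite group with the same character are equivalent
-/

set_option autoImplicit false

open Representation Module

namespace Cfsg.Agent.Characters.EquivOfChar

universe u v w

variable {G : Type u} [Group G]

theorem character_prod {V W : Type*} [AddCommGroup V] [Module ℂ V] [FiniteDimensional ℂ V]
    [AddCommGroup W] [Module ℂ W] [FiniteDimensional ℂ W]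
    (ρ : Representation ℂ G V) (σ : Representation ℂ G W) :
    (ρ.prod σ).character = ρ.character + σ.character := by
  funext g
  exact LinearMap.trace_prodMap' (ρ g) (σ g)

theorem isCompl_toSubmodule {V : Type*} [AddCommGroup V] [Module ℂ V]
    {ρ : Representation ℂ G V} {S T : Subrepresentation ρ} (h : IsCompl S T) :
    IsCompl S.toSubmodule T.toSubmodule := by
  constructor
  · rw [disjoint_iff]
    have := disjoint_iff.1 h.1
    exact congrArg Subrepresentation.toSubmodule this
  · rw [codisjoint_iff]
    have := codisjoint_iff.1 h.2
    exact congrArg Subrepresentation.toSubmodule this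

theorem prod_equiv_of_isCompl {V : Type*} [AddCommGroup V] [Module ℂ V]
    {ρ : Representation ℂ G V} {S T : Subrepresentation ρ} (h : IsCompl S T) :
    Nonempty ((S.toRepresentation.prod T.toRepresentation).Equiv ρ) :=
  ⟨Representation.Equiv.mk (Submodule.prodEquivOfIsCompl _ _ (isCompl_toSubmodule h)) (by
    intro g
    ext x <;> simp [Representation.prod, Subrepresentation.toRepresentation])⟩

theorem prod_congr {V W V' W' : Type*} [AddCommGroup V] [Module ℂ V]
    [AddCommGroup W] [Module ℂ W] [AddCommGroup V'] [Module ℂ V']
    [AddCommGroup W'] [Module ℂ W']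
    {ρ : Representation ℂ G V} {σ : Representation ℂ G W}
    {ρ' : Representation ℂ G V'} {σ' : Representation ℂ G W'}
    (e : ρ.Equiv ρ') (f : σ.Equiv σ') : Nonempty ((ρ.prod σ).Equiv (ρ'.prod σ')) :=
  ⟨Representation.Equiv.mk (LinearEquiv.prodCongr e.toLinearEquiv f.toLinearEquiv) (by
    intro g
    ext x
    · exact e.toIntertwiningMap.isIntertwining ρ ρ' g x
    · simp [Representation.prod]
    · simp [Representation.prod]
    · exact f.toIntertwiningMap.isIntertwining σ σ' g x)⟩

theorem wellFoundedLT_subrep {V : Type*} [AddCommGroup V] [Module ℂ V] [FiniteDimensional ℂ V]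
    (ρ : Representation ℂ G V) : WellFoundedLT (Subrepresentation ρ) := by
  have h : StrictMono (Subrepresentation.toSubmodule : Subrepresentation ρ → Submodule ℂ V) := by
    intro S T hST
    exact hST
  exact h.wellFoundedLT

/-- An atom of the lattice of subrepresentations is an irreducible representation. -/
theorem isIrreducible_of_isAtom {V : Type*} [AddCommGroup V] [Module ℂ V]
    {ρ : Representation ℂ G V} {S : Subrepresentation ρ} (hS : IsAtom S) :
    S.toRepresentation.IsIrreducible := by
  have key : ∀ T : Subrepresentation S.toRepresentation, T = ⊥ ∨ T = ⊤ := by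
    intro T
    let T' : Subrepresentation ρ := ⟨T.toSubmodule.map S.toSubmodule.subtype, by
      rintro g v ⟨x, hx, rfl⟩
      exact ⟨S.toRepresentation g x, T.apply_mem_toSubmodule g hx, rfl⟩⟩
    have hle : T' ≤ S := by
      rintro v ⟨x, hx, rfl⟩
      exact x.2
    rcases hS.le_iff.1 hle with h | h
    · left
      apply Subrepresentation.toSubmodule_injective
      have h2 : T'.toSubmodule = ⊥ := congrArg Subrepresentation.toSubmodule h
      exact Submodule.map_injective_of_injective (f := S.toSubmodule.subtype)
        Subtype.val_injective (h2.trans (Submodule.map_bot _).symm)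
    · right
      apply Subrepresentation.toSubmodule_injective
      change T.toSubmodule = ⊤
      have h2 : T'.toSubmodule = S.toSubmodule := congrArg Subrepresentation.toSubmodule h
      rw [eq_top_iff]
      intro x _
      have hx : (x : V) ∈ T'.toSubmodule := by rw [h2]; exact x.2
      obtain ⟨y, hy, hyx⟩ := hx
      have : y = x := Subtype.ext hyx
      rwa [← this]
  have hne : (⊥ : Subrepresentation S.toRepresentation) ≠ ⊤ := by
    intro h
    apply hS.1
    apply Subrepresentation.toSubmodule_injective
    change S.toSubmodule = ⊥
    rw [Submodule.eq_bot_iff]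
    intro x hx
    have h1 : (⟨x, hx⟩ : S.toSubmodule) ∈ (⊥ : Subrepresentation S.toRepresentation).toSubmodule := by
      rw [h]; trivial
    have h2 : (⟨x, hx⟩ : S.toSubmodule) = 0 := h1
    exact congrArg Subtype.val h2
  exact { exists_pair_ne := ⟨⊥, ⊤, hne⟩, eq_bot_or_eq_top := key }

theorem exists_isAtom {V : Type*} [AddCommGroup V] [Module ℂ V] [FiniteDimensional ℂ V]
    (ρ : Representation ℂ G V) [Nontrivial V] : ∃ S : Subrepresentation ρ, IsAtom S := by
  have := wellFoundedLT_subrep ρ
  have : IsAtomic (Subrepresentation ρ) := isAtomic_of_orderBot_wellFounded_lt wellFounded_lt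
  have hne : (⊤ : Subrepresentation ρ) ≠ ⊥ := by
    intro h
    have : (⊤ : Submodule ℂ V) = ⊥ := congrArg Subrepresentation.toSubmodule h
    exact top_ne_bot this
  obtain ⟨S, hS, -⟩ := (IsAtomic.eq_bot_or_exists_atom_le (⊤ : Subrepresentation ρ)).resolve_left hne
  exact ⟨S, hS⟩

theorem finrank_intertwiningMap_eq [Finite G] {U V W : Type*} [AddCommGroup U] [Module ℂ U]
    [FiniteDimensional ℂ U]
    [AddCommGroup V] [Module ℂ V] [FiniteDimensional ℂ V]
    [AddCommGroup W] [Module ℂ W] [FiniteDimensional ℂ W]
    (τ : Representation ℂ G U) (ρ : Representation ℂ G V) (σ : Representation ℂ G W)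
    (h : ρ.character = σ.character) :
    finrank ℂ (IntertwiningMap τ ρ) = finrank ℂ (IntertwiningMap τ σ) := by
  have := Fintype.ofFinite G
  have : Invertible (Nat.card G : ℂ) := invertibleOfNonzero (by
    exact_mod_cast Nat.card_pos.ne')
  have h1 := card_inv_mul_sum_char_mul_char_eq_finrank τ ρ
  have h2 := card_inv_mul_sum_char_mul_char_eq_finrank τ σ
  rw [h] at h1
  rw [h1] at h2
  exact_mod_cast h2

/-- The inclusion of a subrepresentation. -/
def incl {V : Type*} [AddCommGroup V] [Module ℂ V]
    {ρ : Representation ℂ G V} (S : Subrepresentation ρ) :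
    IntertwiningMap S.toRepresentation ρ :=
  ⟨S.toSubmodule.subtype, fun _ => rfl⟩

theorem equiv_range {V W : Type*} [AddCommGroup V] [Module ℂ V] [AddCommGroup W] [Module ℂ W]
    {ρ : Representation ℂ G V} {σ : Representation ℂ G W} (f : IntertwiningMap ρ σ)
    (hf : Function.Injective f) : Nonempty (ρ.Equiv (IntertwiningMap.range ρ σ f).toRepresentation) :=
  ⟨Representation.Equiv.mk (LinearEquiv.ofInjective f.toLinearMap hf) (by
    intro g
    ext x
    exact f.isIntertwining ρ σ g x)⟩

theorem nonempty_equiv_aux [Finite G] (n : ℕ) : ∀ (V : Type v) (W : Type w)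
    [AddCommGroup V] [Module ℂ V] [FiniteDimensional ℂ V]
    [AddCommGroup W] [Module ℂ W] [FiniteDimensional ℂ W]
    (ρ : Representation ℂ G V) (σ : Representation ℂ G W),
    finrank ℂ V = n → ρ.character = σ.character → Nonempty (ρ.Equiv σ) := by
  induction n using Nat.strong_induction_on with
  | _ n ih =>
  intro V W _ _ _ _ _ _ ρ σ hn h
  have hfr : finrank ℂ V = finrank ℂ W := by
    have h1 := congrFun h 1
    rw [char_one, char_one] at h1
    exact_mod_cast h1
  rcases subsingleton_or_nontrivial V with hV | hV
  · have hV0 : finrank ℂ V = 0 := finrank_zero_of_subsingleton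
    have hW : Subsingleton W := finrank_zero_iff.1 (hfr.symm.trans hV0)
    exact ⟨Representation.Equiv.mk
      { (0 : V →ₗ[ℂ] W) with
        invFun := fun _ => 0
        left_inv := fun _ => Subsingleton.elim _ _
        right_inv := fun _ => Subsingleton.elim _ _ } (fun g => by
          ext x; exact Subsingleton.elim _ _)⟩
  · have := Fintype.ofFinite G
    obtain ⟨S, hS⟩ := exists_isAtom ρ
    have hirr : S.toRepresentation.IsIrreducible := isIrreducible_of_isAtom hS
    have : NeZero (Nat.card G : ℂ) := ⟨by exact_mod_cast Nat.card_pos.ne'⟩
    have hρss : IsSemisimpleRepresentation ρ := inferInstance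
    have hσss : IsSemisimpleRepresentation σ := inferInstance
    -- a nonzero map `S → σ`
    have hSne : Nontrivial S.toSubmodule := by
      by_contra hcon
      rw [not_nontrivial_iff_subsingleton] at hcon
      apply hS.1
      apply Subrepresentation.toSubmodule_injective
      exact (Submodule.subsingleton_iff_eq_bot).1 hcon
    have hincl : incl S ≠ 0 := by
      intro h0
      obtain ⟨x, hx⟩ := exists_ne (0 : S.toSubmodule)
      apply hx
      have : incl S x = 0 := by rw [h0]; rfl
      exact Subtype.ext this
    have : Nontrivial (IntertwiningMap S.toRepresentation ρ) := ⟨⟨_, _, hincl⟩⟩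
    have hpos : 0 < finrank ℂ (IntertwiningMap S.toRepresentation ρ) := finrank_pos
    rw [finrank_intertwiningMap_eq S.toRepresentation ρ σ h] at hpos
    have : Nontrivial (IntertwiningMap S.toRepresentation σ) := nontrivial_of_finrank_pos hpos
    obtain ⟨f, hf⟩ := exists_ne (0 : IntertwiningMap S.toRepresentation σ)
    have hfinj : Function.Injective f := (IsIrreducible.injective_or_eq_zero f).resolve_right hf
    obtain ⟨e⟩ := equiv_range f hfinj
    set T : Subrepresentation σ := IntertwiningMap.range _ _ f with hT
    obtain ⟨S', hSS'⟩ := exists_isCompl S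
    obtain ⟨T', hTT'⟩ := exists_isCompl T
    obtain ⟨eρ⟩ := prod_equiv_of_isCompl hSS'
    obtain ⟨eσ⟩ := prod_equiv_of_isCompl hTT'
    have hcρ : S.toRepresentation.character + S'.toRepresentation.character = ρ.character := by
      rw [← character_prod]; exact char_iso eρ
    have hcσ : T.toRepresentation.character + T'.toRepresentation.character = σ.character := by
      rw [← character_prod]; exact char_iso eσ
    have hcST : S.toRepresentation.character = T.toRepresentation.character := char_iso e
    have hc' : S'.toRepresentation.character = T'.toRepresentation.character := by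
      have : S.toRepresentation.character + S'.toRepresentation.character =
          T.toRepresentation.character + T'.toRepresentation.character := by
        rw [hcρ, hcσ, h]
      rw [hcST] at this
      exact add_left_cancel this
    have hlt : finrank ℂ S'.toSubmodule < n := by
      have h1 := LinearEquiv.finrank_eq eρ.toLinearEquiv
      rw [finrank_prod] at h1
      have h2 : 0 < finrank ℂ S.toSubmodule := finrank_pos
      omega
    obtain ⟨e'⟩ := ih _ hlt S'.toSubmodule T'.toSubmodule S'.toRepresentation
      T'.toRepresentation rfl hc'
    obtain ⟨e''⟩ := prod_congr e e'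
    exact ⟨(eρ.symm.trans e'').trans eσ⟩

/-- Complex representations of a finite group with equal characters are equivalent. -/
theorem nonempty_equiv_of_character_eq [Finite G] {V : Type v} {W : Type w}
    [AddCommGroup V] [Module ℂ V] [FiniteDimensional ℂ V]
    [AddCommGroup W] [Module ℂ W] [FiniteDimensional ℂ W]
    (ρ : Representation ℂ G V) (σ : Representation ℂ G W)
    (h : ρ.character = σ.character) : Nonempty (ρ.Equiv σ) :=
  nonempty_equiv_aux _ V W ρ σ rfl h

/-- Irreducibility passes along an equivalence of representations. -/
theorem isIrreducible_of_equiv {V W : Type*}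
    [AddCommGroup V] [Module ℂ V] [AddCommGroup W] [Module ℂ W]
    {ρ : Representation ℂ G V} {σ : Representation ℂ G W} (e : ρ.Equiv σ)
    (h : ρ.IsIrreducible) : σ.IsIrreducible := by
  let F : Subrepresentation σ ≃o Subrepresentation ρ :=
    { toFun := fun S => ⟨S.toSubmodule.comap e.toLinearEquiv.toLinearMap, by
        intro g v hv
        change e.toLinearEquiv (ρ g v) ∈ S.toSubmodule
        have : e.toLinearEquiv (ρ g v) = σ g (e.toLinearEquiv v) :=
          e.toIntertwiningMap.isIntertwining ρ σ g v
        rw [this]
        exact S.apply_mem_toSubmodule g hv⟩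
      invFun := fun S => ⟨S.toSubmodule.comap e.symm.toLinearEquiv.toLinearMap, by
        intro g v hv
        change e.symm.toLinearEquiv (σ g v) ∈ S.toSubmodule
        have : e.symm.toLinearEquiv (σ g v) = ρ g (e.symm.toLinearEquiv v) :=
          e.symm.toIntertwiningMap.isIntertwining σ ρ g v
        rw [this]
        exact S.apply_mem_toSubmodule g hv⟩
      left_inv := fun S => by
        apply Subrepresentation.toSubmodule_injective
        ext x
        change e (e.symm x) ∈ S.toSubmodule ↔ x ∈ S.toSubmodule
        rw [Representation.Equiv.apply_symm_apply]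
      right_inv := fun S => by
        apply Subrepresentation.toSubmodule_injective
        ext x
        change e.symm (e x) ∈ S.toSubmodule ↔ x ∈ S.toSubmodule
        rw [Representation.Equiv.symm_apply_apply]
      map_rel_iff' := by
        intro S T
        constructor
        · intro hST x hx
          have h1 : e.symm x ∈ S.toSubmodule.comap e.toLinearEquiv.toLinearMap := by
            change e (e.symm x) ∈ S.toSubmodule
            rw [Representation.Equiv.apply_symm_apply]; exact hx
          have h2 := hST h1
          change e (e.symm x) ∈ T.toSubmodule at h2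
          rwa [Representation.Equiv.apply_symm_apply] at h2
        · intro hST x hx
          exact hST hx }
  exact F.isSimpleOrder_iff.2 h

end Cfsg.Agent.Characters.EquivOfChar
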