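import Mathlib.NumberTheory.Zsqrtd.Basic
import Mathlib.Data.ZMod.Basic
import Mathlib.Data.Matrix.Basic
import Mathlib.Tactic

/-!
# The faithful two-dimensional complex representation of `GL(2,3)`, as a table

The 48 matrices with entries in `ℤ[√-2]`, indexed by the matrices over `ZMod 3`, and the finite
computations with the characters of `GL(2,3)` needed for the characterisation of the simple groups
with an involution centralizer `GL(2,3)`.
-/

set_option autoImplicit false

namespace Cfsg.Agent.Characters.GL23Table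

/-- the coefficient ring `ℤ[√-2]` -/
abbrev R := ℤ√(-2)

/-- decode a base 25 digit -/
def dec (n : ℕ) : R := ⟨((n / 5 : ℕ) : ℤ) - 2, ((n % 5 : ℕ) : ℤ) - 2⟩

/-- index of a matrix over `ZMod 3` -/
def idx (a b c d : ZMod 3) : ℕ := 27 * a.val + 9 * b.val + 3 * c.val + d.val

/-- entry `0 0` of the representation -/
def p (a b c d : ZMod 3) : R :=
  dec (86631989792877195174291730518988539575617593941688663420502657087211991888283635391530879267017155885696411132812 / 25 ^ idx a b c d % 25)

/-- entry `0 1` of the representation -/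
def q (a b c d : ZMod 3) : R :=
  dec (88208450403814810620707721105832938627818565022913843542397866707197951214454848852369653374606877565383911132812 / 25 ^ idx a b c d % 25)

/-- entry `1 0` of the representation -/
def r (a b c d : ZMod 3) : R :=
  dec (85746989044049268869425047755583345973383573047829728430270800498330500700310966192887459949317723512649536132812 / 25 ^ idx a b c d % 25)

/-- entry `1 1` of the representation -/
def s (a b c d : ZMod 3) : R :=
  dec (84435458028387639916063358223570711080808115425770313402837495974621536815723987059868701890620976686477661132812 / 25 ^ idx a b c d % 25)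

theorem pqrs_mul : ∀ a b c d a' b' c' d' : ZMod 3, a * d - b * c ≠ 0 → a' * d' - b' * c' ≠ 0 →
    p (a * a' + b * c') (a * b' + b * d') (c * a' + d * c') (c * b' + d * d') =
      p a b c d * p a' b' c' d' + q a b c d * r a' b' c' d' ∧
    q (a * a' + b * c') (a * b' + b * d') (c * a' + d * c') (c * b' + d * d') =
      p a b c d * q a' b' c' d' + q a b c d * s a' b' c' d' ∧
    r (a * a' + b * c') (a * b' + b * d') (c * a' + d * c') (c * b' + d * d') =
      r a b c d * p a' b' c' d' + s a b c d * r a' b' c' d' ∧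
    s (a * a' + b * c') (a * b' + b * d') (c * a' + d * c') (c * b' + d * d') =
      r a b c d * q a' b' c' d' + s a b c d * s a' b' c' d' := by
  decide +kernel

theorem pqrs_one : p 1 0 0 1 = 1 ∧ q 1 0 0 1 = 0 ∧ r 1 0 0 1 = 0 ∧ s 1 0 0 1 = 1 := by
  decide +kernel

/-- the character `ψ` -/
def psi (a b c d : ZMod 3) : R := p a b c d + s a b c d

/-- the sign of the determinant -/
def lam (a b c d : ZMod 3) : R := if a * d - b * c = 1 then 1 else -1

/-- the character of degree 3 `|ψ|² - 1` -/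
def c3' (x : R) : R := x * star x - 1
/-- the character of degree 4 -/
def c4 (x : R) : R := x * x * star x - 2 * x
/-- the character of degree 2 with the centre in its kernel -/
def c2 (x l : R) : R := x * c4 x - l * c3' x - c3' x

/-- the five generalized characters vanishing off the elements having `-1` as a power -/
def al (i : Fin 5) (x l : R) : R :=
  match i with
  | 0 => c2 x l - x
  | 1 => c2 x l - star x
  | 2 => 1 + c2 x l - l * c3' x
  | 3 => l + c2 x l - c3' x
  | 4 => c4 x - 1 - c3' x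

/-- the same as functions of a matrix -/
def alT (i : Fin 5) (a b c d : ZMod 3) : R := al i (psi a b c d) (lam a b c d)

/-- the Gram matrix -/
def gram (i j : Fin 5) : ℤ := (![![2,1,1,1,0], ![1,2,1,1,0], ![1,1,3,1,-1], ![1,1,1,3,1],
  ![0,0,-1,1,3]] : Fin 5 → Fin 5 → ℤ) i j

theorem gram_sum : ∀ i j : Fin 5,
    (∑ a : ZMod 3, ∑ b : ZMod 3, ∑ c : ZMod 3, ∑ d : ZMod 3,
      if a * d - b * c ≠ 0 then alT i a b c d * star (alT j a b c d) else 0) =
      ((48 * gram i j : ℤ) : R) := by
  decide +kernel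

theorem one_sum : ∀ i : Fin 5,
    (∑ a : ZMod 3, ∑ b : ZMod 3, ∑ c : ZMod 3, ∑ d : ZMod 3,
      if a * d - b * c ≠ 0 then alT i a b c d else 0) =
      ((48 * (![0,0,1,0,-1] : Fin 5 → ℤ) i : ℤ) : R) := by
  decide +kernel

/-- the weights -/
def wt (i : Fin 5) : ℤ := (![2,2,-3,1,-4] : Fin 5 → ℤ) i

theorem wt_sum : ∀ a b c d : ZMod 3, a * d - b * c ≠ 0 →
    ∑ i : Fin 5, ((wt i : ℤ) : R) * alT i a b c d =
      if a = -1 ∧ b = 0 ∧ c = 0 ∧ d = -1 then 48 else 0 := by
  decide +kernel

/-- `!![a,b;c,d]` is an involution -/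
def isInv (a b c d : ZMod 3) : Prop :=
  a * a + b * c = 1 ∧ a * b + b * d = 0 ∧ c * a + d * c = 0 ∧ c * b + d * d = 1 ∧
    ¬ (a = 1 ∧ b = 0 ∧ c = 0 ∧ d = 1)

instance isInv_decidable (a b c d : ZMod 3) : Decidable (isInv a b c d) :=
  inferInstanceAs (Decidable (_ ∧ _))

theorem inv_sum_two :
    (∑ a : ZMod 3, ∑ b : ZMod 3, ∑ c : ZMod 3, ∑ d : ZMod 3,
      if a * d - b * c ≠ 0 then (if isInv a b c d then
    (∑ a' : ZMod 3, ∑ b' : ZMod 3, ∑ c' : ZMod 3, ∑ d' : ZMod 3,
      if a' * d' - b' * c' ≠ 0 then (if isInv a' b' c' d' then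
        alT 2 (a * a' + b * c') (a * b' + b * d') (c * a' + d * c') (c * b' + d * d')
         else 0) else 0) else 0) else 0) = 96 := by
  decide +kernel

theorem inv_sum_four :
    (∑ a : ZMod 3, ∑ b : ZMod 3, ∑ c : ZMod 3, ∑ d : ZMod 3,
      if a * d - b * c ≠ 0 then (if isInv a b c d then
    (∑ a' : ZMod 3, ∑ b' : ZMod 3, ∑ c' : ZMod 3, ∑ d' : ZMod 3,
      if a' * d' - b' * c' ≠ 0 then (if isInv a' b' c' d' then
        alT 4 (a * a' + b * c') (a * b' + b * d') (c * a' + d * c') (c * b' + d * d')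
         else 0) else 0) else 0) else 0) = -192 := by
  decide +kernel

/-- An involution of determinant `1` is `-1`. -/
theorem isInv_det_one : ∀ a b c d : ZMod 3, isInv a b c d → a * d - b * c = 1 →
    a = -1 ∧ b = 0 ∧ c = 0 ∧ d = -1 := by
  decide +kernel

/-- A central involution is `-1`. -/
theorem isInv_central : ∀ a b c d : ZMod 3, isInv a b c d →
    a * 1 + b * 0 = 1 * a + 1 * c → a * 1 + b * 1 = 1 * b + 1 * d → 
    c * 1 + d * 0 = 0 * a + 1 * c → c * 1 + d * 1 = 0 * b + 1 * d →
    a * 1 + b * 1 = 1 * a + 0 * c → a * 0 + b * 1 = 1 * b + 0 * d → 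
    c * 1 + d * 1 = 1 * a + 1 * c → c * 0 + d * 1 = 1 * b + 1 * d →
    a = -1 ∧ b = 0 ∧ c = 0 ∧ d = -1 := by
  decide +kernel

/-- The centralizer of a noncentral involution has order `4`. -/
theorem isInv_centralizer : ∀ a b c d : ZMod 3, isInv a b c d →
    ¬ (a = -1 ∧ b = 0 ∧ c = 0 ∧ d = -1) →
    (∑ a' : ZMod 3, ∑ b' : ZMod 3, ∑ c' : ZMod 3, ∑ d' : ZMod 3,
      if a' * d' - b' * c' ≠ 0 ∧ 
        (a * a' + b * c' = a' * a + b' * c ∧ a * b' + b * d' = a' * b + b' * d ∧
         c * a' + d * c' = c' * a + d' * c ∧ c * b' + d * d' = c' * b + d' * d) then (1 : ℕ)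
         else 0) = 4 := by
  decide +kernel

/-- product of two matrices given by their entries -/
def mul4 (x y : ZMod 3 × ZMod 3 × ZMod 3 × ZMod 3) : ZMod 3 × ZMod 3 × ZMod 3 × ZMod 3 :=
  (x.1 * y.1 + x.2.1 * y.2.2.1, x.1 * y.2.1 + x.2.1 * y.2.2.2,
    x.2.2.1 * y.1 + x.2.2.2 * y.2.2.1, x.2.2.1 * y.2.1 + x.2.2.2 * y.2.2.2)

theorem alT_support : ∀ (i : Fin 5) (a b c d : ZMod 3), a * d - b * c ≠ 0 → alT i a b c d ≠ 0 →
    (a, b, c, d) = (-1, 0, 0, -1) ∨ mul4 (a, b, c, d) (a, b, c, d) = (-1, 0, 0, -1) ∨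
    mul4 (a, b, c, d) (mul4 (a, b, c, d) (a, b, c, d)) = (-1, 0, 0, -1) ∨
    mul4 (mul4 (a, b, c, d) (a, b, c, d)) (mul4 (a, b, c, d) (a, b, c, d)) = (-1, 0, 0, -1) := by
  decide +kernel

end Cfsg.Agent.Characters.GL23Table
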