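import Mathlib
import Cfsg.Prelude.Def_Characters
import Cfsg.Agent.Characters.GL23Table
import Cfsg.Agent.Characters.Core

/-!
# The group `GL(2,3)`: characters and involutions
-/

set_option autoImplicit false

open Cfsg

namespace Cfsg.Agent.Characters.GL23

open Cfsg.Agent.Characters.GL23Table Cfsg.Agent.Characters
open scoped ComplexConjugate

/-- the group `GL(2,3)` -/
abbrev Grp := Matrix.GeneralLinearGroup (Fin 2) (ZMod 3)

/-- the entries of a matrix -/
def ent (g : Grp) : ZMod 3 × ZMod 3 × ZMod 3 × ZMod 3 :=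
  (g 0 0, g 0 1, g 1 0, g 1 1)

theorem ent_injective : Function.Injective ent := by
  intro g h hgh
  have h1 := congrArg (fun x => x.1) hgh
  have h2 := congrArg (fun x => x.2.1) hgh
  have h3 := congrArg (fun x => x.2.2.1) hgh
  have h4 := congrArg (fun x => x.2.2.2) hgh
  simp only [ent] at h1 h2 h3 h4
  rw [Matrix.GeneralLinearGroup.ext_iff]
  intro i j
  fin_cases i <;> fin_cases j
  · exact h1
  · exact h2
  · exact h3
  · exact h4

theorem ent_mul (g h : Grp) : ent (g * h) = mul4 (ent g) (ent h) := by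
  simp only [ent, mul4, Units.val_mul, Matrix.mul_apply, Fin.sum_univ_two]

theorem ent_one : ent 1 = (1, 0, 0, 1) := by
  simp [ent]

theorem ent_neg_one : ent (-1) = (-1, 0, 0, -1) := by
  simp [ent]

theorem det_ne (g : Grp) : g 0 0 * g 1 1 - g 0 1 * g 1 0 ≠ 0 := by
  have h : (g : Matrix (Fin 2) (Fin 2) (ZMod 3)).det ≠ 0 := Matrix.GeneralLinearGroup.det_ne_zero g
  rwa [Matrix.det_fin_two] at h

/-- the group `GL(2,3)` as a set of quadruples -/
noncomputable def equivQuad : Grp ≃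
    {m : ZMod 3 × ZMod 3 × ZMod 3 × ZMod 3 // m.1 * m.2.2.2 - m.2.1 * m.2.2.1 ≠ 0} where
  toFun g := ⟨ent g, det_ne g⟩
  invFun m := Matrix.GeneralLinearGroup.mkOfDetNeZero !![m.1.1, m.1.2.1; m.1.2.2.1, m.1.2.2.2]
    (by rw [Matrix.det_fin_two]; exact m.2)
  left_inv g := by
    apply ent_injective
    rfl
  right_inv m := by
    apply Subtype.ext
    rfl

theorem sum_eq {A : Type*} [AddCommMonoid A] [Fintype Grp]
    (f : ZMod 3 → ZMod 3 → ZMod 3 → ZMod 3 → A) :
    ∑ g : Grp, f (g 0 0) (g 0 1) (g 1 0) (g 1 1) =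
    ∑ a : ZMod 3, ∑ b : ZMod 3, ∑ c : ZMod 3, ∑ d : ZMod 3,
      if a * d - b * c ≠ 0 then f a b c d else 0 := by
  classical
  have h1 : ∑ a : ZMod 3, ∑ b : ZMod 3, ∑ c : ZMod 3, ∑ d : ZMod 3,
      (if a * d - b * c ≠ 0 then f a b c d else 0) =
      ∑ m : ZMod 3 × ZMod 3 × ZMod 3 × ZMod 3,
        if m.1 * m.2.2.2 - m.2.1 * m.2.2.1 ≠ 0 then f m.1 m.2.1 m.2.2.1 m.2.2.2 else 0 := by
    rw [Fintype.sum_prod_type]
    refine Finset.sum_congr rfl fun a _ => ?_
    rw [Fintype.sum_prod_type]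
    refine Finset.sum_congr rfl fun b _ => ?_
    rw [Fintype.sum_prod_type]
  rw [h1, ← Finset.sum_filter]
  have h2 : ∀ m : ZMod 3 × ZMod 3 × ZMod 3 × ZMod 3,
      m ∈ Finset.univ.filter (fun m : ZMod 3 × ZMod 3 × ZMod 3 × ZMod 3 =>
        m.1 * m.2.2.2 - m.2.1 * m.2.2.1 ≠ 0) ↔ m.1 * m.2.2.2 - m.2.1 * m.2.2.1 ≠ 0 := by
    intro m; simp
  rw [Finset.sum_subtype (p := fun m : ZMod 3 × ZMod 3 × ZMod 3 × ZMod 3 =>
        m.1 * m.2.2.2 - m.2.1 * m.2.2.1 ≠ 0) _ (fun m => h2 m)
      (fun m : ZMod 3 × ZMod 3 × ZMod 3 × ZMod 3 => f m.1 m.2.1 m.2.2.1 m.2.2.2)]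
  exact Fintype.sum_equiv equivQuad _ _ (fun g => rfl)

/-! ### Characters -/

/-- The trace function of a matrix representation is a character. -/
theorem isCharacter_trace {G : Type*} [Group G] {n : ℕ} (M : G →* Matrix (Fin n) (Fin n) ℂ) :
    IsCharacter G (fun g => (M g).trace) := by
  refine ⟨n, (Matrix.toLinAlgEquiv' (R := ℂ) (n := Fin n)).toAlgHom.toMonoidHom.comp M, ?_⟩
  funext g
  exact Matrix.trace_toLin'_eq (M g)

/-- `i √2` -/
noncomputable def sqrtNegTwo : ℂ := Complex.I * (Real.sqrt 2 : ℝ)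

theorem sqrtNegTwo_mul_self : sqrtNegTwo * sqrtNegTwo = ((-2 : ℤ) : ℂ) := by
  have h : ((Real.sqrt 2 : ℝ) : ℂ) * ((Real.sqrt 2 : ℝ) : ℂ) = 2 := by
    rw [← Complex.ofReal_mul, Real.mul_self_sqrt (by norm_num)]
    norm_num
  calc sqrtNegTwo * sqrtNegTwo
      = (Complex.I * Complex.I) * (((Real.sqrt 2 : ℝ) : ℂ) * ((Real.sqrt 2 : ℝ) : ℂ)) := by
        unfold sqrtNegTwo; ring
    _ = _ := by rw [h, Complex.I_mul_I]; push_cast; ring

/-- the embedding of `ℤ[√-2]` into `ℂ` -/
noncomputable def emb : R →+* ℂ := Zsqrtd.lift ⟨sqrtNegTwo, sqrtNegTwo_mul_self⟩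

theorem emb_apply (x : R) : emb x = x.re + x.im * sqrtNegTwo := rfl

theorem emb_star (x : R) : emb (star x) = conj (emb x) := by
  rw [emb_apply, emb_apply, map_add, map_mul]
  have h : conj sqrtNegTwo = -sqrtNegTwo := by
    unfold sqrtNegTwo
    rw [map_mul, Complex.conj_I, Complex.conj_ofReal]
    ring
  rw [h, map_intCast, map_intCast, Zsqrtd.re_star, Zsqrtd.im_star]
  push_cast
  ring

/-- the two-dimensional representation -/
def rep : Grp →* Matrix (Fin 2) (Fin 2) R where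
  toFun g := !![p (g 0 0) (g 0 1) (g 1 0) (g 1 1), q (g 0 0) (g 0 1) (g 1 0) (g 1 1);
                r (g 0 0) (g 0 1) (g 1 0) (g 1 1), s (g 0 0) (g 0 1) (g 1 0) (g 1 1)]
  map_one' := by
    obtain ⟨h1, h2, h3, h4⟩ := pqrs_one
    have e := ent_one
    simp only [ent, Prod.mk.injEq] at e
    obtain ⟨e1, e2, e3, e4⟩ := e
    rw [e1, e2, e3, e4, h1, h2, h3, h4, Matrix.one_fin_two]
  map_mul' g h := by
    have hm := pqrs_mul (g 0 0) (g 0 1) (g 1 0) (g 1 1) (h 0 0) (h 0 1) (h 1 0) (h 1 1)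
      (det_ne g) (det_ne h)
    have e := ent_mul g h
    simp only [ent, mul4, Prod.mk.injEq] at e
    obtain ⟨e1, e2, e3, e4⟩ := e
    rw [Matrix.mul_fin_two, e1, e2, e3, e4, hm.1, hm.2.1, hm.2.2.1, hm.2.2.2]

/-- the value of `ψ` -/
def psiG (g : Grp) : R := psi (g 0 0) (g 0 1) (g 1 0) (g 1 1)

/-- the sign of the determinant -/
def lamG (g : Grp) : R := lam (g 0 0) (g 0 1) (g 1 0) (g 1 1)

theorem isCharacter_psi : IsCharacter Grp (fun g => emb (psiG g)) := by
  have h := isCharacter_trace (((emb.mapMatrix : Matrix (Fin 2) (Fin 2) R →+* _) :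
    Matrix (Fin 2) (Fin 2) R →* Matrix (Fin 2) (Fin 2) ℂ).comp rep)
  convert h using 2 with g
  change _ = Matrix.trace ((rep g).map emb)
  rw [Matrix.trace_fin_two]
  change emb (p _ _ _ _ + s _ _ _ _) = _
  rw [map_add]
  rfl

theorem isCharacter_psi_star : IsCharacter Grp (fun g => emb (star (psiG g))) := by
  have h := isCharacter_trace ((((starRingEnd ℂ).mapMatrix.comp
    (emb.mapMatrix : Matrix (Fin 2) (Fin 2) R →+* _) : Matrix (Fin 2) (Fin 2) R →+* _) :
    Matrix (Fin 2) (Fin 2) R →* Matrix (Fin 2) (Fin 2) ℂ).comp rep)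
  convert h using 2 with g
  change _ = Matrix.trace (((rep g).map emb).map (starRingEnd ℂ))
  rw [emb_star, Matrix.trace_fin_two]
  change conj (emb (p _ _ _ _ + s _ _ _ _)) = _
  rw [map_add, map_add]
  rfl

theorem lamG_mul (g h : Grp) : lamG (g * h) = lamG g * lamG h := by
  have key : ∀ x y : ZMod 3, x ≠ 0 → y ≠ 0 →
      (if x * y = 1 then (1 : R) else -1) = (if x = 1 then 1 else -1) * (if y = 1 then 1 else -1) := by
    decide +kernel
  have h1 := key _ _ (det_ne g) (det_ne h)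
  have e := ent_mul g h
  simp only [ent, mul4, Prod.mk.injEq] at e
  obtain ⟨e1, e2, e3, e4⟩ := e
  change lam _ _ _ _ = lam _ _ _ _ * lam _ _ _ _
  rw [e1, e2, e3, e4]
  change (if _ = (1 : ZMod 3) then (1 : R) else -1) = (if _ = (1 : ZMod 3) then (1 : R) else -1) *
    (if _ = (1 : ZMod 3) then (1 : R) else -1)
  rw [← h1]
  congr 2
  ring

theorem lamG_one : lamG 1 = 1 := by
  have e := ent_one
  simp only [ent, Prod.mk.injEq] at e
  obtain ⟨e1, e2, e3, e4⟩ := e
  change lam _ _ _ _ = 1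
  rw [e1, e2, e3, e4]
  decide +kernel

/-- the sign of the determinant as a homomorphism -/
def lamHom : Grp →* R where
  toFun := lamG
  map_one' := lamG_one
  map_mul' := lamG_mul

theorem isCharacter_lam : IsCharacter Grp (fun g => emb (lamG g)) := by
  have h := isCharacter_trace ((((Matrix.scalar (Fin 1) : ℂ →+* Matrix (Fin 1) (Fin 1) ℂ).comp
    emb : R →+* _) : R →* Matrix (Fin 1) (Fin 1) ℂ).comp lamHom)
  convert h using 2 with g
  change _ = Matrix.trace (Matrix.scalar (Fin 1) (emb (lamG g)))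
  simp [Matrix.trace]

/-! ### Generalized characters -/

theorem gen_of_char {G : Type*} [Group G] {χ : G → ℂ} (h : IsCharacter G χ) :
    IsGeneralizedCharacter G χ :=
  ⟨χ, 0, h, Core.isCharacter_zero, by simp⟩

theorem gen_add {G : Type*} [Group G] {χ ψ : G → ℂ} (h : IsGeneralizedCharacter G χ)
    (h' : IsGeneralizedCharacter G ψ) : IsGeneralizedCharacter G (χ + ψ) := by
  obtain ⟨a, b, ha, hb, rfl⟩ := h
  obtain ⟨c, d, hc, hd, rfl⟩ := h'
  exact ⟨a + c, b + d, Core.isCharacter_add ha hc, Core.isCharacter_add hb hd, by ring⟩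

theorem gen_neg {G : Type*} [Group G] {χ : G → ℂ} (h : IsGeneralizedCharacter G χ) :
    IsGeneralizedCharacter G (-χ) := by
  obtain ⟨a, b, ha, hb, rfl⟩ := h
  exact ⟨b, a, hb, ha, by ring⟩

theorem gen_sub {G : Type*} [Group G] {χ ψ : G → ℂ} (h : IsGeneralizedCharacter G χ)
    (h' : IsGeneralizedCharacter G ψ) : IsGeneralizedCharacter G (χ - ψ) := by
  rw [sub_eq_add_neg]
  exact gen_add h (gen_neg h')

theorem gen_mul {G : Type*} [Group G] {χ ψ : G → ℂ} (h : IsGeneralizedCharacter G χ)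
    (h' : IsGeneralizedCharacter G ψ) : IsGeneralizedCharacter G (χ * ψ) := by
  obtain ⟨a, b, ha, hb, rfl⟩ := h
  obtain ⟨c, d, hc, hd, rfl⟩ := h'
  exact ⟨a * c + b * d, a * d + b * c,
    Core.isCharacter_add (Core.isCharacter_mul ha hc) (Core.isCharacter_mul hb hd),
    Core.isCharacter_add (Core.isCharacter_mul ha hd) (Core.isCharacter_mul hb hc), by ring⟩

/-- the five generalized characters -/
def alG (i : Fin 5) (g : Grp) : R := alT i (g 0 0) (g 0 1) (g 1 0) (g 1 1)

theorem alG_eq (i : Fin 5) (g : Grp) : alG i g = al i (psiG g) (lamG g) := rfl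

theorem isGen_alG (i : Fin 5) : IsGeneralizedCharacter Grp (fun g => emb (alG i g)) := by
  have h1 : IsGeneralizedCharacter Grp (fun g => emb (psiG g)) := gen_of_char isCharacter_psi
  have h2 : IsGeneralizedCharacter Grp (fun g => emb (star (psiG g))) :=
    gen_of_char isCharacter_psi_star
  have h3 : IsGeneralizedCharacter Grp (fun g => emb (lamG g)) := gen_of_char isCharacter_lam
  have h0 : IsGeneralizedCharacter Grp (1 : Grp → ℂ) := gen_of_char Core.isCharacter_one
  have hc3 : IsGeneralizedCharacter Grp (fun g => emb (c3' (psiG g))) := by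
    have : (fun g => emb (c3' (psiG g))) =
        (fun g => emb (psiG g)) * (fun g => emb (star (psiG g))) - 1 := by
      funext g
      simp only [c3', map_sub, map_mul, map_one, Pi.sub_apply, Pi.mul_apply, Pi.one_apply]
    rw [this]
    exact gen_sub (gen_mul h1 h2) h0
  have hc4 : IsGeneralizedCharacter Grp (fun g => emb (c4 (psiG g))) := by
    have : (fun g => emb (c4 (psiG g))) =
        (fun g => emb (psiG g)) * (fun g => emb (psiG g)) * (fun g => emb (star (psiG g))) -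
        (1 + 1) * (fun g => emb (psiG g)) := by
      funext g
      simp only [c4, map_sub, map_mul, map_ofNat, Pi.sub_apply, Pi.mul_apply, Pi.one_apply,
        Pi.add_apply]
      norm_num
    rw [this]
    exact gen_sub (gen_mul (gen_mul h1 h1) h2) (gen_mul (gen_add h0 h0) h1)
  have hc2 : IsGeneralizedCharacter Grp (fun g => emb (c2 (psiG g) (lamG g))) := by
    have : (fun g => emb (c2 (psiG g) (lamG g))) =
        (fun g => emb (psiG g)) * (fun g => emb (c4 (psiG g))) -
        (fun g => emb (lamG g)) * (fun g => emb (c3' (psiG g))) -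
        (fun g => emb (c3' (psiG g))) := by
      funext g
      simp only [c2, map_sub, map_mul, Pi.sub_apply, Pi.mul_apply]
    rw [this]
    exact gen_sub (gen_sub (gen_mul h1 hc4) (gen_mul h3 hc3)) hc3
  fin_cases i
  · have : (fun g => emb (alG 0 g)) =
        (fun g => emb (c2 (psiG g) (lamG g))) - (fun g => emb (psiG g)) := by
      funext g
      rw [alG_eq, Pi.sub_apply, ← map_sub]
      rfl
    exact this ▸ gen_sub hc2 h1
  · have : (fun g => emb (alG 1 g)) =
        (fun g => emb (c2 (psiG g) (lamG g))) - (fun g => emb (star (psiG g))) := by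
      funext g
      rw [alG_eq, Pi.sub_apply, ← map_sub]
      rfl
    exact this ▸ gen_sub hc2 h2
  · have : (fun g => emb (alG 2 g)) =
        1 + (fun g => emb (c2 (psiG g) (lamG g))) -
        (fun g => emb (lamG g)) * (fun g => emb (c3' (psiG g))) := by
      funext g
      rw [alG_eq, Pi.sub_apply, Pi.add_apply, Pi.mul_apply, Pi.one_apply, ← map_mul,
        ← map_one emb, ← map_add, ← map_sub]
      rfl
    exact this ▸ gen_sub (gen_add h0 hc2) (gen_mul h3 hc3)
  · have : (fun g => emb (alG 3 g)) =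
        (fun g => emb (lamG g)) + (fun g => emb (c2 (psiG g) (lamG g))) -
        (fun g => emb (c3' (psiG g))) := by
      funext g
      rw [alG_eq, Pi.sub_apply, Pi.add_apply, ← map_add, ← map_sub]
      rfl
    exact this ▸ gen_sub (gen_add h3 hc2) hc3
  · have : (fun g => emb (alG 4 g)) =
        (fun g => emb (c4 (psiG g))) - 1 - (fun g => emb (c3' (psiG g))) := by
      funext g
      rw [alG_eq, Pi.sub_apply, Pi.sub_apply, Pi.one_apply, ← map_one emb, ← map_sub, ← map_sub]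
      rfl
    exact this ▸ gen_sub (gen_sub hc4 h0) hc3

/-! ### Computations -/

theorem card_Grp [Fintype Grp] : Fintype.card Grp = 48 := by
  have h := sum_eq (A := ℕ) (fun _ _ _ _ => 1)
  have h' : ∑ a : ZMod 3, ∑ b : ZMod 3, ∑ c : ZMod 3, ∑ d : ZMod 3,
      (if a * d - b * c ≠ 0 then 1 else 0) = 48 := by
    decide +kernel
  rw [h', Finset.sum_const, Finset.card_univ, smul_eq_mul, mul_one] at h
  exact h

theorem natCard_Grp : Nat.card Grp = 48 := by
  classical
  have : Fintype Grp := Fintype.ofEquiv _ equivQuad.symm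
  rw [Nat.card_eq_fintype_card, card_Grp]

theorem classInner_alG [Fintype Grp] (i j : Fin 5) :
    classInner (fun g : Grp => emb (alG i g)) (fun g : Grp => emb (alG j g)) = gram i j := by
  have h := sum_eq (A := R) (fun a b c d => alT i a b c d * star (alT j a b c d))
  rw [gram_sum i j] at h
  have h2 := congrArg emb h
  rw [map_sum, map_intCast] at h2
  have h3 : ∑ g : Grp, emb (alG i g) * conj (emb (alG j g)) = ((48 * gram i j : ℤ) : ℂ) := by
    rw [← h2]
    refine Finset.sum_congr rfl fun g _ => ?_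
    rw [map_mul, emb_star]
    rfl
  rw [Core.classInner_def, h3, natCard_Grp]
  push_cast
  field_simp

theorem classInner_alG_one [Fintype Grp] (i : Fin 5) :
    classInner (fun g : Grp => emb (alG i g)) 1 = ((![0,0,1,0,-1] : Fin 5 → ℤ) i : ℤ) := by
  have h := sum_eq (A := R) (fun a b c d => alT i a b c d)
  rw [one_sum i] at h
  have h2 := congrArg emb h
  rw [map_sum, map_intCast] at h2
  have h3 : ∑ g : Grp, emb (alG i g) * conj ((1 : Grp → ℂ) g) =
      ((48 * (![0,0,1,0,-1] : Fin 5 → ℤ) i : ℤ) : ℂ) := by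
    rw [← h2]
    refine Finset.sum_congr rfl fun g _ => ?_
    rw [Pi.one_apply, map_one, mul_one]
    rfl
  rw [Core.classInner_def, h3, natCard_Grp]
  push_cast
  field_simp

theorem eq_neg_one_iff (g : Grp) : g = -1 ↔ ent g = (-1, 0, 0, -1) := by
  rw [← ent_neg_one]
  exact ent_injective.eq_iff.symm

theorem alG_support (i : Fin 5) (g : Grp) (h : alG i g ≠ 0) : ∃ k : ℕ, g ^ k = -1 := by
  have h1 := alT_support i (g 0 0) (g 0 1) (g 1 0) (g 1 1) (det_ne g) h
  change ent g = _ ∨ mul4 (ent g) (ent g) = _ ∨ mul4 (ent g) (mul4 (ent g) (ent g)) = _ ∨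
    mul4 (mul4 (ent g) (ent g)) (mul4 (ent g) (ent g)) = _ at h1
  rw [← ent_mul, ← ent_mul, ← ent_mul, ← eq_neg_one_iff, ← eq_neg_one_iff, ← eq_neg_one_iff,
    ← eq_neg_one_iff] at h1
  rcases h1 with h1 | h1 | h1 | h1
  · exact ⟨1, by rw [pow_one, h1]⟩
  · exact ⟨2, by rw [pow_two, h1]⟩
  · exact ⟨3, by rw [pow_succ', pow_two, h1]⟩
  · exact ⟨4, by rw [show 4 = 2 + 2 from rfl, pow_add, pow_two, h1]⟩

theorem wt_sum_alG (g : Grp) :
    ∑ i : Fin 5, ((wt i : ℤ) : ℂ) * emb (alG i g) = if g = -1 then 48 else 0 := by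
  have h := wt_sum (g 0 0) (g 0 1) (g 1 0) (g 1 1) (det_ne g)
  have h2 := congrArg emb h
  rw [map_sum] at h2
  have h3 : ∑ i : Fin 5, ((wt i : ℤ) : ℂ) * emb (alG i g) =
      ∑ x : Fin 5, emb (((wt x : ℤ) : R) * alT x (g 0 0) (g 0 1) (g 1 0) (g 1 1)) := by
    refine Finset.sum_congr rfl fun i _ => ?_
    rw [map_mul, map_intCast]
    rfl
  rw [h3, h2]
  have h4 : (g 0 0 = -1 ∧ g 0 1 = 0 ∧ g 1 0 = 0 ∧ g 1 1 = -1) ↔ g = -1 := by
    rw [eq_neg_one_iff]
    simp only [ent, Prod.mk.injEq]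
  by_cases hg : g = -1
  · rw [if_pos hg, if_pos (h4.mpr hg), map_ofNat]
  · rw [if_neg hg, if_neg (fun hh => hg (h4.mp hh)), map_zero]

theorem isInv_iff (g : Grp) : isInv (g 0 0) (g 0 1) (g 1 0) (g 1 1) ↔ orderOf g = 2 := by
  have h1 : g * g = 1 ↔ mul4 (ent g) (ent g) = (1, 0, 0, 1) := by
    rw [← ent_mul, ← ent_one]
    exact ent_injective.eq_iff.symm
  have h2 : g = 1 ↔ ent g = (1, 0, 0, 1) := by
    rw [← ent_one]
    exact ent_injective.eq_iff.symm
  rw [orderOf_eq_prime_iff (p := 2), pow_two, ne_eq, h1, h2]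
  simp only [ent, mul4, isInv, Prod.mk.injEq]
  tauto

open scoped Classical in
theorem inv_sum_alG [Fintype Grp] (i : Fin 5) :
    ∑ x : Grp, ∑ y : Grp, (if orderOf x = 2 ∧ orderOf y = 2 then emb (alG i (x * y)) else 0) =
    emb (∑ a : ZMod 3, ∑ b : ZMod 3, ∑ c : ZMod 3, ∑ d : ZMod 3,
      if a * d - b * c ≠ 0 then (if isInv a b c d then
    (∑ a' : ZMod 3, ∑ b' : ZMod 3, ∑ c' : ZMod 3, ∑ d' : ZMod 3,
      if a' * d' - b' * c' ≠ 0 then (if isInv a' b' c' d' then
        alT i (a * a' + b * c') (a * b' + b * d') (c * a' + d * c') (c * b' + d * d')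
         else 0) else 0) else 0) else 0) := by
  rw [← sum_eq (A := R) (fun a b c d => if isInv a b c d then
    (∑ a' : ZMod 3, ∑ b' : ZMod 3, ∑ c' : ZMod 3, ∑ d' : ZMod 3,
      if a' * d' - b' * c' ≠ 0 then (if isInv a' b' c' d' then
        alT i (a * a' + b * c') (a * b' + b * d') (c * a' + d * c') (c * b' + d * d')
         else 0) else 0) else 0), map_sum]
  refine Finset.sum_congr rfl fun x _ => ?_
  by_cases hx : orderOf x = 2
  · rw [if_pos ((isInv_iff x).mpr hx)]
    rw [← sum_eq (A := R) (fun a' b' c' d' => if isInv a' b' c' d' then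
        alT i (x 0 0 * a' + x 0 1 * c') (x 0 0 * b' + x 0 1 * d') (x 1 0 * a' + x 1 1 * c')
          (x 1 0 * b' + x 1 1 * d') else 0), map_sum]
    refine Finset.sum_congr rfl fun y _ => ?_
    by_cases hy : orderOf y = 2
    · rw [if_pos ((isInv_iff y).mpr hy), if_pos ⟨hx, hy⟩]
      have e := ent_mul x y
      simp only [ent, mul4, Prod.mk.injEq] at e
      obtain ⟨e1, e2, e3, e4⟩ := e
      change emb (alT i _ _ _ _) = _
      rw [e1, e2, e3, e4]
    · rw [if_neg (fun h => hy ((isInv_iff y).mp h)), if_neg (fun h => hy h.2), map_zero]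
  · rw [if_neg (fun h => hx ((isInv_iff x).mp h)), map_zero]
    refine Finset.sum_eq_zero fun y _ => ?_
    rw [if_neg (fun h => hx h.1)]

open scoped Classical in
theorem inv_sum_alG_two [Fintype Grp] :
    ∑ x : Grp, ∑ y : Grp, (if orderOf x = 2 ∧ orderOf y = 2 then emb (alG 2 (x * y)) else 0) =
    96 := by
  rw [inv_sum_alG, inv_sum_two, map_ofNat]

open scoped Classical in
theorem inv_sum_alG_four [Fintype Grp] :
    ∑ x : Grp, ∑ y : Grp, (if orderOf x = 2 ∧ orderOf y = 2 then emb (alG 4 (x * y)) else 0) =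
    -192 := by
  rw [inv_sum_alG, inv_sum_four, map_neg, map_ofNat]

/-- An element of order `2` and determinant `1` is `-1`. -/
theorem eq_neg_one_of_det (g : Grp) (h : orderOf g = 2)
    (hd : (g : Matrix (Fin 2) (Fin 2) (ZMod 3)).det = 1) : g = -1 := by
  rw [Matrix.det_fin_two] at hd
  have := isInv_det_one _ _ _ _ ((isInv_iff g).mpr h) hd
  rw [eq_neg_one_iff]
  simp only [ent, Prod.mk.injEq]
  exact this

/-- A central element of order `2` is `-1`. -/
theorem eq_neg_one_of_central (g : Grp) (h : orderOf g = 2) (hc : ∀ x : Grp, g * x = x * g) :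
    g = -1 := by
  have hinv := (isInv_iff g).mpr h
  have key : ∀ x : Grp, mul4 (ent g) (ent x) = mul4 (ent x) (ent g) := by
    intro x
    rw [← ent_mul, ← ent_mul, hc]
  have h1 := key (Matrix.GeneralLinearGroup.mkOfDetNeZero !![1, 1; 0, 1]
    (by rw [Matrix.det_fin_two]; decide))
  have h2 := key (Matrix.GeneralLinearGroup.mkOfDetNeZero !![1, 0; 1, 1]
    (by rw [Matrix.det_fin_two]; decide))
  change mul4 (ent g) (1, 1, 0, 1) = mul4 (1, 1, 0, 1) (ent g) at h1
  change mul4 (ent g) (1, 0, 1, 1) = mul4 (1, 0, 1, 1) (ent g) at h2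
  simp only [mul4, ent, Prod.mk.injEq] at h1 h2
  rw [eq_neg_one_iff]
  simp only [ent, Prod.mk.injEq]
  have := isInv_central (g 0 0) (g 0 1) (g 1 0) (g 1 1) hinv
  apply this
  · exact h1.1
  · exact h1.2.1
  · exact h1.2.2.1
  · exact h1.2.2.2
  · exact h2.1
  · exact h2.2.1
  · exact h2.2.2.1
  · exact h2.2.2.2

/-- The centralizer of a noncentral involution has order `4`. -/
theorem card_centralizer_inv (g : Grp) (h : orderOf g = 2) (hg : g ≠ -1) :
    Nat.card {x : Grp // g * x = x * g} = 4 := by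
  classical
  have : Fintype Grp := Fintype.ofEquiv _ equivQuad.symm
  have h1 := isInv_centralizer (g 0 0) (g 0 1) (g 1 0) (g 1 1) ((isInv_iff g).mpr h)
    (fun hh => hg ((eq_neg_one_iff g).mpr (by simp only [ent, Prod.mk.injEq]; exact hh)))
  rw [Nat.card_eq_fintype_card, Fintype.card_subtype, Finset.card_filter, ← h1]
  have h2 := sum_eq (A := ℕ) (fun a' b' c' d' =>
    if (g 0 0 * a' + g 0 1 * c' = a' * g 0 0 + b' * g 1 0 ∧
        g 0 0 * b' + g 0 1 * d' = a' * g 0 1 + b' * g 1 1 ∧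
        g 1 0 * a' + g 1 1 * c' = c' * g 0 0 + d' * g 1 0 ∧
        g 1 0 * b' + g 1 1 * d' = c' * g 0 1 + d' * g 1 1) then 1 else 0)
  simp only [← ite_and] at h2
  rw [← h2]
  refine Finset.sum_congr rfl fun x _ => ?_
  have h3 : g * x = x * g ↔ mul4 (ent g) (ent x) = mul4 (ent x) (ent g) := by
    rw [← ent_mul, ← ent_mul]
    exact ent_injective.eq_iff.symm
  simp only [h3, mul4, ent, Prod.mk.injEq]

end Cfsg.Agent.Characters.GL23
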