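import Mathlib
import Cfsg.Agent.Characters.GL23Table

/-!
# The integer vectors behind the characterisation of `PSL(3,3)` and `M11`

Five integer vectors with a given Gram matrix are determined up to signs; number theory.
-/

set_option autoImplicit false

namespace Cfsg.Agent.Characters.GL23Combi

open Cfsg.Agent.Characters.GL23Table

section

variable {ι : Type*} [DecidableEq ι]

theorem step (s : Finset ι) (f : ι → ℤ) (n : ℤ) (h0 : 0 < n) (h3 : n ≤ 3)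
    (h : ∑ x ∈ s, f x ^ 2 = n) : ∃ i ∈ s, f i ^ 2 = 1 ∧ ∑ x ∈ s.erase i, f x ^ 2 = n - 1 := by
  have h1 : ∃ i ∈ s, f i ≠ 0 := by
    by_contra hc
    push Not at hc
    have : ∑ x ∈ s, f x ^ 2 = 0 := Finset.sum_eq_zero fun x hx => by rw [hc x hx]; rfl
    omega
  obtain ⟨i, hi, hfi⟩ := h1
  have h2 : f i ^ 2 ≤ n := by
    rw [← h]
    exact Finset.single_le_sum (f := fun x => f x ^ 2) (fun x _ => sq_nonneg (f x)) hi
  have h4 : f i ^ 2 = 1 := by
    have h5 : f i < 2 := by nlinarith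
    have h6 : -2 < f i := by nlinarith
    have h7 : f i = 1 ∨ f i = -1 := by omega
    rcases h7 with h7 | h7 <;> rw [h7] <;> norm_num
  refine ⟨i, hi, h4, ?_⟩
  rw [← h, ← Finset.add_sum_erase s (fun x => f x ^ 2) hi, h4]
  ring

theorem eq_zero_of_sum (s : Finset ι) (f : ι → ℤ) (h : ∑ x ∈ s, f x ^ 2 = 0) :
    ∀ x ∈ s, f x = 0 := by
  intro x hx
  have := (Finset.sum_eq_zero_iff_of_nonneg (fun y _ => sq_nonneg (f y))).mp h x hx
  exact pow_eq_zero_iff (two_ne_zero) |>.mp this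

theorem sq_le_of_mem (s : Finset ι) (f : ι → ℤ) (n : ℤ) (h : ∑ x ∈ s, f x ^ 2 = n) (i : ι)
    (hi : i ∈ s) : f i ^ 2 ≤ n := by
  rw [← h]
  exact Finset.single_le_sum (f := fun x => f x ^ 2) (fun x _ => sq_nonneg (f x)) hi

variable [Fintype ι]

theorem sum_two {A : Type*} [AddCommMonoid A] (F : ι → A) (a b : ι) (hab : a ≠ b)
    (h : ∀ x, x ≠ a → x ≠ b → F x = 0) : ∑ x, F x = F a + F b :=
  Fintype.sum_eq_add a b hab (fun x hx => h x hx.1 hx.2)

theorem sum_three {A : Type*} [AddCommMonoid A] (F : ι → A) (a b c : ι) (hab : a ≠ b) (hac : a ≠ c)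
    (hbc : b ≠ c) (h : ∀ x, x ≠ a → x ≠ b → x ≠ c → F x = 0) : ∑ x, F x = F a + F b + F c := by
  have h1 : ∑ x, F x = ∑ x ∈ ({a, b, c} : Finset ι), F x := by
    symm
    apply Finset.sum_subset (Finset.subset_univ _)
    intro x _ hx
    simp only [Finset.mem_insert, Finset.mem_singleton, not_or] at hx
    exact h x hx.1 hx.2.1 hx.2.2
  rw [h1, Finset.sum_insert (by simp [hab, hac]), Finset.sum_insert (by simp [hbc]),
    Finset.sum_singleton, add_assoc]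

theorem sum_four {A : Type*} [AddCommMonoid A] (F : ι → A) (a b c e : ι) (hab : a ≠ b)
    (hac : a ≠ c) (hae : a ≠ e) (hbc : b ≠ c) (hbe : b ≠ e) (hce : c ≠ e)
    (h : ∀ x, x ≠ a → x ≠ b → x ≠ c → x ≠ e → F x = 0) :
    ∑ x, F x = F a + F b + F c + F e := by
  have h1 : ∑ x, F x = ∑ x ∈ ({a, b, c, e} : Finset ι), F x := by
    symm
    apply Finset.sum_subset (Finset.subset_univ _)
    intro x _ hx
    simp only [Finset.mem_insert, Finset.mem_singleton, not_or] at hx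
    exact h x hx.1 hx.2.1 hx.2.2.1 hx.2.2.2
  rw [h1, Finset.sum_insert (by simp [hab, hac, hae]), Finset.sum_insert (by simp [hbc, hbe]),
    Finset.sum_insert (by simp [hce]), Finset.sum_singleton]
  simp only [add_assoc]

theorem four (f : ι → ℤ) (n : ℤ) (hn : ∑ x, f x ^ 2 = n) (a b c e : ι) (hab : a ≠ b)
    (hac : a ≠ c) (hae : a ≠ e) (hbc : b ≠ c) (hbe : b ≠ e) (hce : c ≠ e) :
    f a ^ 2 + f b ^ 2 + f c ^ 2 + f e ^ 2 ≤ n ∧
    (f a ^ 2 + f b ^ 2 + f c ^ 2 + f e ^ 2 = n →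
      ∀ x, x ≠ a → x ≠ b → x ≠ c → x ≠ e → f x = 0) := by
  have h1 : ∑ x ∈ ({a, b, c, e} : Finset ι), f x ^ 2 =
      f a ^ 2 + f b ^ 2 + f c ^ 2 + f e ^ 2 := by
    rw [Finset.sum_insert (by simp [hab, hac, hae]), Finset.sum_insert (by simp [hbc, hbe]),
      Finset.sum_insert (by simp [hce]), Finset.sum_singleton]
    ring
  have h2 := Finset.sum_add_sum_compl ({a, b, c, e} : Finset ι) (fun x => f x ^ 2)
  have h3 : 0 ≤ ∑ x ∈ ({a, b, c, e} : Finset ι)ᶜ, f x ^ 2 :=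
    Finset.sum_nonneg fun x _ => sq_nonneg (f x)
  rw [hn, h1] at h2
  refine ⟨by omega, fun h x hxa hxb hxc hxe => ?_⟩
  exact eq_zero_of_sum _ f (by omega : ∑ x ∈ ({a, b, c, e} : Finset ι)ᶜ, f x ^ 2 = 0) x
    (by simp [hxa, hxb, hxc, hxe])

end

theorem pm {a : ℤ} (h : a ^ 2 = 1) : a = 1 ∨ a = -1 := by
  have h1 : (a - 1) * (a + 1) = 0 := by linear_combination h
  rcases mul_eq_zero.mp h1 with h2 | h2
  · left; omega
  · right; omega

theorem small_of_sq_le {a : ℤ} (h : a ^ 2 ≤ 3) : a = 0 ∨ a = 1 ∨ a = -1 := by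
  have h5 : a < 2 := by nlinarith
  have h6 : -2 < a := by nlinarith
  omega

/-- sign analysis -/
theorem sign_pair {a b x y : ℤ} (ha : a ^ 2 = 1) (hb : b ^ 2 = 1) (hx : 0 < x) (hy : 0 < y)
    (h : a * x + b * y = 0) : b = -a ∧ x = y := by
  rcases pm ha with h1 | h1 <;> rcases pm hb with h2 | h2 <;> subst h1 <;> subst h2 <;>
    constructor <;> omega

section

variable {ι : Type*} [DecidableEq ι] [Fintype ι]

/-- Two vectors of norm 2 with inner product 1, orthogonal to a positive vector. -/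
theorem two_vectors (d A B : ι → ℤ) (hd : ∀ x, 0 < d x)
    (hAA : ∑ x, A x ^ 2 = 2) (hBB : ∑ x, B x ^ 2 = 2) (hAB : ∑ x, A x * B x = 1)
    (hAd : ∑ x, A x * d x = 0) (hBd : ∑ x, B x * d x = 0) :
    ∃ (i j k : ι) (ε : ℤ), (ε = 1 ∨ ε = -1) ∧ i ≠ j ∧ i ≠ k ∧ j ≠ k ∧
      A i = ε ∧ A j = -ε ∧ (∀ x, x ≠ i → x ≠ j → A x = 0) ∧
      B i = ε ∧ B k = -ε ∧ (∀ x, x ≠ i → x ≠ k → B x = 0) ∧ d j = d i ∧ d k = d i := by
  obtain ⟨i, -, hi, h1⟩ := step Finset.univ A 2 (by norm_num) (by norm_num) hAA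
  obtain ⟨j, hjm, hj, h2⟩ := step (Finset.univ.erase i) A (2 - 1) (by norm_num) (by norm_num) h1
  have hji : j ≠ i := (Finset.mem_erase.mp hjm).1
  have hA0 : ∀ x, x ≠ i → x ≠ j → A x = 0 := by
    intro x hxi hxj
    exact eq_zero_of_sum _ A (by rw [h2]; norm_num) x (by simp [hxi, hxj])
  have hsum : A i * d i + A j * d j = 0 := by
    rw [← hAd, sum_two (fun x => A x * d x) i j hji.symm]
    intro x hxi hxj
    rw [hA0 x hxi hxj, zero_mul]
  obtain ⟨hAj, hdij⟩ := sign_pair hi hj (hd i) (hd j) hsum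
  have hAB' : A i * B i + A j * B j = 1 := by
    rw [← hAB, sum_two (fun x => A x * B x) i j hji.symm]
    intro x hxi hxj
    rw [hA0 x hxi hxj, zero_mul]
  have hBs : ∀ x, B x = 0 ∨ B x = 1 ∨ B x = -1 := fun x =>
    small_of_sq_le (by have := sq_le_of_mem Finset.univ B 2 hBB x (Finset.mem_univ x); omega)
  -- it suffices to treat the case `B j = 0`
  have main : ∀ (i j : ι), i ≠ j → A i ^ 2 = 1 → A j = - A i → (∀ x, x ≠ i → x ≠ j → A x = 0) →
      d j = d i → A i * B i + A j * B j = 1 → B j = 0 → 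
      ∃ (i j k : ι) (ε : ℤ), (ε = 1 ∨ ε = -1) ∧ i ≠ j ∧ i ≠ k ∧ j ≠ k ∧
      A i = ε ∧ A j = -ε ∧ (∀ x, x ≠ i → x ≠ j → A x = 0) ∧
      B i = ε ∧ B k = -ε ∧ (∀ x, x ≠ i → x ≠ k → B x = 0) ∧ d j = d i ∧ d k = d i := by
    intro i j hij hi hAj hA0 hdij hAB' hBj
    have hBi : B i = A i := by
      rw [hBj, mul_zero, add_zero] at hAB'
      rcases pm hi with h | h <;> rw [h] at hAB' ⊢ <;> omega
    have h3 : ∑ x ∈ Finset.univ.erase i, B x ^ 2 = 1 := by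
      have := Finset.add_sum_erase Finset.univ (fun x => B x ^ 2) (Finset.mem_univ i)
      rw [hBB] at this
      simp only [hBi, hi] at this
      omega
    obtain ⟨k, hkm, hk, h4⟩ := step (Finset.univ.erase i) B 1 (by norm_num) (by norm_num) h3
    have hki : k ≠ i := (Finset.mem_erase.mp hkm).1
    have hB0 : ∀ x, x ≠ i → x ≠ k → B x = 0 := by
      intro x hxi hxj
      exact eq_zero_of_sum _ B (by rw [h4]; norm_num) x (by simp [hxi, hxj])
    have hkj : k ≠ j := by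
      rintro rfl
      rw [hBj] at hk
      norm_num at hk
    have hsum : B i * d i + B k * d k = 0 := by
      rw [← hBd, sum_two (fun x => B x * d x) i k hki.symm]
      intro x hxi hxj
      rw [hB0 x hxi hxj, zero_mul]
    obtain ⟨hBk, hdik⟩ := sign_pair (hBi ▸ hi) hk (hd i) (hd k) hsum
    exact ⟨i, j, k, A i, pm hi, hij, hki.symm, hkj.symm, rfl, hAj, hA0, hBi, hBk.trans (by rw [hBi]),
      hB0, hdij, hdik.symm⟩
  rcases hBs j with hBj | hBj
  · exact main i j hji.symm hi hAj hA0 hdij.symm hAB' hBj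
  · have hBi : B i = 0 := by
      have h5 : A i * (B i - B j) = 1 := by rw [← hAB', hAj]; ring
      rcases pm hi with h | h <;> rw [h] at h5 <;> rcases hBs i with h6 | h6 | h6 <;>
        rcases hBj with h7 | h7 <;> omega
    exact main j i hji hj (by rw [hAj]; ring) (fun x h h' => hA0 x h' h) hdij
      (by rw [← hAB']; ring) hBi

theorem lemmaC (d C : ι → ℤ) (i0 i j k : ι) (ε : ℤ) (hd0 : d i0 = 1)
    (hε : ε = 1 ∨ ε = -1) (hij : i ≠ j) (hik : i ≠ k) (hjk : j ≠ k) (h0i : i0 ≠ i)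
    (h0j : i0 ≠ j) (h0k : i0 ≠ k) (hdj : d j = d i) (hdk : d k = d i)
    (hCC : ∑ x, C x ^ 2 = 3) (hAC : ε * (C i - C j) = 1) (hBC : ε * (C i - C k) = 1)
    (hC0 : C i0 = 1) (hCd : ∑ x, C x * d x = 0) :
    C i = ε ∧ C j = 0 ∧ C k = 0 ∧ ∃ l : ι, C l ^ 2 = 1 ∧ l ≠ i ∧ l ≠ i0 ∧ l ≠ j ∧ l ≠ k ∧
      ∀ x, x ≠ i0 → x ≠ i → x ≠ l → C x = 0 := by
  have hC4 := four C 3 hCC i0 i j k h0i h0j h0k hij hik hjk
  have hCjk : C j = C k := by rcases hε with h | h <;> rw [h] at hAC hBC <;> omega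
  have hCj : C j = 0 := by
    by_contra hne
    have h0 : C j ^ 2 ≤ 3 := by
      have := hC4.1
      have h1 := sq_nonneg (C i0)
      have h2 := sq_nonneg (C i)
      have h3 := sq_nonneg (C k)
      linarith
    have h1 : C j ^ 2 = 1 := by
      rcases small_of_sq_le h0 with h | h | h
      · exact absurd h hne
      · rw [h]; norm_num
      · rw [h]; norm_num
    have h2 : C k ^ 2 = 1 := by rw [← hCjk]; exact h1
    have h3 : C i = 0 := by
      have h4 : C i ^ 2 ≤ 0 := by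
        have := hC4.1
        rw [hC0, h1, h2] at this
        linarith
      have h5 : C i ^ 2 = 0 := le_antisymm h4 (sq_nonneg _)
      exact pow_eq_zero_iff (two_ne_zero) |>.mp h5
    have hz := hC4.2 (by rw [hC0, h1, h2, h3]; norm_num)
    have hsum := sum_four (fun x => C x * d x) i0 i j k h0i h0j h0k hij hik hjk
      (fun x a b c e => by rw [hz x a b c e, zero_mul])
    rw [hCd, hC0, h3, hd0, hdj, hdk, ← hCjk] at hsum
    have h5 : (2 : ℤ) ∣ -1 := ⟨C j * d i, by linarith⟩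
    norm_num at h5
  have hCk : C k = 0 := by rw [← hCjk]; exact hCj
  have hCi : C i = ε := by
    rw [hCj] at hAC
    rcases hε with h | h <;> rw [h] at hAC ⊢ <;> omega
  refine ⟨hCi, hCj, hCk, ?_⟩
  have hε2 : ε ^ 2 = 1 := by rcases hε with h | h <;> rw [h] <;> norm_num
  have hC1 : ∑ x ∈ (Finset.univ.erase i0).erase i, C x ^ 2 = 1 := by
    have h1 := Finset.add_sum_erase Finset.univ (fun x => C x ^ 2) (Finset.mem_univ i0)
    have h2 := Finset.add_sum_erase (Finset.univ.erase i0) (fun x => C x ^ 2) (a := i)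
      (by simp [h0i.symm])
    rw [hCC] at h1
    simp only [hC0, hCi, hε2] at h1 h2
    omega
  obtain ⟨l, hlm, hCl, hCr⟩ := step _ C 1 (by norm_num) (by norm_num) hC1
  have hli : l ≠ i := (Finset.mem_erase.mp hlm).1
  have hl0 : l ≠ i0 := (Finset.mem_erase.mp (Finset.mem_erase.mp hlm).2).1
  refine ⟨l, hCl, hli, hl0, ?_, ?_, ?_⟩
  · rintro rfl; rw [hCj] at hCl; norm_num at hCl
  · rintro rfl; rw [hCk] at hCl; norm_num at hCl
  · intro x h1 h2 h3
    exact eq_zero_of_sum _ C (by rw [hCr]; norm_num) x (by simp [h1, h2, h3])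

theorem lemmaD (d D : ι → ℤ) (i j k l : ι) (ε γ : ℤ)
    (hε : ε = 1 ∨ ε = -1) (hγ : γ ^ 2 = 1) (hij : i ≠ j) (hik : i ≠ k) (hjk : j ≠ k)
    (hli : l ≠ i) (hlj : l ≠ j) (hlk : l ≠ k) (hdj : d j = d i) (hdk : d k = d i)
    (hDD : ∑ x, D x ^ 2 = 3) (hAD : ε * (D i - D j) = 1) (hBD : ε * (D i - D k) = 1)
    (hCD : ε * D i + γ * D l = 1) (hCd : 1 + ε * d i + γ * d l = 0)
    (hDd : ∑ x, D x * d x = 0) :
    D i = ε ∧ D j = 0 ∧ D k = 0 ∧ D l = 0 ∧ ∃ m n : ι, D m ^ 2 = 1 ∧ D n ^ 2 = 1 ∧ m ≠ i ∧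
      n ≠ i ∧ m ≠ n ∧ ∀ x, x ≠ i → x ≠ m → x ≠ n → D x = 0 := by
  have hDjk : D j = D k := by rcases hε with h | h <;> rw [h] at hAD hBD <;> omega
  have hD4 := four D 3 hDD l i j k hli hlj hlk hij hik hjk
  have hDj : D j = 0 := by
    by_contra hne
    have h0 : D j ^ 2 ≤ 3 := by
      have := hD4.1
      have h1 := sq_nonneg (D l)
      have h2 := sq_nonneg (D i)
      have h3 := sq_nonneg (D k)
      linarith
    have h1 : D j ^ 2 = 1 := by
      rcases small_of_sq_le h0 with h | h | h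
      · exact absurd h hne
      · rw [h]; norm_num
      · rw [h]; norm_num
    have h2 : D k ^ 2 = 1 := by rw [← hDjk]; exact h1
    have h3 : D i ^ 2 ≤ 1 := by
      have := hD4.1
      rw [h1, h2] at this
      have h4 := sq_nonneg (D l)
      linarith
    have h4 : D i = 0 ∧ D j = -ε := by
      rcases small_of_sq_le (h3.trans (by norm_num)) with h5 | h5 | h5 <;>
      rcases pm h1 with h | h <;> rcases hε with h' | h' <;> rw [h, h', h5] at hAD <;>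
        rw [h, h', h5] <;> constructor <;> first | rfl | (exfalso; omega)
    rw [h4.1, mul_zero, zero_add] at hCD
    have h5 : D l = γ := by
      rcases pm hγ with h | h <;> rw [h] at hCD ⊢ <;> omega
    have hz := hD4.2 (by rw [h1, h2, h4.1, h5, hγ]; norm_num)
    have hsum := sum_four (fun x => D x * d x) l i j k hli hlj hlk hij hik hjk
      (fun x a b c e => by rw [hz x a b c e, zero_mul])
    rw [hDd, h4.1, h5, ← hDjk, h4.2, hdj, hdk] at hsum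
    have h6 : (3 : ℤ) ∣ 1 := ⟨-(ε * d i), by linarith⟩
    norm_num at h6
  have hDk : D k = 0 := by rw [← hDjk]; exact hDj
  have hDi : D i = ε := by
    rw [hDj] at hAD
    rcases hε with h | h <;> rw [h] at hAD ⊢ <;> omega
  have hε2 : ε ^ 2 = 1 := by rcases hε with h | h <;> rw [h] <;> norm_num
  have hDl : D l = 0 := by
    have h1 : ε * ε = 1 := by rw [← pow_two]; exact hε2
    rw [hDi, h1] at hCD
    rcases pm hγ with h | h <;> rw [h] at hCD <;> omega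
  refine ⟨hDi, hDj, hDk, hDl, ?_⟩
  have hD1 : ∑ x ∈ Finset.univ.erase i, D x ^ 2 = 2 := by
    have h1 := Finset.add_sum_erase Finset.univ (fun x => D x ^ 2) (Finset.mem_univ i)
    rw [hDD] at h1
    simp only [hDi, hε2] at h1
    omega
  obtain ⟨m, hmm, hDm, hDr⟩ := step _ D 2 (by norm_num) (by norm_num) hD1
  obtain ⟨n, hnm, hDn, hDr2⟩ := step _ D _ (by norm_num) (by norm_num) hDr
  have hmi : m ≠ i := (Finset.mem_erase.mp hmm).1
  have hnm' : n ≠ m := (Finset.mem_erase.mp hnm).1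
  have hni : n ≠ i := (Finset.mem_erase.mp (Finset.mem_erase.mp hnm).2).1
  refine ⟨m, n, hDm, hDn, hmi, hni, hnm'.symm, ?_⟩
  intro x h1 h2 h3
  exact eq_zero_of_sum _ D (by rw [hDr2]; norm_num) x (by simp [h1, h2, h3])

theorem lemmaE (E D : ι → ℤ) (i0 i j k l m n : ι) (ε γ : ℤ)
    (hε : ε = 1 ∨ ε = -1) (hγ : γ ^ 2 = 1) (hij : i ≠ j) (hik : i ≠ k) (hjk : j ≠ k)
    (h0i : i0 ≠ i) (h0j : i0 ≠ j) (h0k : i0 ≠ k) (h0m : i0 ≠ m) (h0n : i0 ≠ n)
    (hmn : m ≠ n) (hDm : D m ^ 2 = 1) (hDn : D n ^ 2 = 1)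
    (hEE : ∑ x, E x ^ 2 = 3) (hAE : ε * (E i - E j) = 0) (hBE : ε * (E i - E k) = 0)
    (hE0 : E i0 = -1)
    (hCE : -1 + ε * E i + γ * E l = -1) (hDE : ε * E i + D m * E m + D n * E n = 1) :
    E i = 0 ∧ E j = 0 ∧ E k = 0 ∧ E l = 0 ∧ 
      ((E m = D m ∧ E n = 0) ∨ (E m = 0 ∧ E n = D n)) ∧
      ∃ o : ι, E o ^ 2 = 1 ∧ o ≠ i0 ∧ o ≠ m ∧ o ≠ n ∧
        ∀ x, x ≠ i0 → x ≠ m → x ≠ n → x ≠ o → E x = 0 := by
  have hE4 := four E 3 hEE i0 i j k h0i h0j h0k hij hik hjk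
  have hEj : E j = E i := by rcases hε with h | h <;> rw [h] at hAE <;> omega
  have hEk : E k = E i := by rcases hε with h | h <;> rw [h] at hBE <;> omega
  have hEi : E i = 0 := by
    have h1 := hE4.1
    rw [hE0, hEj, hEk] at h1
    have h2 : E i ^ 2 ≤ 0 := by linarith
    exact pow_eq_zero_iff (two_ne_zero) |>.mp (le_antisymm h2 (sq_nonneg _))
  have hEl : E l = 0 := by
    rw [hEi] at hCE
    rcases pm hγ with h | h <;> rw [h] at hCE <;> omega
  rw [hEi] at hEj hEk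
  have hs : ∀ x, E x = 0 ∨ E x = 1 ∨ E x = -1 := fun x =>
    small_of_sq_le (sq_le_of_mem Finset.univ E 3 hEE x (Finset.mem_univ x))
  have hcase : (E m = D m ∧ E n = 0) ∨ (E m = 0 ∧ E n = D n) := by
    rw [hEi, mul_zero, zero_add] at hDE
    rcases pm hDm with h | h <;> rcases pm hDn with h' | h' <;> rw [h, h'] at hDE ⊢ <;>
      rcases hs m with h2 | h2 | h2 <;> rcases hs n with h3 | h3 | h3 <;> rw [h2, h3] at hDE ⊢ <;>
      omega
  refine ⟨hEi, hEj, hEk, hEl, hcase, ?_⟩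
  have h1 := Finset.add_sum_erase Finset.univ (fun x => E x ^ 2) (Finset.mem_univ i0)
  have h2 := Finset.add_sum_erase (Finset.univ.erase i0) (fun x => E x ^ 2) (a := m)
      (by simp [h0m.symm])
  have h3 := Finset.add_sum_erase ((Finset.univ.erase i0).erase m) (fun x => E x ^ 2) (a := n)
      (by simp [h0n.symm, hmn.symm])
  have h4 : E m ^ 2 + E n ^ 2 = 1 := by
    rcases hcase with ⟨h, h'⟩ | ⟨h, h'⟩
    · rw [h, h', hDm]; norm_num
    · rw [h, h', hDn]; norm_num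
  have hE1 : ∑ x ∈ ((Finset.univ.erase i0).erase m).erase n, E x ^ 2 = 1 := by
    rw [hEE] at h1
    simp only [hE0] at h1
    linarith
  obtain ⟨o, hom, hEo, hEr⟩ := step _ E 1 (by norm_num) (by norm_num) hE1
  have hon : o ≠ n := (Finset.mem_erase.mp hom).1
  have hom' : o ≠ m := (Finset.mem_erase.mp (Finset.mem_erase.mp hom).2).1
  have ho0 : o ≠ i0 :=
    (Finset.mem_erase.mp (Finset.mem_erase.mp (Finset.mem_erase.mp hom).2).2).1
  refine ⟨o, hEo, ho0, hom', hon, ?_⟩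
  intro x h1 h2 h3 h4
  exact eq_zero_of_sum _ E (by rw [hEr]; norm_num) x (by simp [h1, h2, h3, h4])

theorem frac_one {ε d X : ℤ} (hε : ε ^ 2 = 1) (hd : 0 < d) (hX : X = ε * d) (c : ℚ) :
    (ε : ℚ) * (c / d) = c / X := by
  have hd' : (d : ℚ) ≠ 0 := by exact_mod_cast hd.ne'
  rcases pm hε with h | h <;> subst h <;> subst hX <;> push_cast
  · rw [one_mul, one_mul]
  · rw [neg_one_mul, neg_one_mul, div_neg]

theorem finish (d : ι → ℤ) (hd : ∀ x, 0 < d x) (i0 : ι) (hd0 : d i0 = 1)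
    (A B C D E : ι → ℤ) (i j k l m n o : ι) (ε γ : ℤ) (hε : ε ^ 2 = 1) (hγ : γ ^ 2 = 1)
    (hC0 : C i0 = 1) (hD0 : D i0 = 0) (hE0 : E i0 = -1) (hA0 : A i0 = 0) (hB0 : B i0 = 0)
    (hAi : A i = ε) (hBi : B i = ε) (hCi : C i = ε) (hDi : D i = ε) (hEi : E i = 0)
    (hDj : D j = 0) (hEj : E j = 0) (hDk : D k = 0) (hEk : E k = 0)
    (hAx : ∀ x, x ≠ i → x ≠ j → A x = 0) (hBx : ∀ x, x ≠ i → x ≠ k → B x = 0)
    (h0i : i0 ≠ i) (hli : l ≠ i) (hl0 : l ≠ i0) (hlj : l ≠ j) (hlk : l ≠ k) (hCl : C l = γ)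
    (hDl : D l = 0) (hEl : E l = 0)
    (hCx : ∀ x, x ≠ i0 → x ≠ i → x ≠ l → C x = 0)
    (hDm : D m ^ 2 = 1) (hmi : m ≠ i)
    (hDx : ∀ x, x ≠ i → x ≠ m → x ≠ n → D x = 0)
    (hEm : E m = D m) (hEn : E n = 0) (hEo : E o ^ 2 = 1) (ho0 : o ≠ i0) (hom : o ≠ m)
    (hon : o ≠ n) (hEx : ∀ x, x ≠ i0 → x ≠ m → x ≠ n → x ≠ o → E x = 0)
    (hCd : 1 + ε * d i + γ * d l = 0) (hEd : ∑ x, E x * d x = 0)
    (v : ι → ℤ) (hv : ∀ x, v x = 2 * A x + 2 * B x - 3 * C x + D x - 4 * E x) :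
    ∃ X Y : ℤ, X ≠ 0 ∧ X + 1 ≠ 0 ∧ Y ≠ 0 ∧ 1 - Y ≠ 0 ∧
      ∑ x, (C x : ℚ) * ((v x : ℚ) ^ 2 / d x) = 1 + 4 / X - 9 / (X + 1) ∧
      ∑ x, (E x : ℚ) * ((v x : ℚ) ^ 2 / d x) = -1 + 9 / Y + 16 / (1 - Y) := by
  have ne_of (f : ι → ℤ) {x y : ι} (hx : f x ^ 2 = 1) (hy : f y = 0) : x ≠ y := by
    rintro rfl
    rw [hy] at hx
    norm_num at hx
  have hmj : m ≠ j := ne_of D hDm hDj
  have hmk : m ≠ k := ne_of D hDm hDk
  have hml : m ≠ l := ne_of D hDm hDl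
  have hm0 : m ≠ i0 := ne_of D hDm hD0
  have hoi : o ≠ i := ne_of E hEo hEi
  have hoj : o ≠ j := ne_of E hEo hEj
  have hok : o ≠ k := ne_of E hEo hEk
  have hol : o ≠ l := ne_of E hEo hEl
  have hEx' : ∀ x, x ≠ i0 → x ≠ m → x ≠ o → E x = 0 := by
    intro x h1 h2 h3
    by_cases hxn : x = n
    · rw [hxn, hEn]
    · exact hEx x h1 h2 hxn h3
  have v0 : v i0 = 1 := by rw [hv, hA0, hB0, hC0, hD0, hE0]; norm_num
  have vi : v i = 2 * ε := by rw [hv, hAi, hBi, hCi, hDi, hEi]; ring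
  have vl : v l = -3 * γ := by
    rw [hv, hAx l hli hlj, hBx l hli hlk, hCl, hDl, hEl]; ring
  have vm : v m = -3 * D m := by
    rw [hv, hAx m hmi hmj, hBx m hmi hmk, hCx m hm0 hmi hml, hEm]; ring
  have vo : v o = -4 * E o := by
    rw [hv, hAx o hoi hoj, hBx o hoi hok, hCx o ho0 hoi hol, hDx o hoi hom hon]; ring
  have sumE : ∑ x, E x * d x = -1 + E m * d m + E o * d o := by
    rw [sum_three (fun x => E x * d x) i0 m o hm0.symm ho0.symm hom.symm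
      (fun x h h' h'' => by rw [hEx' x h h' h'', zero_mul]), hE0, hd0]
    ring
  rw [hEd] at sumE
  have hεd : ε * d i ≠ 0 := by
    rcases pm hε with h | h <;> rw [h] <;> have := hd i <;> omega
  have hγd : γ * d l ≠ 0 := by
    rcases pm hγ with h | h <;> rw [h] <;> have := hd l <;> omega
  have hEm2 : E m ^ 2 = 1 := by rw [hEm]; exact hDm
  have hmd : E m * d m ≠ 0 := by
    rcases pm hEm2 with h | h <;> rw [h] <;> have := hd m <;> omega
  have hod : E o * d o ≠ 0 := by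
    rcases pm hEo with h | h <;> rw [h] <;> have := hd o <;> omega
  refine ⟨ε * d i, E m * d m, hεd, by omega, hmd, by omega, ?_, ?_⟩
  · rw [sum_three (fun x => (C x : ℚ) * ((v x : ℚ) ^ 2 / d x)) i0 i l h0i hl0.symm hli.symm
      (fun x h h' h'' => by rw [hCx x h h' h'']; simp), v0, vi, vl, hC0, hCi, hCl, hd0]
    have e1 : ((2 * ε : ℤ) : ℚ) ^ 2 = 4 := by
      have : (2 * ε) ^ 2 = 4 := by rw [mul_pow, hε]; norm_num
      exact_mod_cast this
    have e2 : ((-3 * γ : ℤ) : ℚ) ^ 2 = 9 := by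
      have : (-3 * γ) ^ 2 = 9 := by rw [mul_pow, hγ]; norm_num
      exact_mod_cast this
    rw [e1, e2, frac_one hε (hd i) rfl, frac_one hγ (hd l) rfl]
    have e3 : ((γ * d l : ℤ) : ℚ) = -(((ε * d i : ℤ) : ℚ) + 1) := by
      have : γ * d l = -(ε * d i + 1) := by omega
      rw [this]
      push_cast
      ring
    rw [e3, div_neg]
    norm_num
    ring
  · rw [sum_three (fun x => (E x : ℚ) * ((v x : ℚ) ^ 2 / d x)) i0 m o hm0.symm ho0.symm hom.symm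
      (fun x h h' h'' => by rw [hEx' x h h' h'']; simp), v0, vm, vo, hE0, hd0, ← hEm]
    have e1 : ((-3 * E m : ℤ) : ℚ) ^ 2 = 9 := by
      have : (-3 * E m) ^ 2 = 9 := by rw [mul_pow, hEm2]; norm_num
      exact_mod_cast this
    have e2 : ((-4 * E o : ℤ) : ℚ) ^ 2 = 16 := by
      have : (-4 * E o) ^ 2 = 16 := by rw [mul_pow, hEo]; norm_num
      exact_mod_cast this
    rw [e1, e2, frac_one hEm2 (hd m) rfl, frac_one hEo (hd o) rfl]
    have e3 : ((E o * d o : ℤ) : ℚ) = 1 - ((E m * d m : ℤ) : ℚ) := by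
      have : E o * d o = 1 - E m * d m := by omega
      rw [this]
      push_cast
      ring
    rw [e3]
    norm_num

/-- The combinatorial heart: the degrees and the values. -/
theorem combi (d : ι → ℤ) (hd : ∀ x, 0 < d x) (i0 : ι) (hd0 : d i0 = 1)
    (A B C D E : ι → ℤ)
    (hAA : ∑ x, A x ^ 2 = 2) (hBB : ∑ x, B x ^ 2 = 2) (hCC : ∑ x, C x ^ 2 = 3)
    (hDD : ∑ x, D x ^ 2 = 3) (hEE : ∑ x, E x ^ 2 = 3)
    (hAB : ∑ x, A x * B x = 1) (hAC : ∑ x, A x * C x = 1) (hAD : ∑ x, A x * D x = 1)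
    (hAE : ∑ x, A x * E x = 0) (hBC : ∑ x, B x * C x = 1) (hBD : ∑ x, B x * D x = 1)
    (hBE : ∑ x, B x * E x = 0) (hCD : ∑ x, C x * D x = 1) (hCE : ∑ x, C x * E x = -1)
    (hDE : ∑ x, D x * E x = 1)
    (hA0 : A i0 = 0) (hB0 : B i0 = 0) (hC0 : C i0 = 1) (hD0 : D i0 = 0) (hE0 : E i0 = -1)
    (hAd : ∑ x, A x * d x = 0) (hBd : ∑ x, B x * d x = 0) (hCd : ∑ x, C x * d x = 0)
    (hDd : ∑ x, D x * d x = 0) (hEd : ∑ x, E x * d x = 0)
    (v : ι → ℤ) (hv : ∀ x, v x = 2 * A x + 2 * B x - 3 * C x + D x - 4 * E x) :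
    ∃ X Y : ℤ, X ≠ 0 ∧ X + 1 ≠ 0 ∧ Y ≠ 0 ∧ 1 - Y ≠ 0 ∧
      ∑ x, (C x : ℚ) * ((v x : ℚ) ^ 2 / d x) = 1 + 4 / X - 9 / (X + 1) ∧
      ∑ x, (E x : ℚ) * ((v x : ℚ) ^ 2 / d x) = -1 + 9 / Y + 16 / (1 - Y) := by
  obtain ⟨i, j, k, ε, hε, hij, hik, hjk, hAi, hAj, hAx, hBi, hBk, hBx, hdj, hdk⟩ :=
    two_vectors d A B hd hAA hBB hAB hAd hBd
  have hεne : ε ≠ 0 := by rcases hε with h | h <;> rw [h] <;> norm_num
  have hε2 : ε ^ 2 = 1 := by rcases hε with h | h <;> rw [h] <;> norm_num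
  have h0i : i0 ≠ i := by rintro rfl; exact hεne (hAi ▸ hA0)
  have h0j : i0 ≠ j := by
    rintro rfl
    rw [hA0] at hAj
    omega
  have h0k : i0 ≠ k := by
    rintro rfl
    rw [hB0] at hBk
    omega
  have sumA : ∀ F : ι → ℤ, ∑ x, A x * F x = ε * (F i - F j) := by
    intro F
    rw [sum_two (fun x => A x * F x) i j hij (fun x h h' => by rw [hAx x h h', zero_mul]), hAi, hAj]
    ring
  have sumB : ∀ F : ι → ℤ, ∑ x, B x * F x = ε * (F i - F k) := by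
    intro F
    rw [sum_two (fun x => B x * F x) i k hik (fun x h h' => by rw [hBx x h h', zero_mul]), hBi, hBk]
    ring
  rw [sumA] at hAC hAD hAE
  rw [sumB] at hBC hBD hBE
  obtain ⟨hCi, hCj, hCk, l, hCl, hli, hl0, hlj, hlk, hCx⟩ :=
    lemmaC d C i0 i j k ε hd0 hε hij hik hjk h0i h0j h0k hdj hdk hCC hAC hBC hC0 hCd
  have sumC : ∀ F : ι → ℤ, ∑ x, C x * F x = F i0 + ε * F i + C l * F l := by
    intro F
    rw [sum_three (fun x => C x * F x) i0 i l h0i hl0.symm hli.symm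
      (fun x h h' h'' => by rw [hCx x h h' h'', zero_mul]), hC0, hCi]
    ring
  rw [sumC] at hCD hCE hCd
  rw [hd0] at hCd
  rw [hD0, zero_add] at hCD
  rw [hE0] at hCE
  obtain ⟨hDi, hDj, hDk, hDl, m, n, hDm, hDn, hmi, hni, hmn, hDx⟩ :=
    lemmaD d D i j k l ε (C l) hε hCl hij hik hjk hli hlj hlk hdj hdk hDD hAD hBD hCD hCd hDd
  have ne_of (f : ι → ℤ) {x y : ι} (hx : f x ^ 2 = 1) (hy : f y = 0) : x ≠ y := by
    rintro rfl
    rw [hy] at hx
    norm_num at hx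
  have hDE' : ε * E i + D m * E m + D n * E n = 1 := by
    rw [← hDE, sum_three (fun x => D x * E x) i m n hmi.symm hni.symm hmn
      (fun x h h' h'' => by rw [hDx x h h' h'', zero_mul]), hDi]
  obtain ⟨hEi, hEj, hEk, hEl, hcase, o, hEo, ho0, hom, hon, hEx⟩ :=
    lemmaE E D i0 i j k l m n ε (C l) hε hCl hij hik hjk h0i h0j h0k (ne_of D hDm hD0).symm
      (ne_of D hDn hD0).symm hmn hDm hDn hEE hAE hBE hE0 hCE hDE'
  rcases hcase with ⟨h1, h2⟩ | ⟨h1, h2⟩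
  · exact finish d hd i0 hd0 A B C D E i j k l m n o ε (C l) hε2 hCl hC0 hD0 hE0 hA0 hB0 hAi hBi
      hCi hDi hEi hDj hEj hDk hEk hAx hBx h0i hli hl0 hlj hlk rfl hDl hEl hCx hDm hmi hDx h1 h2
      hEo ho0 hom hon hEx hCd hEd v hv
  · exact finish d hd i0 hd0 A B C D E i j k l n m o ε (C l) hε2 hCl hC0 hD0 hE0 hA0 hB0 hAi hBi
      hCi hDi hEi hDj hEj hDk hEk hAx hBx h0i hli hl0 hlj hlk rfl hDl hEl hCx hDn hni
      (fun x a b c => hDx x a c b) h2 h1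
      hEo ho0 hon hom (fun x a b c e => hEx x a c b e) hCd hEd v hv

end

end Cfsg.Agent.Characters.GL23Combi
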