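import Mathlib
import Cfsg.Agent.S0111

/-!
# Fusion of involutions in a simple group with an involution centraliser `GL(2,3)`

Helper file for S0197: all involutions are conjugate, and the 2-part of the order is 16.
-/

set_option autoImplicit false

namespace Cfsg.Agent.Characters.GL23Fusion

theorem card_GL23 : Nat.card (Matrix.GeneralLinearGroup (Fin 2) (ZMod 3)) = 48 := by
  rw [Matrix.card_GL_field]
  simp [Fin.prod_univ_two, ZMod.card]

theorem comm_count : ∀ a b c d : ZMod 3, (a * a + b * c = 1 ∧ a * b + b * d = 0 ∧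
    c * a + d * c = 0 ∧ c * b + d * d = 1) → ¬ (a = 1 ∧ b = 0 ∧ c = 0 ∧ d = 1) →
    ¬ (a = -1 ∧ b = 0 ∧ c = 0 ∧ d = -1) →
    (Finset.univ.filter (fun q : ZMod 3 × ZMod 3 × ZMod 3 × ZMod 3 =>
      (q.1 * a + q.2.1 * c = a * q.1 + b * q.2.2.1 ∧
       q.1 * b + q.2.1 * d = a * q.2.1 + b * q.2.2.2 ∧
       q.2.2.1 * a + q.2.2.2 * c = c * q.1 + d * q.2.2.1 ∧
       q.2.2.1 * b + q.2.2.2 * d = c * q.2.1 + d * q.2.2.2) ∧
       q.1 * q.2.2.2 - q.2.1 * q.2.2.1 ≠ 0)).card ≤ 4 := by
  decide +kernel

theorem sl_involution : ∀ a b c d : ZMod 3, (a * a + b * c = 1 ∧ a * b + b * d = 0 ∧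
    c * a + d * c = 0 ∧ c * b + d * d = 1) → a * d - b * c = 1 →
    (a = 1 ∧ b = 0 ∧ c = 0 ∧ d = 1) ∨ (a = -1 ∧ b = 0 ∧ c = 0 ∧ d = -1) := by
  decide +kernel

/-- Entries of a square-one matrix. -/
theorem entries_sq {M : Matrix (Fin 2) (Fin 2) (ZMod 3)} (h : M * M = 1) :
    M 0 0 * M 0 0 + M 0 1 * M 1 0 = 1 ∧ M 0 0 * M 0 1 + M 0 1 * M 1 1 = 0 ∧
    M 1 0 * M 0 0 + M 1 1 * M 1 0 = 0 ∧ M 1 0 * M 0 1 + M 1 1 * M 1 1 = 1 := by
  have h00 := congrFun (congrFun h 0) 0
  have h01 := congrFun (congrFun h 0) 1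
  have h10 := congrFun (congrFun h 1) 0
  have h11 := congrFun (congrFun h 1) 1
  simp only [Matrix.mul_apply, Fin.sum_univ_two, Matrix.one_apply_eq] at h00 h11
  simp only [Matrix.mul_apply, Fin.sum_univ_two] at h01 h10
  refine ⟨h00, ?_, ?_, h11⟩
  · simpa using h01
  · simpa using h10

theorem eq_one_of_entries {M : Matrix (Fin 2) (Fin 2) (ZMod 3)}
    (h : M 0 0 = 1 ∧ M 0 1 = 0 ∧ M 1 0 = 0 ∧ M 1 1 = 1) : M = 1 := by
  ext i j
  fin_cases i <;> fin_cases j <;> simp [h.1, h.2.1, h.2.2.1, h.2.2.2]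

theorem eq_neg_one_of_entries {M : Matrix (Fin 2) (Fin 2) (ZMod 3)}
    (h : M 0 0 = -1 ∧ M 0 1 = 0 ∧ M 1 0 = 0 ∧ M 1 1 = -1) : M = -1 := by
  ext i j
  fin_cases i <;> fin_cases j <;> simp [h.1, h.2.1, h.2.2.1, h.2.2.2]

/-- An involution of determinant one is minus one. -/
theorem eq_neg_one_of_det {M : Matrix (Fin 2) (Fin 2) (ZMod 3)} (h : M * M = 1) (h1 : M ≠ 1)
    (hdet : M.det = 1) : M = -1 := by
  rw [Matrix.det_fin_two] at hdet
  rcases sl_involution _ _ _ _ (entries_sq h) hdet with h' | h'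
  · exact absurd (eq_one_of_entries h') h1
  · exact eq_neg_one_of_entries h'

/-- A non-central involution commutes with at most four elements. -/
theorem card_comm_le {M : Matrix (Fin 2) (Fin 2) (ZMod 3)} (h : M * M = 1) (h1 : M ≠ 1)
    (h2 : M ≠ -1) (S : Set (Matrix.GeneralLinearGroup (Fin 2) (ZMod 3)))
    (hS : ∀ x ∈ S, (x : Matrix (Fin 2) (Fin 2) (ZMod 3)) * M = M * x) : S.ncard ≤ 4 := by
  classical
  have key := comm_count (M 0 0) (M 0 1) (M 1 0) (M 1 1) (entries_sq h)
    (fun h' => h1 (eq_one_of_entries h')) (fun h' => h2 (eq_neg_one_of_entries h'))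
  refine le_trans ?_ key
  rw [← Set.ncard_coe_finset]
  refine Set.ncard_le_ncard_of_injOn (fun x : Matrix.GeneralLinearGroup (Fin 2) (ZMod 3) =>
    ((x : Matrix (Fin 2) (Fin 2) (ZMod 3)) 0 0, (x : Matrix (Fin 2) (Fin 2) (ZMod 3)) 0 1,
      (x : Matrix (Fin 2) (Fin 2) (ZMod 3)) 1 0, (x : Matrix (Fin 2) (Fin 2) (ZMod 3)) 1 1))
    ?_ ?_ (Finset.finite_toSet _)
  · intro x hx
    have hc := hS x hx
    have h00 := congrFun (congrFun hc 0) 0
    have h01 := congrFun (congrFun hc 0) 1
    have h10 := congrFun (congrFun hc 1) 0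
    have h11 := congrFun (congrFun hc 1) 1
    simp only [Matrix.mul_apply, Fin.sum_univ_two] at h00 h01 h10 h11
    have hdet : (x : Matrix (Fin 2) (Fin 2) (ZMod 3)).det ≠ 0 := by
      have := (Matrix.isUnit_iff_isUnit_det _).1 x.isUnit
      exact this.ne_zero
    rw [Matrix.det_fin_two] at hdet
    simp only [Finset.coe_filter, Finset.mem_univ, true_and, Set.mem_ofPred_eq]
    exact ⟨⟨h00, h01, h10, h11⟩, hdet⟩
  · intro x _ y _ hxy
    simp only [Prod.mk.injEq] at hxy
    ext i j
    fin_cases i <;> fin_cases j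
    · exact hxy.1
    · exact hxy.2.1
    · exact hxy.2.2.1
    · exact hxy.2.2.2

section

variable {G : Type*} [Group G] [Finite G] (t : G) (ht : orderOf t = 2)
  (e : Subgroup.centralizer ({t} : Set G) ≃* Matrix.GeneralLinearGroup (Fin 2) (ZMod 3))

include e in
omit [Finite G] in
theorem card_centralizer : Nat.card (Subgroup.centralizer ({t} : Set G)) = 48 := by
  rw [← card_GL23]
  exact Nat.card_congr e.toEquiv

omit [Finite G] in
theorem mem_centralizer_self : t ∈ Subgroup.centralizer ({t} : Set G) := by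
  rw [Subgroup.mem_centralizer_iff]
  intro h hh
  rw [Set.mem_singleton_iff] at hh
  rw [hh]

/-- The matrix of an element of the centraliser. -/
noncomputable def toMat (c : Subgroup.centralizer ({t} : Set G)) : Matrix (Fin 2) (Fin 2) (ZMod 3) :=
  (e c : Matrix (Fin 2) (Fin 2) (ZMod 3))

omit [Finite G] in
theorem toMat_mul (c d : Subgroup.centralizer ({t} : Set G)) :
    toMat t e (c * d) = toMat t e c * toMat t e d := by
  simp [toMat]

omit [Finite G] in
theorem toMat_one : toMat t e 1 = 1 := by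
  simp [toMat]

omit [Finite G] in
theorem toMat_injective : Function.Injective (toMat t e) := by
  intro c d h
  exact e.injective (Units.ext h)

omit [Finite G] in
theorem toMat_sq {c : G} (hc : orderOf c = 2) (hcC : c ∈ Subgroup.centralizer ({t} : Set G)) :
    toMat t e ⟨c, hcC⟩ * toMat t e ⟨c, hcC⟩ = 1 ∧ toMat t e ⟨c, hcC⟩ ≠ 1 := by
  constructor
  · rw [← toMat_mul, ← toMat_one t e]
    congr 1
    apply Subtype.ext
    show c * c = 1
    rw [← sq, ← hc, pow_orderOf_eq_one]
  · intro h
    rw [← toMat_one t e] at h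
    have := toMat_injective t e h
    have h1 : c = 1 := congrArg Subtype.val this
    rw [h1, orderOf_one] at hc
    omega

omit [Finite G] in
/-- If an involution `c` of the centraliser commutes with a subgroup of order more than four, it
is minus one. -/
theorem toMat_eq_neg_one {c : G} (hc : orderOf c = 2)
    (hcC : c ∈ Subgroup.centralizer ({t} : Set G)) (S : Subgroup G)
    (hS : S ≤ Subgroup.centralizer ({t} : Set G)) (hcard : 4 < Nat.card S)
    (hcomm : ∀ x ∈ S, x * c = c * x) : toMat t e ⟨c, hcC⟩ = -1 := by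
  obtain ⟨h1, h2⟩ := toMat_sq t e hc hcC
  by_contra h3
  have := card_comm_le h1 h2 h3 (Set.range (fun x : S => e ⟨x, hS x.2⟩)) (by
    rintro _ ⟨x, rfl⟩
    have : (⟨(x : G), hS x.2⟩ : Subgroup.centralizer ({t} : Set G)) * ⟨c, hcC⟩
        = ⟨c, hcC⟩ * ⟨(x : G), hS x.2⟩ := Subtype.ext (hcomm x x.2)
    have h := congrArg (toMat t e) this
    rw [toMat_mul, toMat_mul] at h
    exact h)
  have hinj : Function.Injective (fun x : S => e ⟨x, hS x.2⟩) := by
    intro x y hxy
    have := e.injective hxy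
    exact Subtype.ext
      (congrArg (fun z : Subgroup.centralizer ({t} : Set G) => (z : G)) this)
  rw [← Set.image_univ, Set.ncard_image_of_injective _ hinj, Set.ncard_univ] at this
  omega

include ht in
omit [Finite G] in
theorem toMat_self : toMat t e ⟨t, mem_centralizer_self t⟩ = -1 := by
  refine toMat_eq_neg_one t e ht (mem_centralizer_self t) (Subgroup.centralizer ({t} : Set G))
    le_rfl ?_ ?_
  · rw [card_centralizer t e]
    omega
  · intro x hx
    rw [Subgroup.mem_centralizer_iff] at hx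
    exact (hx t (Set.mem_singleton t)).symm

include ht e in
omit [Finite G] in
theorem eq_of_comm {c : G} (hc : orderOf c = 2)
    (hcC : c ∈ Subgroup.centralizer ({t} : Set G)) (S : Subgroup G)
    (hS : S ≤ Subgroup.centralizer ({t} : Set G)) (hcard : 4 < Nat.card S)
    (hcomm : ∀ x ∈ S, x * c = c * x) : c = t := by
  have h1 := toMat_eq_neg_one t e hc hcC S hS hcard hcomm
  rw [← toMat_self t ht e] at h1
  exact congrArg Subtype.val (toMat_injective t e h1)

include ht e in
/-- A Sylow 2-subgroup of `G` of order 16 inside the centraliser of `t`. -/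
theorem exists_sylow : ∃ P : Sylow 2 G,
    (P : Subgroup G) ≤ Subgroup.centralizer ({t} : Set G) ∧ Nat.card P = 16 := by
  classical
  have : Fact (Nat.Prime 2) := ⟨Nat.prime_two⟩
  set C := Subgroup.centralizer ({t} : Set G) with hC
  have hCcard : Nat.card C = 48 := card_centralizer t e
  let tC : C := ⟨t, mem_centralizer_self t⟩
  have htC : orderOf tC = 2 := by
    rw [← ht]
    exact (Subgroup.orderOf_coe tC).symm
  have hz : IsPGroup 2 (Subgroup.zpowers tC) := by
    refine IsPGroup.of_card (n := 1) ?_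
    rw [Nat.card_zpowers, htC]
    rfl
  obtain ⟨P₀, hP₀⟩ := hz.exists_le_sylow
  have hP₀card : Nat.card P₀ = 16 := by
    rw [P₀.card_eq_multiplicity, hCcard]
    have : (48 : ℕ).factorization 2 = 4 := by
      rw [show (48 : ℕ) = 2 ^ 4 * 3 by norm_num]
      rw [Nat.factorization_mul (by norm_num) (by norm_num), Nat.factorization_pow]
      simp [Nat.Prime.factorization Nat.prime_two, Nat.Prime.factorization Nat.prime_three]
    rw [this]
    norm_num
  set S := (P₀ : Subgroup C).map C.subtype with hS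
  have hScard : Nat.card S = 16 := by
    rw [hS, Subgroup.card_subtype, ← hP₀card]
  have hSp : IsPGroup 2 S := P₀.isPGroup'.map C.subtype
  obtain ⟨P, hP⟩ := hSp.exists_le_sylow
  have hSC : S ≤ C := Subgroup.map_subtype_le _
  have htS : t ∈ S := ⟨tC, hP₀ (Subgroup.mem_zpowers tC), rfl⟩
  have : Nontrivial P := by
    rw [← Finite.one_lt_card_iff_nontrivial]
    have := Subgroup.card_le_of_le hP
    rw [hScard] at this
    have h2 : Nat.card ((P : Subgroup G)) = Nat.card P := rfl
    omega
  have hcn : Nontrivial (Subgroup.center P) := P.isPGroup'.center_nontrivial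
  have hdvd : 2 ∣ Nat.card (Subgroup.center P) := by
    obtain ⟨n, hn⟩ := (P.isPGroup'.to_subgroup (Subgroup.center P)).exists_card_eq
    rcases n with _ | n
    · rw [pow_zero] at hn
      have := Finite.one_lt_card_iff_nontrivial.2 hcn
      omega
    · rw [hn, pow_succ]
      exact dvd_mul_left _ _
  obtain ⟨c, hc⟩ := exists_prime_orderOf_dvd_card' 2 hdvd
  have hcc : orderOf (((c : P) : G)) = 2 := by
    rw [Subgroup.orderOf_coe, Subgroup.orderOf_coe]
    exact hc
  have hcomm : ∀ x ∈ (P : Subgroup G), x * ((c : P) : G) = ((c : P) : G) * x := by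
    intro x hx
    have := (Subgroup.mem_center_iff.1 c.2) ⟨x, hx⟩
    exact congrArg (fun z : P => (z : G)) this
  have hcC : ((c : P) : G) ∈ C := by
    rw [hC, Subgroup.mem_centralizer_iff]
    intro h hh
    rw [Set.mem_singleton_iff] at hh
    rw [hh]
    exact hcomm t (hP htS)
  have hct : ((c : P) : G) = t := by
    refine eq_of_comm t ht e hcc hcC S hSC ?_ (fun x hx => hcomm x (hP hx))
    rw [hScard]
    omega
  have hPC : (P : Subgroup G) ≤ C := by
    intro x hx
    rw [hC, Subgroup.mem_centralizer_iff]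
    intro h hh
    rw [Set.mem_singleton_iff] at hh
    rw [hh, ← hct]
    exact (hcomm x hx).symm
  refine ⟨P, hPC, ?_⟩
  have h1 : Nat.card P ∣ 48 := by
    rw [← hCcard]
    exact Subgroup.card_dvd_of_le hPC
  have h2 : 16 ∣ Nat.card P := by
    rw [← hScard]
    exact Subgroup.card_dvd_of_le hP
  obtain ⟨n, hn⟩ := P.isPGroup'.exists_card_eq
  have h3 : Nat.card P ≤ 48 := Nat.le_of_dvd (by norm_num) h1
  obtain ⟨k, hk⟩ := h2
  have hk3 : k ≤ 3 := by omega
  interval_cases k
  · have := Nat.card_pos (α := P)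
    omega
  · omega
  · exfalso
    rw [hk] at h1
    norm_num at h1
  · exfalso
    have h5 : 3 ∣ 2 ^ n := by
      rw [← hn, hk]
      exact ⟨16, by norm_num⟩
    have h6 := (Nat.prime_three.dvd_of_dvd_pow h5)
    norm_num at h6

include ht e in
/-- The 2-part of the order of `G` is 16. -/
theorem card_two_part : 16 ∣ Nat.card G ∧ ¬ 32 ∣ Nat.card G := by
  have : Fact (Nat.Prime 2) := ⟨Nat.prime_two⟩
  obtain ⟨P, -, hP⟩ := exists_sylow t ht e
  constructor
  · rw [← hP]
    exact Subgroup.card_subgroup_dvd_card _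
  · intro h
    have h1 := P.card_eq_multiplicity
    have h2 : 5 ≤ (Nat.card G).factorization 2 :=
      (Nat.prime_two.pow_dvd_iff_le_factorization Nat.card_pos.ne').1 (by norm_num; exact h)
    have h3 : 2 ^ 5 ≤ 2 ^ (Nat.card G).factorization 2 := Nat.pow_le_pow_right (by norm_num) h2
    rw [← h1, hP] at h3
    norm_num at h3

/-- The subgroup of the centraliser of elements of determinant one. -/
noncomputable def detKer : Subgroup (Subgroup.centralizer ({t} : Set G)) :=
  ((Matrix.GeneralLinearGroup.det (n := Fin 2) (R := ZMod 3)).comp e.toMonoidHom).ker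

omit [Finite G] in
theorem mem_detKer {c : Subgroup.centralizer ({t} : Set G)} :
    c ∈ detKer t e ↔ (toMat t e c).det = 1 := by
  unfold detKer
  rw [MonoidHom.mem_ker, ← Units.val_inj]
  rfl

theorem det_surjective : Function.Surjective
    (Matrix.GeneralLinearGroup.det (n := Fin 2) (R := ZMod 3)) := by
  intro u
  refine ⟨Matrix.GeneralLinearGroup.mkOfDetNeZero (Matrix.diagonal ![(u : ZMod 3), 1]) ?_, ?_⟩
  · simp [Matrix.det_diagonal]
  · apply Units.ext
    show (Matrix.diagonal ![(u : ZMod 3), 1]).det = u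
    simp [Matrix.det_diagonal]

omit [Finite G] in
theorem index_detKer : (detKer t e).index = 2 := by
  unfold detKer
  rw [Subgroup.index_ker, MonoidHom.range_eq_top.2, Nat.card_congr Subgroup.topEquiv.toEquiv,
    Nat.card_eq_fintype_card]
  · decide
  · exact det_surjective.comp e.surjective

include ht in
omit [Finite G] in
theorem eq_of_mem_detKer {u : G} (hu : orderOf u = 2)
    (huC : u ∈ (detKer t e).map (Subgroup.centralizer ({t} : Set G)).subtype) : u = t := by
  obtain ⟨c, hc, rfl⟩ := huC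
  have hc1 := (mem_detKer t e).1 hc
  obtain ⟨h1, h2⟩ := toMat_sq t e hu c.2
  have h3 := eq_neg_one_of_det h1 h2 hc1
  rw [← toMat_self t ht e] at h3
  exact congrArg Subtype.val (toMat_injective t e h3)

include ht e in
/-- All involutions of `G` are conjugate to `t`. -/
theorem involutions_conj [IsSimpleGroup G] (s : G) (hs : orderOf s = 2) :
    ∃ g : G, g * t * g⁻¹ = s := by
  classical
  have : Fact (Nat.Prime 2) := ⟨Nat.prime_two⟩
  obtain ⟨P, hPC, hPcard⟩ := exists_sylow t ht e
  -- it suffices to treat involutions in P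
  suffices H : ∀ u : G, orderOf u = 2 → u ∈ (P : Subgroup G) → ∃ g : G, g * u * g⁻¹ = t by
    have hz : IsPGroup 2 (Subgroup.zpowers s) := by
      refine IsPGroup.of_card (n := 1) ?_
      rw [Nat.card_zpowers, hs]
      rfl
    obtain ⟨P', hP'⟩ := hz.exists_le_sylow
    obtain ⟨g, hg⟩ := MulAction.exists_smul_eq G P' P
    have hmem : g * s * g⁻¹ ∈ (P : Subgroup G) := by
      rw [← hg]
      exact Subgroup.smul_mem_pointwise_smul s (MulAut.conj g) (P' : Subgroup G)
        (hP' (Subgroup.mem_zpowers s))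
    obtain ⟨h, hh⟩ := H (g * s * g⁻¹) (by
      rw [← hs]
      exact orderOf_injective (MulAut.conj g).toMonoidHom (MulAut.conj g).injective s) hmem
    refine ⟨(h * g)⁻¹, ?_⟩
    rw [← hh]
    group
  intro u hu huP
  set C := Subgroup.centralizer ({t} : Set G) with hC
  set K := (detKer t e).map C.subtype with hK
  by_cases huK : u ∈ K
  · exact ⟨1, by rw [eq_of_mem_detKer t ht e hu huK]; group⟩
  have hCcard : Nat.card C = 48 := card_centralizer t e
  have hrel : (K ⊓ (P : Subgroup G)).relIndex (P : Subgroup G) = 2 := by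
    rw [Subgroup.inf_relIndex_right]
    have hPmap : ((P : Subgroup G).subgroupOf C).map C.subtype = (P : Subgroup G) := by
      rw [Subgroup.subgroupOf_map_subtype]
      exact inf_eq_left.2 hPC
    rw [← hPmap, hK, Subgroup.relIndex_map_map_of_injective _ _ C.subtype_injective]
    have : (detKer t e).Normal := by
      unfold detKer
      infer_instance
    have hdvd : (detKer t e).relIndex ((P : Subgroup G).subgroupOf C) ∣ 2 := by
      have := Subgroup.relIndex_dvd_index_of_normal (detKer t e) ((P : Subgroup G).subgroupOf C)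
      rwa [index_detKer] at this
    rcases (Nat.dvd_prime Nat.prime_two).1 hdvd with h1 | h1
    · exfalso
      rw [Subgroup.relIndex_eq_one] at h1
      have h2 := Subgroup.card_dvd_of_le h1
      have h3 : Nat.card ((P : Subgroup G).subgroupOf C) = 16 := by
        rw [← hPcard, ← Subgroup.card_subtype C ((P : Subgroup G).subgroupOf C), hPmap]
      have h4 := (detKer t e).card_mul_index
      rw [index_detKer, hCcard] at h4
      rw [h3] at h2
      have h5 : Nat.card (detKer t e) = 24 := by omega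
      rw [h5] at h2
      norm_num at h2
    · exact h1
  rcases Cfsg.Agent.S0111.result P (K ⊓ (P : Subgroup G)) inf_le_right hrel u hu huP
    (fun h => huK h.1) with ⟨M, hM, hMi, huM⟩ | ⟨g, hg⟩
  · exfalso
    rcases hM.eq_bot_or_eq_top with h | h
    · rw [h, Subgroup.index_bot] at hMi
      have := (card_two_part t ht e).1
      rw [hMi] at this
      norm_num at this
    · rw [h] at huM
      exact huM (Subgroup.mem_top u)
  · refine ⟨g, eq_of_mem_detKer t ht e ?_ hg.1⟩
    rw [← hu]
    exact orderOf_injective (MulAut.conj g).toMonoidHom (MulAut.conj g).injective u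

end

/-- Fusion and 2-part in a simple group with an involution centraliser `GL(2,3)`. -/
theorem fusion {G : Type*} [Group G] [Finite G] [IsSimpleGroup G] (t : G) (ht : orderOf t = 2)
    (e : Subgroup.centralizer ({t} : Set G) ≃* Matrix.GeneralLinearGroup (Fin 2) (ZMod 3)) :
    (∀ x : G, orderOf x = 2 → IsConj t x) ∧ ∃ k : ℕ, Nat.card G = 48 * k ∧ Odd k := by
  refine ⟨fun x hx => ?_, ?_⟩
  · obtain ⟨g, hg⟩ := involutions_conj t ht e x hx
    exact isConj_iff.2 ⟨g, hg⟩
  · obtain ⟨k, hk⟩ := Subgroup.card_subgroup_dvd_card (Subgroup.centralizer ({t} : Set G))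
    rw [card_centralizer t e] at hk
    refine ⟨k, hk, ?_⟩
    rw [← Nat.not_even_iff_odd]
    rintro ⟨m, hm⟩
    apply (card_two_part t ht e).2
    rw [hk, hm]
    exact ⟨3 * m, by ring⟩

end Cfsg.Agent.Characters.GL23Fusion
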