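import Mathlib

/-!
# The number theory at the end of the `GL(2,3)` centralizer theorem
-/

set_option autoImplicit false

namespace Cfsg.Agent.Characters.GL23Number

theorem aux1 (k w : ℤ) (hodd : k % 2 = 1) (h : k * (w * w) = 96 * (w * w) + 480 * w + 576) :
    k = 165 ∨ k = 45 ∨ k = 117 ∨ k = 77 := by
  have hw : w ∣ 576 := ⟨k * w - 96 * w - 480, by linear_combination (-1 : ℤ) * h⟩
  have h1 : w.natAbs ∈ Nat.divisors 576 := by
    rw [Nat.mem_divisors]
    exact ⟨by simpa using Int.natAbs_dvd_natAbs.2 hw, by norm_num⟩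
  have h2 : Nat.divisors 576 = {1, 2, 3, 4, 6, 8, 9, 12, 16, 18, 24, 32, 36, 48, 64, 72, 96, 144, 192, 288, 576} := by
    decide +kernel
  rw [h2] at h1
  simp only [Finset.mem_insert, Finset.mem_singleton] at h1
  rcases Int.natAbs_eq w with h3 | h3 <;> rw [h3] at h <;>
  rcases h1 with h1 | h1 | h1 | h1 | h1 | h1 | h1 | h1 | h1 | h1 | h1 | h1 | h1 | h1 | h1 | h1 | h1 | h1 | h1 | h1 | h1 <;>
  rw [h1] at h <;> norm_num at h <;> omega

theorem aux2 (k v : ℤ) (hodd : k % 2 = 1) (h : k * (v * v) = 192 * (v * v) - 1344 * v + 2304) :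
    k = 285 ∨ k = 117 ∨ k = 221 ∨ k = 165 := by
  have hw : v ∣ 2304 := ⟨k * v - 192 * v + 1344, by linear_combination (-1 : ℤ) * h⟩
  have h1 : v.natAbs ∈ Nat.divisors 2304 := by
    rw [Nat.mem_divisors]
    exact ⟨by simpa using Int.natAbs_dvd_natAbs.2 hw, by norm_num⟩
  have h2 : Nat.divisors 2304 = {1, 2, 3, 4, 6, 8, 9, 12, 16, 18, 24, 32, 36, 48, 64, 72, 96, 128, 144, 192, 256, 288, 384, 576, 768, 1152, 2304} := by
    decide +kernel
  rw [h2] at h1
  simp only [Finset.mem_insert, Finset.mem_singleton] at h1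
  rcases Int.natAbs_eq v with h3 | h3 <;> rw [h3] at h <;>
  rcases h1 with h1 | h1 | h1 | h1 | h1 | h1 | h1 | h1 | h1 | h1 | h1 | h1 | h1 | h1 | h1 | h1 | h1 | h1 | h1 | h1 | h1 | h1 | h1 | h1 | h1 | h1 | h1 <;>
  rw [h1] at h <;> norm_num at h <;> omega

theorem number_theory (k X Y : ℤ) (hk : 0 < k) (hodd : Odd k) (hX : X ≠ 0) (hX1 : X + 1 ≠ 0) (hY : Y ≠ 0) (hY1 : 1 - Y ≠ 0) (h1 : k * (X - 2) ^ 2 = 96 * X * (X + 1)) (h2 : k * (Y + 3) ^ 2 = 192 * Y * (Y - 1)) : k = 165 ∨ k = 117 := by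
  have ho : k % 2 = 1 := Int.odd_iff.1 hodd
  have a1 := aux1 k (X - 2) ho (by linear_combination h1)
  have a2 := aux2 k (Y + 3) ho (by linear_combination h2)
  omega

end Cfsg.Agent.Characters.GL23Number
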