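import Mathlib
import Cfsg.Agent.Characters.Core
import Cfsg.Agent.Characters.GL23
import Cfsg.Agent.Characters.GL23Fusion
import Cfsg.Agent.Characters.GL23Combi
import Cfsg.Agent.Characters.CentInvClassAlg
import Cfsg.Agent.Characters.CentInvTI
import Cfsg.Agent.Characters.GL23Number
import Cfsg.Agent.S0148
import Cfsg.Agent.S0150

/-!
# Simple groups with an involution centralizer `GL(2,3)`: the assembly
-/

set_option autoImplicit false
open Cfsg

namespace Cfsg.Agent.Characters.GL23Assembly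

open Cfsg.Agent.Characters Cfsg.Agent.Characters.GL23 Cfsg.Agent.Characters.GL23Table
open scoped ComplexConjugate

theorem isGen_indFun {G : Type*} [Group G] [Fintype G] (H : Subgroup G) (θ : H → ℂ)
    (hθ : IsGeneralizedCharacter H θ) : IsGeneralizedCharacter G (indFun H θ) := by
  obtain ⟨a, b, ha, hb, rfl⟩ := hθ
  refine ⟨indFun H a, indFun H b, S0148.result H a ha, S0148.result H b hb, ?_⟩
  funext g
  have hext : ∀ x : G, extendByZero H (a - b) x = extendByZero H a x - extendByZero H b x := by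
    intro x
    by_cases hx : x ∈ H
    · have h1 := S0150.extendByZero_coe H (a - b) ⟨x, hx⟩
      have h2 := S0150.extendByZero_coe H a ⟨x, hx⟩
      have h3 := S0150.extendByZero_coe H b ⟨x, hx⟩
      rw [h1, h2, h3]
      rfl
    · rw [S0150.extendByZero_of_notMem H _ hx, S0150.extendByZero_of_notMem H _ hx,
        S0150.extendByZero_of_notMem H _ hx, sub_zero]
  rw [Pi.sub_apply, S0150.indFun_apply, S0150.indFun_apply, S0150.indFun_apply, ← mul_sub,
    ← Finset.sum_sub_distrib]
  simp only [hext]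

theorem isGen_comp {G H : Type*} [Group G] [Group H] (f : H →* G) {χ : G → ℂ}
    (hχ : IsGeneralizedCharacter G χ) : IsGeneralizedCharacter H (χ ∘ f) := by
  obtain ⟨a, b, ha, hb, rfl⟩ := hχ
  exact ⟨a ∘ f, b ∘ f, Core.isCharacter_comp f ha, Core.isCharacter_comp f hb, rfl⟩

theorem isGen_isClassFunction {G : Type*} [Group G] {χ : G → ℂ}
    (hχ : IsGeneralizedCharacter G χ) : IsClassFunction G χ := by
  obtain ⟨a, b, ha, hb, rfl⟩ := hχ
  intro g h
  rw [Pi.sub_apply, Pi.sub_apply, Core.isCharacter_isClassFunction ha g h,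
    Core.isCharacter_isClassFunction hb g h]

theorem classInner_comp {G H : Type*} [Group G] [Group H] [Fintype G] [Fintype H] (e : H ≃* G)
    (φ ψ : G → ℂ) : classInner (φ ∘ e) (ψ ∘ e) = classInner φ ψ := by
  rw [Core.classInner_def, Core.classInner_def, Nat.card_congr e.toEquiv]
  congr 1
  exact Equiv.sum_comp e.toEquiv (fun g => φ g * conj (ψ g))

section main

variable {G : Type*} [Group G] [Fintype G] [Fintype (IrrCharacter G)] (t : G)
  (ht : orderOf t = 2)
  (e : Subgroup.centralizer ({t} : Set G) ≃* Matrix.GeneralLinearGroup (Fin 2) (ZMod 3))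

/-- `t` as an element of its centralizer -/
def tC : Subgroup.centralizer ({t} : Set G) :=
  ⟨t, Subgroup.mem_centralizer_singleton_iff.mpr rfl⟩

include ht in
theorem e_t : e (tC t) = -1 := by
  have ho : orderOf (e (tC t)) = 2 := by
    rw [MulEquiv.orderOf_eq, ← Subgroup.orderOf_coe]
    exact ht
  apply eq_neg_one_of_central _ ho
  intro x
  have h1 : tC t * e.symm x = e.symm x * tC t := by
    apply Subtype.ext
    have := Subgroup.mem_centralizer_singleton_iff.mp (e.symm x).2
    exact this.symm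
  have h2 := congrArg e h1
  rw [map_mul, map_mul, MulEquiv.apply_symm_apply] at h2
  exact h2

/-- the five functions on the centralizer -/
noncomputable def alC (i : Fin 5) : Subgroup.centralizer ({t} : Set G) → ℂ :=
  (fun g : Grp => emb (alG i g)) ∘ e

theorem isGen_alC (i : Fin 5) :
    IsGeneralizedCharacter (Subgroup.centralizer ({t} : Set G)) (alC t e i) := by
  have h := isGen_comp (χ := fun g : Grp => emb (alG i g)) e.toMonoidHom (isGen_alG i)
  exact h

include ht in
theorem alC_support (i : Fin 5) (h : Subgroup.centralizer ({t} : Set G)) (hh : alC t e i h ≠ 0) :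
    ∃ k : ℕ, (h : G) ^ k = t := by
  have h1 : alG i (e h) ≠ 0 := by
    intro h0
    apply hh
    rw [alC, Function.comp_apply, h0, map_zero]
  obtain ⟨k, hk⟩ := alG_support i (e h) h1
  refine ⟨k, ?_⟩
  have h2 : e (h ^ k) = e (tC t) := by
    rw [map_pow, hk, e_t t ht e]
  have h3 := congrArg (Subgroup.subtype _) (e.injective h2)
  rw [map_pow] at h3
  exact h3

open scoped Classical in
include ht in
/-- The value of an irreducible character at `t` -/
theorem value_t [Fintype (Subgroup.centralizer ({t} : Set G))] (m : Fin 5 → IrrCharacter G → ℤ)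
    (hm : ∀ i, indFun _ (alC t e i) = ∑ χ : IrrCharacter G, m i χ • (χ : G → ℂ))
    (χ : IrrCharacter G) :
    (χ : G → ℂ) t = ((∑ i, wt i * m i χ : ℤ) : ℂ) := by
  have h1 : ∀ i, (m i χ : ℂ) = classInner (alC t e i) (fun x => (χ : G → ℂ) x) := by
    intro i
    rw [← S0150.classInner_indFun _ _ _ (fun g h => Core.isIrr_isClassFunction χ.2 g h), hm i]
    have := Core.classInner_sum_smul_irr (fun ψ : IrrCharacter G => ((m i ψ : ℤ) : ℂ)) χ
    rw [← this]
    congr 1
    refine Finset.sum_congr rfl fun ψ _ => ?_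
    rw [Int.cast_smul_eq_zsmul]
  have h2 : ((∑ i, wt i * m i χ : ℤ) : ℂ) = conj ((χ : G → ℂ) t) := by
    push_cast
    simp only [h1, Core.classInner_def]
    have h3 : ∑ i : Fin 5, (wt i : ℂ) * ((Nat.card (Subgroup.centralizer ({t} : Set G)) : ℂ)⁻¹ *
        ∑ g : Subgroup.centralizer ({t} : Set G), alC t e i g * conj ((χ : G → ℂ) g)) =
        (Nat.card (Subgroup.centralizer ({t} : Set G)) : ℂ)⁻¹ *
        ∑ g : Subgroup.centralizer ({t} : Set G), (∑ i : Fin 5, (wt i : ℂ) * alC t e i g) *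
          conj ((χ : G → ℂ) g) := by
      simp only [Finset.mul_sum, Finset.sum_mul]
      rw [Finset.sum_comm]
      refine Finset.sum_congr rfl fun g _ => Finset.sum_congr rfl fun i _ => ?_
      ring
    rw [h3]
    have h4 : ∀ g : Subgroup.centralizer ({t} : Set G),
        ∑ i : Fin 5, (wt i : ℂ) * alC t e i g = if g = tC t then 48 else 0 := by
      intro g
      have := wt_sum_alG (e g)
      refine this.trans ?_
      by_cases hg : g = tC t
      · rw [if_pos hg, if_pos (by rw [hg]; exact e_t t ht e)]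
      · rw [if_neg hg, if_neg]
        intro hh
        apply hg
        apply e.injective
        rw [hh, e_t t ht e]
    simp only [h4]
    rw [Finset.sum_eq_single (tC t), if_pos rfl, Nat.card_congr e.toEquiv, natCard_Grp]
    · have : ((tC t : Subgroup.centralizer ({t} : Set G)) : G) = t := rfl
      rw [this]
      push_cast
      field_simp
    · intro g _ hg
      rw [if_neg hg, zero_mul]
    · intro h
      exact absurd (Finset.mem_univ _) h
  have h3 := congrArg (starRingEnd ℂ) h2
  rw [Complex.conj_conj, map_intCast] at h3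
  exact h3.symm

open scoped Classical in
theorem inv_sum_alC [Fintype (Subgroup.centralizer ({t} : Set G))] (i : Fin 5) :
    ∑ x : Subgroup.centralizer ({t} : Set G), ∑ y : Subgroup.centralizer ({t} : Set G),
      (if orderOf x = 2 ∧ orderOf y = 2 then alC t e i (x * y) else 0) =
    ∑ x : Grp, ∑ y : Grp, (if orderOf x = 2 ∧ orderOf y = 2 then emb (alG i (x * y)) else 0) := by
  rw [← Equiv.sum_comp e.toEquiv]
  refine Finset.sum_congr rfl fun x _ => ?_
  rw [← Equiv.sum_comp e.toEquiv]
  refine Finset.sum_congr rfl fun y _ => ?_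
  have h1 : orderOf (e.toEquiv x) = orderOf x := MulEquiv.orderOf_eq e x
  have h2 : orderOf (e.toEquiv y) = orderOf y := MulEquiv.orderOf_eq e y
  have h3 : e.toEquiv x * e.toEquiv y = e (x * y) := (map_mul e x y).symm
  rw [h1, h2, h3]
  rfl

end main

theorem arith_of_sums {k : ℕ} {X Y : ℤ} (hX : X ≠ 0) (hX1 : X + 1 ≠ 0) (hY : Y ≠ 0)
    (hY1 : 1 - Y ≠ 0) (h3 : (k : ℚ) * (1 + 4 / X - 9 / (X + 1)) = 96)
    (h5 : (k : ℚ) * (-1 + 9 / Y + 16 / (1 - Y)) = -192) :
    (k : ℤ) * (X - 2) ^ 2 = 96 * X * (X + 1) ∧ (k : ℤ) * (Y + 3) ^ 2 = 192 * Y * (Y - 1) := by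
  have hX' : (X : ℚ) ≠ 0 := by exact_mod_cast hX
  have hX1' : (X : ℚ) + 1 ≠ 0 := by exact_mod_cast hX1
  have hY' : (Y : ℚ) ≠ 0 := by exact_mod_cast hY
  have hY1' : 1 - (Y : ℚ) ≠ 0 := by exact_mod_cast hY1
  constructor
  · have : (k : ℚ) * (X - 2) ^ 2 = 96 * X * (X + 1) := by
      field_simp at h3
      linear_combination h3
    exact_mod_cast this
  · have : (k : ℚ) * (Y + 3) ^ 2 = 192 * Y * (Y - 1) := by
      field_simp at h5
      linear_combination h5
    exact_mod_cast this

open scoped Classical in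
theorem main_thm {G : Type*} [Group G] [Fintype G] [IsSimpleGroup G] (t : G) (ht : orderOf t = 2)
    (e : Subgroup.centralizer ({t} : Set G) ≃* Matrix.GeneralLinearGroup (Fin 2) (ZMod 3)) :
    Nat.card G = 5616 ∨ Nat.card G = 7920 := by
  have hfin := Core.finite_irr (G := G)
  have : Fintype (IrrCharacter G) := Fintype.ofFinite _
  have : Fintype (Subgroup.centralizer ({t} : Set G)) := Fintype.ofFinite _
  obtain ⟨hconj, k, hk, hodd⟩ := GL23Fusion.fusion t ht e
  have hgen : ∀ i, IsGeneralizedCharacter G (indFun _ (alC t e i)) :=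
    fun i => isGen_indFun _ _ (isGen_alC t e i)
  choose m hm using fun i => Core.isGeneralizedCharacter_iff.mp (hgen i)
  have hm' : ∀ i, indFun _ (alC t e i) = ∑ χ : IrrCharacter G, ((m i χ : ℤ) : ℂ) • (χ : G → ℂ) := by
    intro i
    rw [hm i]
    refine Finset.sum_congr rfl fun ψ _ => ?_
    rw [Int.cast_smul_eq_zsmul]
  have hclass : ∀ i, IsClassFunction _ (alC t e i) := fun i =>
    isGen_isClassFunction (isGen_alC t e i)
  have hCard : Nat.card (Subgroup.centralizer ({t} : Set G)) = 48 := by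
    rw [Nat.card_congr e.toEquiv, natCard_Grp]
  -- Gram matrix
  have hgram : ∀ i j, ∑ χ, m i χ * m j χ = gram i j := by
    intro i j
    have h1 := CentInvTI.classInner_ind t ht (alC t e i) (alC t e j) (hclass i) (hclass j)
      (alC_support t ht e i) (alC_support t ht e j)
    rw [hm' i, hm' j, Core.classInner_sum_smul_sum_smul] at h1
    have h2 : classInner (alC t e i) (alC t e j) = gram i j := by
      rw [← classInner_alG i j]
      exact classInner_comp e _ _
    rw [h2] at h1
    simp only [map_intCast] at h1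
    exact_mod_cast h1
  -- trivial character
  have hi0 : ∀ i, m i ⟨1, Core.isIrr_one⟩ = (![0,0,1,0,-1] : Fin 5 → ℤ) i := by
    intro i
    have h1 := Core.classInner_sum_smul_irr (fun ψ : IrrCharacter G => ((m i ψ : ℤ) : ℂ))
      ⟨1, Core.isIrr_one⟩
    rw [← hm' i, S0150.classInner_indFun _ _ _ (fun g h => rfl)] at h1
    have h2 := classInner_alG_one i
    rw [← classInner_comp e] at h2
    have h3 : ((m i ⟨1, Core.isIrr_one⟩ : ℤ) : ℂ) = ((![0,0,1,0,-1] : Fin 5 → ℤ) i : ℤ) := by
      rw [← h1, ← h2]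
      rfl
    exact_mod_cast h3
  -- degrees
  choose d hdpos hd using fun χ : IrrCharacter G => Core.isIrr_apply_one χ.2
  have hdeg : ∀ i, ∑ χ, m i χ * (d χ : ℤ) = 0 := by
    intro i
    have h1 := CentInvTI.ind_one t ht (alC t e i) (alC_support t ht e i)
    rw [hm' i, Finset.sum_apply] at h1
    have h2 : ∑ χ : IrrCharacter G, ((m i χ : ℤ) : ℂ) * (d χ : ℂ) = 0 := by
      rw [← h1]
      refine Finset.sum_congr rfl fun χ _ => ?_
      rw [Pi.smul_apply, hd χ, smul_eq_mul]
    exact_mod_cast h2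
  -- the values at `t`
  have hval : ∀ χ : IrrCharacter G, (χ : G → ℂ) t = ((∑ i, wt i * m i χ : ℤ) : ℂ) :=
    fun χ => value_t t ht e m hm χ
  obtain ⟨X, Y, hX, hX1, hY, hY1, hS3, hS5⟩ := GL23Combi.combi (fun χ : IrrCharacter G => (d χ : ℤ))
    (fun χ => by exact_mod_cast hdpos χ) ⟨1, Core.isIrr_one⟩
    (by
      have h1 := hd ⟨1, Core.isIrr_one⟩
      have h2 : (1 : ℂ) = (d ⟨1, Core.isIrr_one⟩ : ℂ) := h1
      exact_mod_cast h2.symm)
    (m 0) (m 1) (m 2) (m 3) (m 4)
    (by simp only [pow_two]; exact hgram 0 0) (by simp only [pow_two]; exact hgram 1 1)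
    (by simp only [pow_two]; exact hgram 2 2) (by simp only [pow_two]; exact hgram 3 3)
    (by simp only [pow_two]; exact hgram 4 4)
    (hgram 0 1) (hgram 0 2) (hgram 0 3) (hgram 0 4) (hgram 1 2) (hgram 1 3) (hgram 1 4)
    (hgram 2 3) (hgram 2 4) (hgram 3 4) (hi0 0) (hi0 1) (hi0 2) (hi0 3) (hi0 4)
    (hdeg 0) (hdeg 1) (hdeg 2) (hdeg 3) (hdeg 4)
    (fun χ => ∑ i, wt i * m i χ)
    (by
      intro χ
      rw [Fin.sum_univ_five]
      change (2 : ℤ) * m 0 χ + (2 : ℤ) * m 1 χ + (-3 : ℤ) * m 2 χ + (1 : ℤ) * m 3 χ +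
        (-4 : ℤ) * m 4 χ = _
      ring)
  have hsum : ∀ i : Fin 5, ∀ c : ℤ,
      (∑ x : Grp, ∑ y : Grp, (if orderOf x = 2 ∧ orderOf y = 2 then emb (alG i (x * y)) else 0)
        = (c : ℂ)) →
      (k : ℚ) * (∑ χ : IrrCharacter G, (m i χ : ℚ) *
        (((∑ j, wt j * m j χ : ℤ) : ℚ) ^ 2 / ((d χ : ℤ) : ℚ))) = c := by
    intro i c hc
    have h1 := CentInvClassAlg.class_algebra t ht hconj (alC t e i) (alC_support t ht e i) (m i)
      (hm i)
    rw [inv_sum_alC t e i, hc, hCard, hk] at h1
    have h2 : ((∑ χ : IrrCharacter G, (m i χ : ℚ) *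
        (((∑ j, wt j * m j χ : ℤ) : ℚ) ^ 2 / ((d χ : ℤ) : ℚ)) : ℚ) : ℂ) =
        ∑ χ : IrrCharacter G, (m i χ : ℂ) * ((χ : G → ℂ) t ^ 2 / (χ : G → ℂ) 1) := by
      rw [Rat.cast_sum]
      refine Finset.sum_congr rfl fun χ _ => ?_
      rw [hval χ, hd χ]
      push_cast
      rfl
    rw [← h2] at h1
    have h3 : ((48 * k : ℕ) : ℚ) * (∑ χ : IrrCharacter G, (m i χ : ℚ) *
        (((∑ j, wt j * m j χ : ℤ) : ℚ) ^ 2 / ((d χ : ℤ) : ℚ))) = (48 : ℕ) * (c : ℚ) := by
      exact_mod_cast h1
    push_cast at h3 ⊢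
    linarith
  have h3 := hsum 2 96 (by rw [inv_sum_alG_two]; norm_num)
  have h5 := hsum 4 (-192) (by rw [inv_sum_alG_four]; norm_num)
  rw [hS3] at h3
  rw [hS5] at h5
  obtain ⟨e3, e5⟩ := arith_of_sums hX hX1 hY hY1 (by exact_mod_cast h3) (by exact_mod_cast h5)
  have hkpos : 0 < k := by
    rcases Nat.eq_zero_or_pos k with h | h
    · rw [h] at hodd; exact absurd hodd (by decide)
    · exact h
  rcases GL23Number.number_theory k X Y (by exact_mod_cast hkpos) (by exact_mod_cast hodd)
    hX hX1 hY hY1 e3 e5 with h | h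
  · right
    have : k = 165 := by exact_mod_cast h
    rw [hk, this]
  · left
    have : k = 117 := by exact_mod_cast h
    rw [hk, this]

end Cfsg.Agent.Characters.GL23Assembly
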