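import Mathlib
import Cfsg.Prelude.Def_Characters
import Cfsg.Agent.Characters.GaloisBasic
import Cfsg.Agent.Characters.Core

/-!
# Galois action on irreducible characters

See `GaloisBasic` for the part on character values.

* `isIrr_map`: Galois conjugates of irreducible characters.
* `isIrr_pow`: `g ↦ χ (g ^ m)` for `m` coprime to the group order.
* `isConj_iff_forall_irr`: irreducible characters separate the conjugacy classes.
-/

set_option autoImplicit false

open scoped ComplexConjugate
open Cfsg Module

namespace Cfsg.Agent.Characters.GaloisIrr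

universe u

variable {G : Type u} [Group G]

/-- The inner product of Galois conjugates of characters. -/
theorem classInner_map [Fintype G] (σ : ℂ ≃+* ℂ) {χ ψ : G → ℂ} (hψ : IsCharacter G ψ) :
    classInner (fun g => σ (χ g)) (fun g => σ (ψ g)) = σ (classInner χ ψ) := by
  show (Nat.card G : ℂ)⁻¹ * ∑ g : G, σ (χ g) * conj (σ (ψ g)) =
    σ ((Nat.card G : ℂ)⁻¹ * ∑ g : G, χ g * conj (ψ g))
  rw [map_mul, map_inv₀, map_natCast, map_sum]
  congr 1
  refine Finset.sum_congr rfl fun g _ => ?_
  rw [map_mul]
  congr 1
  have h1 := Core.isCharacter_apply_inv (GaloisBasic.isCharacter_map σ hψ) g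
  have h2 := Core.isCharacter_apply_inv hψ g
  exact h1.symm.trans (congrArg σ h2)

/-- The Galois conjugate of an irreducible character is an irreducible character. -/
theorem isIrr_map [Finite G] (σ : ℂ ≃+* ℂ) {χ : G → ℂ} (hχ : IsIrrCharacter G χ) :
    IsIrrCharacter G (fun g => σ (χ g)) := by
  have := Fintype.ofFinite G
  have h1 := Core.isIrr_isCharacter hχ
  rw [Core.isIrr_iff_classInner_self (GaloisBasic.isCharacter_map σ h1), classInner_map σ h1,
    Core.classInner_irr_self hχ, map_one]

/-- For `m` coprime to the group order, `g ↦ χ (g ^ m)` is an irreducible character if `χ` is. -/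
theorem isIrr_pow [Finite G] {m : ℕ} (hm : m.Coprime (Nat.card G)) {χ : G → ℂ}
    (hχ : IsIrrCharacter G χ) : IsIrrCharacter G (fun g => χ (g ^ m)) := by
  obtain ⟨σ, hσ⟩ := GaloisBasic.exists_ringEquiv_of_coprime (G := G) hm
  have := isIrr_map σ hχ
  have h : (fun g => σ (χ g)) = fun g => χ (g ^ m) :=
    funext fun g => hσ χ (Core.isIrr_isCharacter hχ) g
  rwa [h] at this

/-- Irreducible characters separate the conjugacy classes. -/
theorem isConj_of_forall_irr [Finite G] {g h : G}
    (H : ∀ χ : G → ℂ, IsIrrCharacter G χ → χ g = χ h) : IsConj g h := by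
  classical
  have := Fintype.ofFinite G
  have := Core.finite_irr (G := G)
  have := Fintype.ofFinite (IrrCharacter G)
  let f : G → ℂ := fun x => if IsConj g x then 1 else 0
  have hf : IsClassFunction G f := by
    intro x y
    have : IsConj g (y * x * y⁻¹) ↔ IsConj g x := by
      have h1 : IsConj x (y * x * y⁻¹) := isConj_iff.2 ⟨y, rfl⟩
      exact ⟨fun h => h.trans h1.symm, fun h => h.trans h1⟩
    simp only [f, this]
  have h1 := Core.classFunction_eq_sum hf
  have h2 : f g = f h := by
    rw [h1]
    simp only [Finset.sum_apply, Pi.smul_apply]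
    refine Finset.sum_congr rfl fun χ _ => ?_
    rw [H χ.1 χ.2]
  by_contra hcon
  have h3 : f g = 1 := if_pos (IsConj.refl g)
  have h4 : f h = 0 := if_neg hcon
  rw [h3, h4] at h2
  exact one_ne_zero h2

theorem isConj_iff_forall_irr [Finite G] {g h : G} :
    IsConj g h ↔ ∀ χ : G → ℂ, IsIrrCharacter G χ → χ g = χ h := by
  constructor
  · intro H χ hχ
    obtain ⟨c, rfl⟩ := isConj_iff.1 H
    exact (Core.isIrr_isClassFunction hχ g c).symm
  · exact isConj_of_forall_irr

end Cfsg.Agent.Characters.GaloisIrr
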