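import Mathlib

/-!
# Itô's theorem on character degrees, without Clifford theory

Let `ρ` be an irreducible complex representation of the finite group `G` on `V`, `A` an abelian
normal subgroup, and `e l` (`l` a linear character of `A`) the weight idempotents of `ρ|A`.  With
`T` a transversal of `A` in `G` and `c = [G : A] / dim V` one has
`c ^ 2 • 1 = ∑ (s t : T) (l), ρ s * e l * ρ t * e l * ρ s⁻¹ * e l * ρ t⁻¹`,
and the right-hand side lies in the subring spanned over `ℤ` by the finitely many `ρ g * e l`.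
So `c ^ 2`, and hence `c`, is an algebraic integer.
-/

set_option autoImplicit false

namespace Cfsg.Agent.Characters.Ito

open Module

section weights

variable {A : Type*} [CommGroup A] [Fintype A] {V : Type*} [AddCommGroup V] [Module ℂ V]

/-- The weight idempotent of the linear character `l` of the abelian group `A`. -/
noncomputable def wt (ρ : Representation ℂ A V) (l : AddChar (Additive A) ℂ) : Module.End ℂ V :=
  (Fintype.card A : ℂ)⁻¹ • ∑ a : A, l (Additive.ofMul a⁻¹) • ρ a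

theorem wt_def (ρ : Representation ℂ A V) (l : AddChar (Additive A) ℂ) :
    wt ρ l = (Fintype.card A : ℂ)⁻¹ • ∑ a : A, l (Additive.ofMul a⁻¹) • ρ a := rfl

omit [Fintype A] in
theorem char_inv_mul (l : AddChar (Additive A) ℂ) (a b : A) :
    l (Additive.ofMul (a * b)) = l (Additive.ofMul a) * l (Additive.ofMul b) := by
  rw [ofMul_mul, AddChar.map_add_eq_mul]

omit [Fintype A] in
theorem char_inv_mul_self (l : AddChar (Additive A) ℂ) (a : A) :
    l (Additive.ofMul a⁻¹) * l (Additive.ofMul a) = 1 := by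
  rw [← char_inv_mul, inv_mul_cancel, ofMul_one, AddChar.map_zero_eq_one]

theorem mul_wt (ρ : Representation ℂ A V) (l : AddChar (Additive A) ℂ) (b : A) :
    ρ b * wt ρ l = l (Additive.ofMul b) • wt ρ l := by
  rw [wt_def, mul_smul_comm, Finset.mul_sum, smul_comm]
  refine congrArg (fun x : Module.End ℂ V => (Fintype.card A : ℂ)⁻¹ • x) ?_
  rw [Finset.smul_sum]
  refine Fintype.sum_equiv (Equiv.mulLeft b) _ _ fun a => ?_
  rw [Equiv.coe_mulLeft, mul_smul_comm, ← map_mul, smul_smul, mul_inv_rev, mul_comm a⁻¹ b⁻¹,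
    char_inv_mul, ← mul_assoc, mul_comm (l (Additive.ofMul b)), char_inv_mul_self, one_mul]

theorem wt_mul (ρ : Representation ℂ A V) (l : AddChar (Additive A) ℂ) (b : A) :
    wt ρ l * ρ b = l (Additive.ofMul b) • wt ρ l := by
  rw [← mul_wt, wt_def, mul_smul_comm, smul_mul_assoc, Finset.mul_sum, Finset.sum_mul]
  congr 1
  refine Finset.sum_congr rfl fun a _ => ?_
  rw [mul_smul_comm, smul_mul_assoc, ← map_mul, ← map_mul, mul_comm]

open scoped Classical in
theorem wt_mul_wt (ρ : Representation ℂ A V) (l m : AddChar (Additive A) ℂ) :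
    wt ρ l * wt ρ m = if l = m then wt ρ m else 0 := by
  have h1 : wt ρ l * wt ρ m
      = ((Fintype.card A : ℂ)⁻¹ * ∑ a : A, (m - l) (Additive.ofMul a)) • wt ρ m := by
    rw [wt_def ρ l, smul_mul_assoc, Finset.sum_mul, mul_smul]
    congr 1
    rw [Finset.sum_smul]
    refine Finset.sum_congr rfl fun a _ => ?_
    rw [smul_mul_assoc, mul_wt, smul_smul, AddChar.sub_apply', ofMul_inv,
      AddChar.map_neg_eq_inv, mul_comm, div_eq_mul_inv]
  have h2 : ∑ a : A, (m - l) (Additive.ofMul a) = if m - l = 0 then (Fintype.card A : ℂ) else 0 := by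
    have h3 := AddChar.sum_eq_ite (m - l)
    have h4 : ∑ a : A, (m - l) (Additive.ofMul a) = ∑ a : Additive A, (m - l) a :=
      Fintype.sum_equiv Additive.ofMul _ _ fun a => rfl
    rw [h4, h3]
    have h5 : Fintype.card (Additive A) = Fintype.card A := Fintype.card_congr Additive.toMul
    rw [h5]
  rw [h1, h2]
  by_cases h : l = m
  · subst h
    rw [sub_self, if_pos rfl, if_pos rfl, inv_mul_cancel₀ (Nat.cast_ne_zero.2 Fintype.card_ne_zero),
      one_smul]
  · rw [if_neg h, if_neg (fun h' => h (sub_eq_zero.1 h').symm), mul_zero, zero_smul]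

theorem sum_smul_wt (ρ : Representation ℂ A V) (b : A) :
    ∑ l : AddChar (Additive A) ℂ, l (Additive.ofMul b) • wt ρ l = ρ b := by
  classical
  have h1 : ∀ l : AddChar (Additive A) ℂ, l (Additive.ofMul b) • wt ρ l
      = (Fintype.card A : ℂ)⁻¹ • ∑ a : A, l (Additive.ofMul (b * a⁻¹)) • ρ a := by
    intro l
    rw [wt_def, smul_comm, Finset.smul_sum]
    congr 1
    refine Finset.sum_congr rfl fun a _ => ?_
    rw [smul_smul, char_inv_mul]
  simp_rw [h1]
  rw [← Finset.smul_sum, Finset.sum_comm]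
  have h2 : ∀ a : A, ∑ l : AddChar (Additive A) ℂ, l (Additive.ofMul (b * a⁻¹)) • ρ a
      = if a = b then (Fintype.card A : ℂ) • ρ b else 0 := by
    intro a
    rw [← Finset.sum_smul]
    have h3 := AddChar.sum_apply_eq_ite (α := Additive A) (Additive.ofMul (b * a⁻¹))
    rw [h3]
    by_cases h : a = b
    · subst h
      simp
    · rw [if_neg h, if_neg, zero_smul]
      intro h'
      have : b * a⁻¹ = 1 := h'
      exact h (mul_inv_eq_one.1 this).symm
  simp_rw [h2]
  rw [Finset.sum_ite_eq' Finset.univ b, if_pos (Finset.mem_univ _), smul_smul,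
    inv_mul_cancel₀ (Nat.cast_ne_zero.2 Fintype.card_ne_zero), one_smul]

theorem sum_wt (ρ : Representation ℂ A V) : ∑ l : AddChar (Additive A) ℂ, wt ρ l = 1 := by
  have := sum_smul_wt ρ 1
  simpa using this

end weights

section schur

variable {G : Type*} [Group G] {V : Type*} [AddCommGroup V] [Module ℂ V] [FiniteDimensional ℂ V]

theorem finrank_pos_of_irreducible (ρ : Representation ℂ G V) [ρ.IsIrreducible] :
    0 < finrank ℂ V := by
  rw [finrank_pos_iff]
  obtain ⟨a, b, hab⟩ := (inferInstance : Nontrivial (Subrepresentation ρ))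
  by_contra hcon
  rw [not_nontrivial_iff_subsingleton] at hcon
  exact hab (SetLike.ext fun x => by
    have hx : x = 0 := Subsingleton.elim _ _
    subst hx
    exact ⟨fun _ => b.toSubmodule.zero_mem, fun _ => a.toSubmodule.zero_mem⟩)

/-- Schur's lemma with the scalar computed by the trace. -/
theorem schur (ρ : Representation ℂ G V) [ρ.IsIrreducible] (f : Module.End ℂ V)
    (hf : ∀ g, ρ g * f = f * ρ g) :
    f = (LinearMap.trace ℂ V f / finrank ℂ V) • (1 : Module.End ℂ V) := by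
  let F : Representation.IntertwiningMap ρ ρ := ⟨f, fun g => (hf g).symm⟩
  obtain ⟨z, hz⟩ := (Representation.IsIrreducible.algebraMap_intertwiningMap_bijective_of_isAlgClosed
    (ρ := ρ)).2 F
  have hz' : z • (1 : Module.End ℂ V) = f := by
    have := congrArg (fun φ : Representation.IntertwiningMap ρ ρ => φ.toLinearMap) hz
    rw [Algebra.algebraMap_eq_smul_one] at this
    exact this
  have hn : (finrank ℂ V : ℂ) ≠ 0 := Nat.cast_ne_zero.2 (finrank_pos_of_irreducible ρ).ne'
  have ht : LinearMap.trace ℂ V f / finrank ℂ V = z := by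
    rw [← hz', map_smul, LinearMap.trace_one, smul_eq_mul]
    field_simp
  rw [ht, hz']

variable [Fintype G]

theorem sum_conj (ρ : Representation ℂ G V) [ρ.IsIrreducible] (f : Module.End ℂ V) :
    ∑ g : G, ρ g * f * ρ g⁻¹
      = ((Fintype.card G : ℂ) * LinearMap.trace ℂ V f / finrank ℂ V) • (1 : Module.End ℂ V) := by
  have h := schur ρ (∑ g : G, ρ g * f * ρ g⁻¹) (fun h => by
    rw [Finset.mul_sum, Finset.sum_mul]
    refine Fintype.sum_equiv (Equiv.mulLeft h) _ _ fun g => ?_
    rw [Equiv.coe_mulLeft, mul_inv_rev, map_mul, map_mul, mul_assoc, mul_assoc, mul_assoc, mul_assoc,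
      mul_assoc, ← map_mul ρ h⁻¹ h, inv_mul_cancel, map_one, mul_one])
  rw [h]
  congr 2
  rw [map_sum]
  have : ∀ g : G, LinearMap.trace ℂ V (ρ g * f * ρ g⁻¹) = LinearMap.trace ℂ V f := by
    intro g
    rw [LinearMap.trace_mul_comm, ← mul_assoc, ← map_mul, inv_mul_cancel, map_one, one_mul]
  simp_rw [this]
  simp

theorem sum_char_mul (ρ : Representation ℂ G V) [ρ.IsIrreducible] :
    ∑ g : G, ρ.character g • ρ g⁻¹
      = ((Fintype.card G : ℂ) / finrank ℂ V) • (1 : Module.End ℂ V) := by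
  have h := schur ρ (∑ g : G, ρ.character g • ρ g⁻¹) (fun h => by
    rw [Finset.mul_sum, Finset.sum_mul]
    refine Fintype.sum_equiv (MulAut.conj h).toEquiv _ _ fun g => ?_
    rw [MulEquiv.toEquiv_eq_coe, MulEquiv.coe_toEquiv, MulAut.conj_apply, Representation.char_conj,
      mul_smul_comm, smul_mul_assoc, ← map_mul, ← map_mul]
    congr 2
    group)
  rw [h]
  congr 2
  rw [map_sum]
  have : Invertible (Nat.card G : ℂ) := invertibleOfNonzero (Nat.cast_ne_zero.2 Nat.card_pos.ne')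
  have h2 := Representation.char_orthonormal ρ ρ
  rw [if_pos ⟨Representation.Equiv.refl ρ⟩, Nat.card_eq_fintype_card] at h2
  have h3 : ∑ g : G, ρ.character g * ρ.character g⁻¹ = (Fintype.card G : ℂ) := by
    have hne : (Fintype.card G : ℂ) ≠ 0 := Nat.cast_ne_zero.2 Fintype.card_ne_zero
    field_simp at h2
    exact h2
  rw [← h3]
  refine Finset.sum_congr rfl fun g _ => ?_
  rw [map_smul]
  rfl

end schur

section main

variable {G : Type*} [Group G] [Fintype G] {V : Type*} [AddCommGroup V] [Module ℂ V]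
  [FiniteDimensional ℂ V] {A : Type*} [CommGroup A] [Fintype A] {T : Type*} [Fintype T]

theorem sum_transversal {M : Type*} [AddCommMonoid M] (i : A →* G) (t : T → G)
    (ht : Function.Bijective (fun x : T × A => t x.1 * i x.2)) (f : G → M) :
    ∑ g : G, f g = ∑ q : T, ∑ a : A, f (t q * i a) := by
  rw [← Fintype.sum_prod_type' (f := fun q a => f (t q * i a))]
  exact (Function.Bijective.sum_comp ht f).symm

omit [FiniteDimensional ℂ V] [Fintype G] in
theorem conj_wt (ρ : Representation ℂ G V) (i : A →* G) (g : G) (φ : A ≃* A)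
    (hφ : ∀ a, i (φ a) = g * i a * g⁻¹) (l : AddChar (Additive A) ℂ) :
    ∃ m : AddChar (Additive A) ℂ, ρ g * wt (ρ.comp i) l * ρ g⁻¹ = wt (ρ.comp i) m := by
  refine ⟨l.compAddMonoidHom (MonoidHom.toAdditive φ.symm.toMonoidHom), ?_⟩
  rw [wt_def, wt_def, mul_smul_comm, smul_mul_assoc, Finset.mul_sum, Finset.sum_mul]
  refine congrArg (fun x : Module.End ℂ V => (Fintype.card A : ℂ)⁻¹ • x) ?_
  refine Fintype.sum_equiv φ.toEquiv _ _ fun a => ?_
  rw [mul_smul_comm, smul_mul_assoc, MonoidHom.comp_apply, MonoidHom.comp_apply, ← map_mul, ← map_mul,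
    MulEquiv.toEquiv_eq_coe, MulEquiv.coe_toEquiv, hφ, ← map_inv]
  simp

omit [FiniteDimensional ℂ V] in
theorem wt_mul_rho (ρ : Representation ℂ G V) (i : A →* G)
    (hi : ∀ g : G, ∃ φ : A ≃* A, ∀ a, i (φ a) = g * i a * g⁻¹) (g : G)
    (l : AddChar (Additive A) ℂ) :
    ∃ m : AddChar (Additive A) ℂ, wt (ρ.comp i) l * ρ g = ρ g * wt (ρ.comp i) m := by
  obtain ⟨φ, hφ⟩ := hi g⁻¹
  obtain ⟨m, hm⟩ := conj_wt ρ i g⁻¹ φ hφ l
  refine ⟨m, ?_⟩
  rw [← hm, inv_inv, ← mul_assoc, ← mul_assoc, ← map_mul, mul_inv_cancel, map_one, one_mul]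

omit [FiniteDimensional ℂ V] in
/-- The `ℤ`-span of the elements `ρ g * wt l`, a subring that is finitely generated over `ℤ`. -/
theorem exists_subalgebra (ρ : Representation ℂ G V) (i : A →* G)
    (hi : ∀ g : G, ∃ φ : A ≃* A, ∀ a, i (φ a) = g * i a * g⁻¹) :
    ∃ R : Subalgebra ℤ (Module.End ℂ V), R.toSubmodule.FG ∧
      (∀ g, ρ g ∈ R) ∧ ∀ l, wt (ρ.comp i) l ∈ R := by
  classical
  set S : Set (Module.End ℂ V) :=
    Set.range (fun x : G × AddChar (Additive A) ℂ => ρ x.1 * wt (ρ.comp i) x.2) with hS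
  have hSfin : S.Finite := Set.finite_range _
  have hρ : ∀ g, ρ g ∈ Submodule.span ℤ S := by
    intro g
    have : ρ g = ∑ l : AddChar (Additive A) ℂ, ρ g * wt (ρ.comp i) l := by
      rw [← Finset.mul_sum, sum_wt, mul_one]
    rw [this]
    exact Submodule.sum_mem _ fun l _ => Submodule.subset_span ⟨(g, l), rfl⟩
  have h1 : (1 : Module.End ℂ V) ∈ Submodule.span ℤ S := by
    rw [← map_one ρ]; exact hρ 1
  have hmul : ∀ x y, x ∈ Submodule.span ℤ S → y ∈ Submodule.span ℤ S →
      x * y ∈ Submodule.span ℤ S := by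
    intro x y hx hy
    have hxy := Submodule.mul_mem_mul hx hy
    rw [Submodule.span_mul_span] at hxy
    refine Submodule.span_le.2 ?_ hxy
    rintro _ ⟨_, ⟨⟨g, l⟩, rfl⟩, _, ⟨⟨h, m⟩, rfl⟩, rfl⟩
    obtain ⟨k, hk⟩ := wt_mul_rho ρ i hi h l
    have : (ρ g * wt (ρ.comp i) l) * (ρ h * wt (ρ.comp i) m)
        = ρ (g * h) * (if k = m then wt (ρ.comp i) m else 0) := by
      rw [← wt_mul_wt, map_mul, mul_assoc, ← mul_assoc (wt (ρ.comp i) l), hk, mul_assoc, mul_assoc]
    change (ρ g * wt (ρ.comp i) l) * (ρ h * wt (ρ.comp i) m) ∈ Submodule.span ℤ S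
    rw [this]
    split_ifs
    · exact Submodule.subset_span ⟨(g * h, m), rfl⟩
    · rw [mul_zero]; exact Submodule.zero_mem _
  refine ⟨(Submodule.span ℤ S).toSubalgebra h1 hmul, ?_, hρ, ?_⟩
  · rw [Submodule.toSubalgebra_toSubmodule]
    exact Submodule.fg_span hSfin
  · intro l
    change wt (ρ.comp i) l ∈ Submodule.span ℤ S
    exact Submodule.subset_span ⟨(1, l), by simp⟩

theorem card_eq (i : A →* G) (t : T → G)
    (ht : Function.Bijective (fun x : T × A => t x.1 * i x.2)) :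
    (Fintype.card G : ℂ) = (Fintype.card T : ℂ) * Fintype.card A := by
  rw [← Fintype.card_of_bijective ht, Fintype.card_prod, Nat.cast_mul]

theorem sum_conj_transversal (ρ : Representation ℂ G V) [ρ.IsIrreducible] (i : A →* G) (t : T → G)
    (ht : Function.Bijective (fun x : T × A => t x.1 * i x.2)) (f : Module.End ℂ V)
    (hf : ∀ a, ρ (i a) * f = f * ρ (i a)) :
    ∑ q : T, ρ (t q) * f * ρ (t q)⁻¹
      = (((Fintype.card T : ℂ) / finrank ℂ V) * LinearMap.trace ℂ V f) • (1 : Module.End ℂ V) := by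
  have h := sum_conj ρ f
  rw [sum_transversal i t ht] at h
  have h2 : ∀ q : T, ∑ a : A, ρ (t q * i a) * f * ρ (t q * i a)⁻¹
      = (Fintype.card A : ℂ) • (ρ (t q) * f * ρ (t q)⁻¹) := by
    intro q
    have : ∀ a : A, ρ (t q * i a) * f * ρ (t q * i a)⁻¹ = ρ (t q) * f * ρ (t q)⁻¹ := by
      intro a
      rw [map_mul, mul_inv_rev, map_mul, mul_assoc (ρ (t q)), hf, mul_assoc, mul_assoc,
        ← mul_assoc (ρ (i a)), ← map_mul, mul_inv_cancel, map_one, one_mul, mul_assoc]
    simp_rw [this]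
    rw [Finset.sum_const, Finset.card_univ, Nat.cast_smul_eq_nsmul]
  simp_rw [h2] at h
  rw [← Finset.smul_sum, card_eq i t ht] at h
  have hA : (Fintype.card A : ℂ) ≠ 0 := Nat.cast_ne_zero.2 Fintype.card_ne_zero
  have h3 : (Fintype.card A : ℂ) • ∑ q : T, ρ (t q) * f * ρ (t q)⁻¹
      = (Fintype.card A : ℂ) • (((Fintype.card T : ℂ) / finrank ℂ V) * LinearMap.trace ℂ V f) •
        (1 : Module.End ℂ V) := by
    rw [h, smul_smul]
    congr 1
    ring
  exact smul_right_injective _ hA h3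

theorem sum_trace_transversal (ρ : Representation ℂ G V) [ρ.IsIrreducible] (i : A →* G) (t : T → G)
    (ht : Function.Bijective (fun x : T × A => t x.1 * i x.2)) :
    ∑ q : T, ∑ l : AddChar (Additive A) ℂ,
      LinearMap.trace ℂ V (ρ (t q) * wt (ρ.comp i) l) • (wt (ρ.comp i) l * ρ (t q)⁻¹)
      = ((Fintype.card T : ℂ) / finrank ℂ V) • (1 : Module.End ℂ V) := by
  have hA : (Fintype.card A : ℂ) ≠ 0 := Nat.cast_ne_zero.2 Fintype.card_ne_zero
  have htr : ∀ (q : T) (l : AddChar (Additive A) ℂ),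
      LinearMap.trace ℂ V (ρ (t q) * wt (ρ.comp i) l)
      = (Fintype.card A : ℂ)⁻¹ * ∑ a : A, l (Additive.ofMul a⁻¹) * ρ.character (t q * i a) := by
    intro q l
    rw [wt_def, mul_smul_comm, map_smul, Finset.mul_sum, map_sum, smul_eq_mul]
    congr 1
    refine Finset.sum_congr rfl fun a _ => ?_
    rw [mul_smul_comm, map_smul, smul_eq_mul, MonoidHom.comp_apply, ← map_mul]
    rfl
  have h1 : ∀ q : T, ∑ l : AddChar (Additive A) ℂ,
      LinearMap.trace ℂ V (ρ (t q) * wt (ρ.comp i) l) • (wt (ρ.comp i) l * ρ (t q)⁻¹)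
      = (Fintype.card A : ℂ)⁻¹ • ∑ a : A, ρ.character (t q * i a) • ρ (t q * i a)⁻¹ := by
    intro q
    have h2 : ∀ a : A, ρ.character (t q * i a) • ρ (t q * i a)⁻¹
        = ∑ l : AddChar (Additive A) ℂ, (l (Additive.ofMul a⁻¹) * ρ.character (t q * i a)) •
          (wt (ρ.comp i) l * ρ (t q)⁻¹) := by
      intro a
      have h3 := sum_smul_wt (ρ.comp i) a⁻¹
      rw [mul_inv_rev, map_mul, ← map_inv i]
      change ρ.character (t q * i a) • ((ρ.comp i) a⁻¹ * ρ (t q)⁻¹) = _
      rw [← h3, Finset.sum_mul, Finset.smul_sum]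
      refine Finset.sum_congr rfl fun l _ => ?_
      rw [smul_mul_assoc, smul_smul, mul_comm]
    simp_rw [h2]
    rw [Finset.sum_comm, Finset.smul_sum]
    refine Finset.sum_congr rfl fun l _ => ?_
    rw [htr, mul_smul, Finset.sum_smul]
  simp_rw [h1]
  rw [← Finset.smul_sum, ← sum_transversal i t ht (fun g => ρ.character g • ρ g⁻¹), sum_char_mul,
    smul_smul, card_eq i t ht]
  congr 1
  field_simp

theorem sq_smul_one_eq (ρ : Representation ℂ G V) [ρ.IsIrreducible] (i : A →* G) (t : T → G)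
    (ht : Function.Bijective (fun x : T × A => t x.1 * i x.2)) :
    ((Fintype.card T : ℂ) / finrank ℂ V) ^ 2 • (1 : Module.End ℂ V)
      = ∑ q : T, ∑ l : AddChar (Additive A) ℂ,
        (∑ p : T, ρ (t p) * (wt (ρ.comp i) l * ρ (t q) * wt (ρ.comp i) l) * ρ (t p)⁻¹) *
          (wt (ρ.comp i) l * ρ (t q)⁻¹) := by
  classical
  have h1 : ∀ (q : T) (l : AddChar (Additive A) ℂ),
      (∑ p : T, ρ (t p) * (wt (ρ.comp i) l * ρ (t q) * wt (ρ.comp i) l) * ρ (t p)⁻¹) *
          (wt (ρ.comp i) l * ρ (t q)⁻¹)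
      = ((Fintype.card T : ℂ) / finrank ℂ V) •
        LinearMap.trace ℂ V (ρ (t q) * wt (ρ.comp i) l) • (wt (ρ.comp i) l * ρ (t q)⁻¹) := by
    intro q l
    rw [sum_conj_transversal ρ i t ht]
    · have : LinearMap.trace ℂ V (wt (ρ.comp i) l * ρ (t q) * wt (ρ.comp i) l)
          = LinearMap.trace ℂ V (ρ (t q) * wt (ρ.comp i) l) := by
        rw [mul_assoc, LinearMap.trace_mul_comm, mul_assoc, wt_mul_wt, if_pos rfl]
      rw [this, smul_mul_assoc, one_mul, mul_smul]
    · intro a
      change (ρ.comp i) a * _ = _ * (ρ.comp i) a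
      rw [mul_assoc, ← mul_assoc, mul_wt, mul_assoc, mul_assoc, wt_mul, smul_mul_assoc,
        mul_smul_comm, mul_smul_comm]
  simp_rw [h1]
  simp_rw [← Finset.smul_sum]
  rw [sum_trace_transversal ρ i t ht, smul_smul, sq]

/-- **Itô's theorem**, in terms of a transversal. -/
theorem finrank_dvd_card (ρ : Representation ℂ G V) [ρ.IsIrreducible] (i : A →* G) (t : T → G)
    (ht : Function.Bijective (fun x : T × A => t x.1 * i x.2))
    (hi : ∀ g : G, ∃ φ : A ≃* A, ∀ a, i (φ a) = g * i a * g⁻¹) :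
    finrank ℂ V ∣ Fintype.card T := by
  obtain ⟨R, hfg, hρ, hwt⟩ := exists_subalgebra ρ i hi
  have hn0 : 0 < finrank ℂ V := finrank_pos_of_irreducible ρ
  have hmem : ((Fintype.card T : ℂ) / finrank ℂ V) ^ 2 • (1 : Module.End ℂ V) ∈ R := by
    rw [sq_smul_one_eq ρ i t ht]
    exact Subalgebra.sum_mem _ fun q _ => Subalgebra.sum_mem _ fun l _ =>
      R.mul_mem (Subalgebra.sum_mem _ fun p _ =>
        R.mul_mem (R.mul_mem (hρ _) (R.mul_mem (R.mul_mem (hwt _) (hρ _)) (hwt _))) (hρ _))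
        (R.mul_mem (hwt _) (hρ _))
  have hint : IsIntegral ℤ (((Fintype.card T : ℂ) / finrank ℂ V) ^ 2 • (1 : Module.End ℂ V)) :=
    IsIntegral.of_mem_of_fg R hfg _ hmem
  have : Nontrivial V := finrank_pos_iff.1 hn0
  have hint2 : IsIntegral ℤ (((Fintype.card T : ℂ) / finrank ℂ V) ^ 2) := by
    rw [← Algebra.algebraMap_eq_smul_one] at hint
    exact (isIntegral_algebraMap_iff (FaithfulSMul.algebraMap_injective ℂ (Module.End ℂ V))).1 hint
  have hint3 : IsIntegral ℤ ((Fintype.card T : ℂ) / finrank ℂ V) := hint2.of_pow two_pos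
  have hq : IsIntegral ℤ ((Fintype.card T : ℚ) / finrank ℂ V) := by
    have : ((Fintype.card T : ℂ) / finrank ℂ V)
        = algebraMap ℚ ℂ ((Fintype.card T : ℚ) / finrank ℂ V) := by
      simp
    rw [this] at hint3
    exact (isIntegral_algebraMap_iff (algebraMap ℚ ℂ).injective).1 hint3
  obtain ⟨z, hz⟩ := IsIntegrallyClosed.isIntegral_iff.1 hq
  have hz' : (z : ℚ) = (Fintype.card T : ℚ) / finrank ℂ V := hz
  have hne : (finrank ℂ V : ℚ) ≠ 0 := Nat.cast_ne_zero.2 hn0.ne'
  rw [eq_div_iff hne] at hz'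
  have hz2 : z * (finrank ℂ V : ℤ) = (Fintype.card T : ℤ) := by exact_mod_cast hz'
  exact Int.natCast_dvd_natCast.1 ⟨z, by rw [← hz2, mul_comm]⟩

end main

/-- **Itô's theorem**. -/
theorem finrank_dvd_index {G : Type*} [Group G] [Finite G] {V : Type*} [AddCommGroup V]
    [Module ℂ V] [FiniteDimensional ℂ V] (ρ : Representation ℂ G V) [ρ.IsIrreducible]
    (H : Subgroup G) [H.Normal] (hH : ∀ a ∈ H, ∀ b ∈ H, a * b = b * a) :
    Module.finrank ℂ V ∣ H.index := by
  classical
  let _ : CommGroup H :=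
    { (inferInstance : Group H) with
      mul_comm := fun a b => Subtype.ext (hH a a.2 b b.2) }
  have := Fintype.ofFinite G
  have := Fintype.ofFinite H
  have := Fintype.ofFinite (G ⧸ H)
  rw [Subgroup.index_eq_card, Nat.card_eq_fintype_card]
  refine finrank_dvd_card ρ H.subtype (fun q : G ⧸ H => q.out) ?_ ?_
  · constructor
    · rintro ⟨q, a⟩ ⟨q', a'⟩ h
      have h' : q.out * (a : G) = q'.out * (a' : G) := h
      have hq : q = q' := by
        have h1 : ((q.out * (a : G) : G) : G ⧸ H) = q := by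
          rw [QuotientGroup.mk_mul_of_mem _ a.2, QuotientGroup.out_eq']
        have h2 : ((q'.out * (a' : G) : G) : G ⧸ H) = q' := by
          rw [QuotientGroup.mk_mul_of_mem _ a'.2, QuotientGroup.out_eq']
        rw [← h1, ← h2, h']
      subst hq
      have ha : a = a' := Subtype.ext (mul_left_cancel h')
      rw [ha]
    · intro g
      have hmem : (g : G ⧸ H).out⁻¹ * g ∈ H := by
        rw [← QuotientGroup.eq, QuotientGroup.out_eq']
      exact ⟨⟨(g : G ⧸ H), ⟨_, hmem⟩⟩, by simp⟩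
  · intro g
    exact ⟨MulAut.conjNormal g, fun a => MulAut.conjNormal_apply g a⟩

end Cfsg.Agent.Characters.Ito
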