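import Mathlib
import Cfsg.Agent.Characters.MonomialVec

set_option autoImplicit false

open Cfsg Representation Module

namespace Cfsg.Agent.Characters.MonomialNil

universe u v

/-- A proper normal subgroup `Z` of a nilpotent group: some `a ∉ Z` is central modulo `Z`. -/
theorem exists_central_mod {G : Type u} [Group G] [Group.IsNilpotent G] (Z : Subgroup G)
    (hZ : Z ≠ ⊤) : ∃ a : G, a ∉ Z ∧ ∀ g : G, a * g * a⁻¹ * g⁻¹ ∈ Z := by
  classical
  have hex : ∃ n, (⊤ : Subgroup G).lowerCentralSeries n ≤ Z := by
    obtain ⟨n, hn⟩ := Subgroup.nilpotent_iff_lowerCentralSeries.mp ‹Group.IsNilpotent G›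
    exact ⟨n, hn ▸ bot_le⟩
  have hn := Nat.find_spec hex
  obtain ⟨m, hm⟩ : ∃ m, Nat.find hex = m + 1 := by
    rcases h : Nat.find hex with _ | m
    · rw [h] at hn
      exact absurd (top_le_iff.mp hn) hZ
    · exact ⟨m, rfl⟩
  have hlt : ¬ (⊤ : Subgroup G).lowerCentralSeries m ≤ Z := Nat.find_min hex (by omega)
  rw [hm] at hn
  obtain ⟨a, ha, haZ⟩ := SetLike.not_le_iff_exists.mp hlt
  refine ⟨a, haZ, fun g => hn ?_⟩
  rw [Subgroup.lowerCentralSeries_succ]
  exact Subgroup.commutator_mem_commutator ha (Subgroup.mem_top g)

theorem exists_eigenvector_aux (n : ℕ) : ∀ (G : Type u) [Group G] [Finite G]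
    [Group.IsNilpotent G] (V : Type v) [AddCommGroup V] [Module ℂ V] [FiniteDimensional ℂ V]
    [Nontrivial V] (ρ : Representation ℂ G V), finrank ℂ V = n →
    ∃ (H : Subgroup G) (v : V), v ≠ 0 ∧ (∀ g ∈ H, ∃ c : ℂ, ρ g v = c • v) ∧ H.index ≤ n := by
  induction n using Nat.strong_induction_on with
  | _ n ih =>
    intro G _ _ _ V _ _ _ _ ρ hn
    classical
    by_cases hs : ∀ g, ∃ c : ℂ, ρ g = c • (1 : Module.End ℂ V)
    · obtain ⟨v, hv⟩ := exists_ne (0 : V)
      refine ⟨⊤, v, hv, fun g _ => ?_, ?_⟩
      · obtain ⟨c, hc⟩ := hs g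
        exact ⟨c, by rw [hc]; rfl⟩
      · rw [Subgroup.index_top, ← hn]
        exact Module.finrank_pos
    · -- the subgroup of elements acting as scalars
      let Z : Subgroup G :=
        { carrier := {g | ∃ c : ℂ, ρ g = c • (1 : Module.End ℂ V)}
          one_mem' := ⟨1, by simp⟩
          mul_mem' := by
            rintro a b ⟨c, hc⟩ ⟨d, hd⟩
            exact ⟨c * d, by rw [map_mul, hc, hd, smul_mul_smul_comm, one_mul]⟩
          inv_mem' := by
            rintro a ⟨c, hc⟩
            have h1 : ρ a⁻¹ * ρ a = 1 := by rw [← map_mul, inv_mul_cancel, map_one]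
            rw [hc, mul_smul_comm, mul_one] at h1
            have hc0 : c ≠ 0 := by
              rintro rfl
              rw [zero_smul] at h1
              exact zero_ne_one h1
            refine ⟨c⁻¹, ?_⟩
            rw [← h1, smul_smul, inv_mul_cancel₀ hc0, one_smul] }
      have hZ : Z ≠ ⊤ := by
        intro h
        apply hs
        intro g
        have : g ∈ Z := h ▸ Subgroup.mem_top g
        exact this
      obtain ⟨a, haZ, hcomm⟩ := exists_central_mod Z hZ
      -- `ρ a * ρ g = c g • (ρ g * ρ a)`
      have hc : ∀ g, ∃ c : ℂ, ρ a * ρ g = c • (ρ g * ρ a) := by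
        intro g
        obtain ⟨c, hc⟩ := hcomm g
        refine ⟨c, ?_⟩
        have : a * g = (a * g * a⁻¹ * g⁻¹) * (g * a) := by group
        rw [← map_mul, this, map_mul, hc, map_mul, smul_mul_assoc, one_mul]
      have hunit : ∀ g, IsUnit (ρ g) := fun g => (Group.isUnit g).map ρ
      choose c hc using hc
      have huniq : ∀ (g : G) (d : ℂ), ρ a * ρ g = d • (ρ g * ρ a) → c g = d := by
        intro g d hd
        have h1 := (hc g).symm.trans hd
        have h2 : ρ g * ρ a ≠ 0 := ((hunit g).mul (hunit a)).ne_zero
        exact smul_left_injective ℂ h2 h1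
      have hc1 : c 1 = 1 := huniq 1 1 (by simp)
      have hcmul : ∀ g h : G, c (g * h) = c g * c h := by
        intro g h
        apply huniq
        rw [map_mul, ← mul_assoc, hc g, smul_mul_assoc, mul_assoc, hc h, mul_smul_comm, smul_smul,
          mul_assoc]
      let e : G →* ℂˣ := MonoidHom.toHomUnits ⟨⟨c, hc1⟩, hcmul⟩
      have he : ∀ g, (e g : ℂ) = c g := fun g => rfl
      -- an eigenvalue of `ρ a`
      obtain ⟨μ, hμ⟩ := Module.End.exists_eigenvalue (ρ a)
      let W : Submodule ℂ V := Module.End.eigenspace (ρ a) μ
      have hW0 : W ≠ ⊥ := hμ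
      have hWtop : W ≠ ⊤ := by
        intro h
        apply haZ
        refine ⟨μ, LinearMap.ext fun x => ?_⟩
        have : x ∈ W := h ▸ Submodule.mem_top
        exact Module.End.mem_eigenspace_iff.mp this
      have hμ0 : μ ≠ 0 := by
        rintro rfl
        obtain ⟨x, hx⟩ := hμ.exists_hasEigenvector
        have h1 := hx.apply_eq_smul
        rw [zero_smul] at h1
        apply hx.2
        have h2 : ρ a⁻¹ (ρ a x) = x := by
          rw [← Module.End.mul_apply, ← map_mul, inv_mul_cancel, map_one, Module.End.one_apply]
        rw [← h2, h1, map_zero]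
      -- `ρ g` maps `W` into the eigenspace for `c g * μ`
      have hmaps : ∀ (g : G) (x : V), x ∈ W → ρ g x ∈ Module.End.eigenspace (ρ a) (c g * μ) := by
        intro g x hx
        rw [Module.End.mem_eigenspace_iff]
        have h1 : ρ a x = μ • x := Module.End.mem_eigenspace_iff.mp hx
        have h2 := congrArg (fun f : Module.End ℂ V => f x) (hc g)
        simp only [Module.End.mul_apply, LinearMap.smul_apply] at h2
        rw [h2, h1, map_smul, smul_smul]
      let K : Subgroup G := e.ker
      have hK : ∀ k : K, ∀ x ∈ W, ρ k x ∈ W := by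
        intro k x hx
        have h1 := hmaps k x hx
        have h2 : e k = 1 := k.2
        rw [← he, h2, Units.val_one, one_mul] at h1
        exact h1
      -- the representation of `K` on `W`
      let σ : Representation ℂ K W :=
        { toFun := fun k => (ρ k).restrict (hK k)
          map_one' := by
            ext x
            simp
          map_mul' := by
            intro k l
            ext x
            simp [LinearMap.restrict_apply] }
      have hσ : ∀ (k : K) (w : W), ((σ k w : W) : V) = ρ k w := fun k w => rfl
      have : Nontrivial W := Submodule.nontrivial_iff_ne_bot.mpr hW0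
      have hlt : finrank ℂ W < n := hn ▸ Submodule.finrank_lt hWtop
      obtain ⟨H, w, hw0, hwH, hidx⟩ := ih _ hlt K W σ rfl
      refine ⟨H.map K.subtype, w, ?_, ?_, ?_⟩
      · intro h
        exact hw0 (Subtype.ext h)
      · rintro _ ⟨k, hk, rfl⟩
        obtain ⟨d, hd⟩ := hwH k hk
        exact ⟨d, by rw [Subgroup.subtype_apply, ← hσ, hd]; rfl⟩
      · rw [Subgroup.index_map_subtype]
        -- dimension count
        have hKidx : K.index = Nat.card e.range := Subgroup.index_ker e
        have hcount : Nat.card e.range * finrank ℂ W ≤ finrank ℂ V := by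
          have : Finite e.range := Finite.of_surjective e.rangeRestrict e.rangeRestrict_surjective
          have : Fintype e.range := Fintype.ofFinite _
          let p : e.range → Submodule ℂ V := fun x =>
            Module.End.eigenspace (ρ a) (((x : ℂˣ) : ℂ) * μ)
          have hp : iSupIndep p := by
            refine (Module.End.eigenspaces_iSupIndep (ρ a)).comp
              (f := fun x : e.range => ((x : ℂˣ) : ℂ) * μ) ?_
            intro x y hxy
            exact Subtype.ext (Units.ext (mul_right_cancel₀ hμ0 hxy))
          have hinj := hp.dfinsupp_lsum_injective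
          have h1 : finrank ℂ (DirectSum e.range fun x => p x) ≤ finrank ℂ V :=
            LinearMap.finrank_le_finrank_of_injective
              (f := (DFinsupp.lsum ℕ (M := fun x => p x) fun i => (p i).subtype)) hinj
          rw [Module.finrank_directSum] at h1
          refine le_trans ?_ h1
          have h2 : ∀ x : e.range, finrank ℂ W ≤ finrank ℂ (p x) := by
            rintro ⟨_, g, rfl⟩
            let f : W →ₗ[ℂ] p ⟨e g, g, rfl⟩ :=
              ((ρ g).domRestrict W).codRestrict _ (fun x => hmaps g x x.2)
            refine LinearMap.finrank_le_finrank_of_injective (f := f) ?_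
            intro x y hxy
            have h3 : ρ g x = ρ g y := congrArg Subtype.val hxy
            have h4 : ρ g⁻¹ (ρ g x) = ρ g⁻¹ (ρ g y) := by rw [h3]
            rw [← Module.End.mul_apply, ← Module.End.mul_apply, ← map_mul, inv_mul_cancel,
              map_one, Module.End.one_apply, Module.End.one_apply] at h4
            exact Subtype.ext h4
          calc Nat.card e.range * finrank ℂ W = ∑ _x : e.range, finrank ℂ W := by
                rw [Finset.sum_const, Finset.card_univ, smul_eq_mul, Nat.card_eq_fintype_card]
            _ ≤ _ := Finset.sum_le_sum fun x _ => h2 x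
        rw [hn] at hcount
        calc H.index * K.index ≤ finrank ℂ W * K.index := Nat.mul_le_mul_right _ hidx
          _ = Nat.card e.range * finrank ℂ W := by rw [hKidx, mul_comm]
          _ ≤ n := hcount

/-- Every nonzero complex representation of a finite nilpotent group has a vector which is an
eigenvector of a subgroup of index at most the dimension. -/
theorem exists_eigenvector_of_nilpotent {G : Type u} [Group G] [Finite G] [Group.IsNilpotent G]
    {V : Type v} [AddCommGroup V] [Module ℂ V] [FiniteDimensional ℂ V] [Nontrivial V]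
    (ρ : Representation ℂ G V) :
    ∃ (H : Subgroup G) (v : V), v ≠ 0 ∧ (∀ g ∈ H, ∃ c : ℂ, ρ g v = c • v) ∧
      H.index ≤ finrank ℂ V :=
  exists_eigenvector_aux _ G V ρ rfl

end Cfsg.Agent.Characters.MonomialNil
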