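import Mathlib
import Cfsg.Prelude.Def_Characters
import Cfsg.Agent.Characters.Core

/-!
# Brauer's permutation lemma
-/

set_option autoImplicit false
open Cfsg

namespace Cfsg.Agent.Characters.Permutation

open Cfsg.Agent.Characters.Core
open scoped ComplexConjugate

/-- **Brauer's permutation lemma**: if `σ` is a self-map of the irreducible characters and `τ` a
permutation of the conjugacy classes such that `σ χ` takes at `τ C` the value of `χ` at `C`, then
`σ` and `τ` have the same number of fixed points. -/
theorem card_fixed_eq {G : Type*} [Group G] [Finite G]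
    (σ : IrrCharacter G → IrrCharacter G) (τ : Equiv.Perm (ConjClasses G))
    (hcompat : ∀ (χ : IrrCharacter G) (g g' : G), ConjClasses.mk g' = τ (ConjClasses.mk g) →
      (σ χ : G → ℂ) g' = (χ : G → ℂ) g) :
    Nat.card {χ : IrrCharacter G // σ χ = χ} = Nat.card {C : ConjClasses G // τ C = C} := by
  classical
  have := Fintype.ofFinite G
  have := finite_irr (G := G)
  have := Fintype.ofFinite (IrrCharacter G)
  have := Fintype.ofFinite (ConjClasses G)
  -- indicator function of a class
  let ind : ConjClasses G → G → ℂ := fun C g => if ConjClasses.mk g = C then 1 else 0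
  have hind : ∀ C, IsClassFunction G (ind C) := by
    intro C g h
    have : ConjClasses.mk (h * g * h⁻¹) = ConjClasses.mk g :=
      ConjClasses.mk_eq_mk_iff_isConj.2 (isConj_iff.2 ⟨h, rfl⟩).symm
    simp only [ind, this]
  have hout : ∀ C : ConjClasses G, ConjClasses.mk C.out = C := fun C => Quotient.out_eq' C
  have hcard1 : ((Nat.card {C : ConjClasses G // τ C = C} : ℕ) : ℂ)
      = ∑ C : ConjClasses G, ind C (τ.symm C).out := by
    rw [Nat.card_eq_fintype_card, Fintype.card_subtype, Finset.card_filter]
    push_cast
    refine Finset.sum_congr rfl fun C _ => ?_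
    simp only [ind]
    rw [hout]
    congr 1
    rw [eq_iff_iff]
    exact ⟨fun h => by rw [Equiv.symm_apply_eq]; exact h.symm,
      fun h => by rw [Equiv.symm_apply_eq] at h; exact h.symm⟩
  have hcard2 : ((Nat.card {χ : Cfsg.IrrCharacter G // σ χ = χ} : ℕ) : ℂ)
      = ∑ χ : IrrCharacter G, classInner (σ χ : G → ℂ) χ := by
    rw [Nat.card_eq_fintype_card, Fintype.card_subtype, Finset.card_filter]
    push_cast
    refine Finset.sum_congr rfl fun χ _ => ?_
    rw [classInner_irr (σ χ).2 χ.2]
    simp only [← Subtype.ext_iff]
  have key : ((Nat.card {χ : IrrCharacter G // σ χ = χ} : ℕ) : ℂ) =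
      ((Nat.card {C : ConjClasses G // τ C = C} : ℕ) : ℂ) := by
    rw [hcard1, hcard2]
    have h1 : ∀ C : ConjClasses G, ind C (τ.symm C).out = ∑ χ : IrrCharacter G,
        classInner (ind C) χ * (χ : G → ℂ) (τ.symm C).out := by
      intro C
      conv_lhs => rw [classFunction_eq_sum (hind C)]
      simp [Finset.sum_apply]
    simp_rw [h1]
    rw [Finset.sum_comm]
    refine Finset.sum_congr rfl fun χ _ => ?_
    simp only [classInner]
    simp_rw [mul_assoc, ← Finset.mul_sum]
    congr 1
    simp_rw [Finset.sum_mul]
    rw [Finset.sum_comm]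
    refine Finset.sum_congr rfl fun g _ => ?_
    rw [Finset.sum_eq_single (ConjClasses.mk g)]
    · simp only [ind, if_true, one_mul]
      rw [mul_comm]
      congr 1
      apply hcompat
      rw [hout, Equiv.apply_symm_apply]
    · intro C _ hC
      simp [ind, Ne.symm hC]
    · simp
  exact_mod_cast key

end Cfsg.Agent.Characters.Permutation
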