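import Mathlib
import Cfsg.Agent.Characters.Core
import Cfsg.Agent.Characters.Galois
import Cfsg.Agent.Characters.Values
import Cfsg.Agent.Characters.Brauer
import Cfsg.Agent.CharactersDeep.BrauerLocal
import Cfsg.Agent.Blocks.ExistsModular
import Cfsg.Agent.Blocks.LocalRing

/-!
# Schur's bound

If a finite `p`-group `P` has a faithful character of degree `n` with rational values, then `|P|` divides
`p ^ m * m!`, `m = n / (p - 1)`. Hence the exponent of `p` in the order of a finite group with a faithful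
rational-valued character of degree `n` is at most `m + v_p(m!) = [n/(p-1)] + [n/(p(p-1))] + ...`.

Proof (Schur): for `x ≠ 1` in `P` the value `χ x` is one of the numbers `n - p j`, `1 ≤ j ≤ m`, so that
`∑ x, ∏ j, (χ x - (n - p j)) = p ^ m * m!`, and the left side is divisible by `|P|`.
-/

set_option autoImplicit false
set_option linter.unusedSectionVars false

namespace Cfsg.Agent.Characters.SchurBound

open Cfsg Cfsg.Agent.Characters
open scoped ComplexConjugate

universe u

theorem exists_int_of_rat {z : ℂ} (h : IsIntegral ℤ z) {q : ℚ} (hq : z = q) : ∃ a : ℤ, z = a := by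
  have h1 : IsIntegral ℤ q := by
    rw [hq] at h
    have : ((q : ℚ) : ℂ) = algebraMap ℚ ℂ q := by simp
    rw [this, isIntegral_algebraMap_iff (algebraMap ℚ ℂ).injective] at h
    exact h
  obtain ⟨a, ha⟩ := IsIntegrallyClosed.isIntegral_iff.1 h1
  refine ⟨a, ?_⟩
  rw [hq, ← ha]
  simp

theorem exists_int_classInner_one {G : Type u} [Group G] [Fintype G] {θ : G → ℂ}
    (hθ : IsGeneralizedCharacter G θ) : ∃ z : ℤ, classInner θ 1 = z := by
  obtain ⟨χ, ψ, hχ, hψ, rfl⟩ := hθ
  obtain ⟨a, ha⟩ := Core.classInner_isNat hχ (Core.isCharacter_one (G := G))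
  obtain ⟨b, hb⟩ := Core.classInner_isNat hψ (Core.isCharacter_one (G := G))
  refine ⟨a - b, ?_⟩
  rw [Core.classInner_sub_left, ha, hb]
  push_cast
  rfl

theorem exists_int_sum {G : Type u} [Group G] [Fintype G] {θ : G → ℂ}
    (hθ : IsGeneralizedCharacter G θ) : ∃ z : ℤ, ∑ x : G, θ x = (Nat.card G : ℂ) * z := by
  obtain ⟨z, hz⟩ := exists_int_classInner_one hθ
  refine ⟨z, ?_⟩
  rw [← hz, Core.classInner_def, ← mul_assoc, mul_inv_cancel₀ Core.card_ne_zero_complex, one_mul]
  simp

/-- norm bound for characters -/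
theorem norm_le {G : Type u} [Group G] [Finite G] {χ : G → ℂ} (hχ : IsCharacter G χ) {n : ℕ}
    (hn : χ 1 = n) (x : G) : ‖χ x‖ ≤ n := by
  obtain ⟨m, ρ, rfl⟩ := hχ
  have h1 := Values.norm_character_le ρ x
  have h2 : ρ.character 1 = (Module.finrank ℂ (Fin m → ℂ) : ℂ) := Representation.char_one ρ
  rw [hn] at h2
  have h3 : n = Module.finrank ℂ (Fin m → ℂ) := by exact_mod_cast h2
  rw [h3]
  exact h1

/-- Sum of a character over the cyclic group generated by `y`. -/
theorem exists_sum_range {G : Type u} [Group G] [Finite G] {χ : G → ℂ} (hχ : IsCharacter G χ)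
    {n : ℕ} (hn : χ 1 = n) (y : G) :
    ∃ d : ℕ, d ≤ n ∧ ∑ i ∈ Finset.range (orderOf y), χ (y ^ i) = (orderOf y : ℂ) * d := by
  classical
  let _ : Fintype (Subgroup.zpowers y) := Fintype.ofFinite _
  have h1 : IsCharacter (Subgroup.zpowers y) (fun c => χ ((Subgroup.zpowers y).subtype c)) :=
    Core.isCharacter_comp (Subgroup.zpowers y).subtype hχ
  obtain ⟨d, hd⟩ := Core.classInner_isNat h1 (Core.isCharacter_one (G := Subgroup.zpowers y))
  have h2 : ∑ i ∈ Finset.range (orderOf y), χ (y ^ i) =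
      ∑ c : Subgroup.zpowers y, χ (c : G) := by
    rw [← Fin.sum_univ_eq_sum_range (fun i => χ (y ^ i)) (orderOf y)]
    exact Fintype.sum_equiv (finEquivZPowers (isOfFinOrder_of_finite y)) _ _ fun i => by
      rw [finEquivZPowers_apply]
  have hne : (orderOf y : ℂ) ≠ 0 := Nat.cast_ne_zero.2 (orderOf_pos y).ne'
  have h3 : ∑ i ∈ Finset.range (orderOf y), χ (y ^ i) = (orderOf y : ℂ) * d := by
    rw [h2, ← hd, Core.classInner_def, Nat.card_zpowers, ← mul_assoc, mul_inv_cancel₀ hne, one_mul]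
    refine Finset.sum_congr rfl fun c _ => ?_
    simp
  refine ⟨d, ?_, h3⟩
  have h4 : ‖∑ i ∈ Finset.range (orderOf y), χ (y ^ i)‖ ≤ (orderOf y : ℝ) * n := by
    refine (norm_sum_le _ _).trans ?_
    refine (Finset.sum_le_sum fun i _ => norm_le hχ hn (y ^ i)).trans ?_
    rw [Finset.sum_const, Finset.card_range, nsmul_eq_mul]
  rw [h3, norm_mul, Complex.norm_natCast, Complex.norm_natCast] at h4
  have h5 : (0 : ℝ) < orderOf y := by exact_mod_cast orderOf_pos y
  have h6 := le_of_mul_le_mul_left h4 h5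
  exact_mod_cast h6

theorem value_pow {G : Type u} [Group G] {χ : G → ℂ} (hχ : IsCharacter G χ) (x : G)
    {q : ℚ} (hq : χ x = q) {N : ℕ} (hN : N ≠ 0) (hx : x ^ N = 1) {i : ℕ} (hi : i.Coprime N) :
    χ (x ^ i) = χ x := by
  obtain ⟨m, ρ, rfl⟩ := hχ
  obtain ⟨σ, hσ⟩ := Galois.exists_ringEquiv_complex hN hi
  have h1 := Galois.map_character (σ : ℂ →+* ℂ) hN hσ ρ x hx
  rw [← h1, hq]
  simp

/-- The possible values of a rational-valued character at a nontrivial `p`-element. -/
theorem value_eq {G : Type u} [Group G] [Finite G] {p : ℕ} (hp : p.Prime) {χ : G → ℂ}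
    (hχ : IsCharacter G χ) {n : ℕ} (hn : χ 1 = n) (x : G) {k : ℕ} (hx : orderOf x = p ^ (k + 1))
    {q : ℚ} (hq : χ x = q) (hne : χ x ≠ n) :
    ∃ j : ℕ, 1 ≤ j ∧ j ≤ n / (p - 1) ∧ χ x = (n : ℂ) - p * j := by
  classical
  have hfact : Fact p.Prime := ⟨hp⟩
  obtain ⟨a, ha⟩ := exists_int_of_rat (CharactersDeep.AChar.isIntegral_isCharacter hχ x) hq
  -- congruence
  have hcong : (p : ℤ) ∣ a - n := by
    obtain ⟨M, hM⟩ := Blocks.ExistsModular.exists_isPModular hp
    obtain ⟨m, hm, hm2⟩ := CharactersDeep.BrauerLocal.congr_of_mem_achar hp hM.2.1.isPrime hM.2.2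
      (CharactersDeep.AChar.mem_achar_of_isCharacter hχ) x (j := p ^ (k + 1)) (k := k + 1)
      (by rw [← hx, pow_orderOf_eq_one, one_pow])
    rw [← hx, pow_orderOf_eq_one, hn, ha] at hm2
    rw [← Blocks.LocalRing.intCast_mem_iff hM]
    have : ((a - n : ℤ) : AlgInt) = m := by
      apply Subtype.ext
      rw [hm2]
      push_cast
      rfl
    rw [this]
    exact hm
  -- sums
  obtain ⟨d, hd, hsum⟩ := exists_sum_range hχ hn x
  obtain ⟨d', hd', hsum'⟩ := exists_sum_range hχ hn (x ^ p)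
  have hord : orderOf (x ^ p) = p ^ k := by
    rw [orderOf_pow_of_dvd hp.ne_zero (by rw [hx]; exact dvd_pow_self p (by omega)), hx, pow_succ]
    exact Nat.mul_div_cancel _ hp.pos
  rw [hx] at hsum
  rw [hord] at hsum'
  have hpk : (p : ℂ) ^ k ≠ 0 := pow_ne_zero _ (Nat.cast_ne_zero.2 hp.ne_zero)
  have hkey : (p : ℂ) * d = d' + ((p : ℂ) - 1) * a := by
    have h1 := Finset.sum_filter_add_sum_filter_not (Finset.range (p ^ (k + 1))) (fun i => p ∣ i)
      (fun i => χ (x ^ i))
    have h2 : ∑ i ∈ (Finset.range (p ^ (k + 1))).filter (fun i => p ∣ i), χ (x ^ i) =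
        ∑ i ∈ Finset.range (p ^ k), χ ((x ^ p) ^ i) := by
      symm
      refine Finset.sum_bij (fun i _ => p * i) ?_ ?_ ?_ ?_
      · intro i hi
        rw [Finset.mem_filter, Finset.mem_range]
        refine ⟨?_, dvd_mul_right p i⟩
        rw [pow_succ']
        exact Nat.mul_lt_mul_of_pos_left (Finset.mem_range.1 hi) hp.pos
      · intro i _ j _ hij
        exact Nat.eq_of_mul_eq_mul_left hp.pos hij
      · intro i hi
        rw [Finset.mem_filter, Finset.mem_range] at hi
        obtain ⟨hi1, c, rfl⟩ := hi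
        refine ⟨c, ?_, rfl⟩
        rw [pow_succ'] at hi1
        exact Finset.mem_range.2 (Nat.lt_of_mul_lt_mul_left hi1)
      · intro i _
        rw [pow_mul]
    have hcard1 : ((Finset.range (p ^ (k + 1))).filter (fun i => p ∣ i)).card = p ^ k := by
      rw [← Finset.card_range (p ^ k)]
      symm
      refine Finset.card_bij (fun i _ => p * i) ?_ ?_ ?_
      · intro i hi
        rw [Finset.mem_filter, Finset.mem_range]
        refine ⟨?_, dvd_mul_right p i⟩
        rw [pow_succ']
        exact Nat.mul_lt_mul_of_pos_left (Finset.mem_range.1 hi) hp.pos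
      · intro i _ j _ hij
        exact Nat.eq_of_mul_eq_mul_left hp.pos hij
      · intro i hi
        rw [Finset.mem_filter, Finset.mem_range] at hi
        obtain ⟨hi1, c, rfl⟩ := hi
        refine ⟨c, ?_, rfl⟩
        rw [pow_succ'] at hi1
        exact Finset.mem_range.2 (Nat.lt_of_mul_lt_mul_left hi1)
    have hcard : (((Finset.range (p ^ (k + 1))).filter (fun i => ¬ p ∣ i)).card : ℂ) =
        (p : ℂ) ^ (k + 1) - (p : ℂ) ^ k := by
      have h3 := Finset.card_filter_add_card_filter_not (s := Finset.range (p ^ (k + 1)))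
        (fun i => p ∣ i)
      rw [hcard1, Finset.card_range] at h3
      have h4 : ((p ^ k : ℕ) : ℂ) +
          (((Finset.range (p ^ (k + 1))).filter (fun i => ¬ p ∣ i)).card : ℂ) =
          ((p ^ (k + 1) : ℕ) : ℂ) := by exact_mod_cast h3
      push_cast at h4
      rw [← h4]; ring
    have h5 : ∑ i ∈ (Finset.range (p ^ (k + 1))).filter (fun i => ¬ p ∣ i), χ (x ^ i) =
        ((p : ℂ) ^ (k + 1) - (p : ℂ) ^ k) * a := by
      rw [Finset.sum_congr rfl (g := fun _ => (a : ℂ)), Finset.sum_const, nsmul_eq_mul, hcard]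
      intro i hi
      rw [Finset.mem_filter] at hi
      rw [value_pow hχ x hq (N := p ^ (k + 1)) (pow_ne_zero _ hp.ne_zero)
        (by rw [← hx, pow_orderOf_eq_one])
        (Nat.Coprime.pow_right _ ((hp.coprime_iff_not_dvd.2 hi.2).symm)), ha]
    rw [h2, h5, hsum', hsum] at h1
    push_cast at h1
    have h6 : (p : ℂ) ^ k * (d' + ((p : ℂ) - 1) * a) = (p : ℂ) ^ k * (p * d) := by
      rw [pow_succ] at h1
      linear_combination h1
    exact (mul_left_cancel₀ hpk h6).symm
  have hkeyZ : (p : ℤ) * d = d' + ((p : ℤ) - 1) * a := by exact_mod_cast hkey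
  -- upper bound
  have hle : a ≤ n := by
    have h1 := norm_le hχ hn x
    rw [ha, Complex.norm_intCast] at h1
    have h2 : (a : ℝ) ≤ n := (le_abs_self _).trans h1
    exact_mod_cast h2
  have hane : a ≠ n := by
    intro h
    apply hne
    rw [ha, h]
    simp
  obtain ⟨c, hc⟩ := hcong
  have hp2 : (2 : ℤ) ≤ p := by exact_mod_cast hp.two_le
  have hcneg : c < 0 := by
    by_contra hcn
    have hcn' : 0 ≤ c := not_lt.1 hcn
    have : 0 ≤ (p : ℤ) * c := mul_nonneg (by omega) hcn'
    omega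
  obtain ⟨j, hj⟩ : ∃ j : ℕ, (j : ℤ) = -c := ⟨(-c).toNat, by omega⟩
  refine ⟨j, by omega, ?_, ?_⟩
  · have hp1 : 0 < p - 1 := by have := hp.two_le; omega
    rw [Nat.le_div_iff_mul_le hp1]
    have h1 : (p : ℤ) * ((j : ℤ) * ((p : ℤ) - 1)) ≤ (p : ℤ) * n := by
      have h2 : (p : ℤ) * j = n - a := by rw [hj]; linarith
      have h3 : (p : ℤ) * ((j : ℤ) * ((p : ℤ) - 1)) = ((p : ℤ) - 1) * n - ((p : ℤ) - 1) * a := by
        linear_combination ((p : ℤ) - 1) * h2
      have h4 : (0 : ℤ) ≤ (p : ℤ) * d := by positivity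
      have h5 : (d' : ℤ) ≤ n := by exact_mod_cast hd'
      rw [h3]
      linarith
    have h2 := le_of_mul_le_mul_left h1 (by omega)
    have h3 : ((p - 1 : ℕ) : ℤ) = (p : ℤ) - 1 := by
      have := hp.two_le
      omega
    rw [← h3] at h2
    exact_mod_cast h2
  · have h1 : (a : ℂ) = (n : ℂ) + (p : ℂ) * c := by
      have : a = n + (p : ℤ) * c := by linarith
      exact_mod_cast this
    have h2 : (j : ℂ) = -(c : ℂ) := by exact_mod_cast hj
    rw [ha, h1, h2]
    ring

theorem isGeneralizedCharacter_sub_const {G : Type u} [Group G] {χ : G → ℂ}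
    (hχ : IsCharacter G χ) (n k : ℕ) :
    IsGeneralizedCharacter G (fun x => χ x - ((n : ℂ) - k)) := by
  refine ⟨χ + k • (1 : G → ℂ), n • (1 : G → ℂ),
    Core.isCharacter_add hχ (Core.isCharacter_nsmul k Core.isCharacter_one),
    Core.isCharacter_nsmul n Core.isCharacter_one, ?_⟩
  funext x
  show χ x - ((n : ℂ) - k) = χ x + (k • (1 : G → ℂ)) x - (n • (1 : G → ℂ)) x
  rw [Pi.smul_apply, Pi.smul_apply, Pi.one_apply, nsmul_eq_mul, nsmul_eq_mul]
  ring

theorem isGeneralizedCharacter_prod {G : Type u} [Group G] {ι : Type*} (s : Finset ι)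
    (f : ι → G → ℂ) (hf : ∀ i ∈ s, IsGeneralizedCharacter G (f i)) :
    IsGeneralizedCharacter G (fun x => ∏ i ∈ s, f i x) := by
  classical
  induction s using Finset.induction_on with
  | empty =>
    simp only [Finset.prod_empty]
    exact Brauer.isGeneralizedCharacter_of_isCharacter Core.isCharacter_one
  | insert i s hi ih =>
    have h1 : (fun x => ∏ j ∈ insert i s, f j x) = f i * fun x => ∏ j ∈ s, f j x := by
      funext x
      rw [Finset.prod_insert hi]
      rfl
    rw [h1]
    exact Brauer.isGeneralizedCharacter_mul (hf i (Finset.mem_insert_self i s))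
      (ih fun j hj => hf j (Finset.mem_insert_of_mem hj))

/-- **Schur's bound**, for a `p`-group with a faithful rational-valued character. -/
theorem card_dvd {P : Type u} [Group P] [Finite P] {p : ℕ} (hp : p.Prime) (hP : IsPGroup p P)
    {χ : P → ℂ} (hχ : IsCharacter P χ) {n : ℕ} (hn : χ 1 = n)
    (hrat : ∀ x, ∃ q : ℚ, χ x = q) (hfaith : ∀ x, χ x = n → x = 1) :
    Nat.card P ∣ p ^ (n / (p - 1)) * (n / (p - 1)).factorial := by
  classical
  have : Fact p.Prime := ⟨hp⟩
  have := Fintype.ofFinite P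
  set m := n / (p - 1) with hm
  have hgen : IsGeneralizedCharacter P
      (fun x => ∏ j ∈ Finset.range m, (χ x - ((n : ℂ) - (p * (j + 1) : ℕ)))) :=
    isGeneralizedCharacter_prod (Finset.range m)
      (fun j x => χ x - ((n : ℂ) - (p * (j + 1) : ℕ)))
      (fun j _ => isGeneralizedCharacter_sub_const hχ n (p * (j + 1)))
  obtain ⟨z, hz⟩ := exists_int_sum hgen
  rw [Finset.sum_eq_single_of_mem (1 : P) (Finset.mem_univ _)] at hz
  · have h1 : ∏ j ∈ Finset.range m, (χ 1 - ((n : ℂ) - (p * (j + 1) : ℕ))) =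
        ((p ^ m * m.factorial : ℕ) : ℂ) := by
      rw [Finset.prod_congr rfl (g := fun j : ℕ => (p : ℂ) * ((j : ℂ) + 1))]
      · rw [Finset.prod_mul_distrib, Finset.prod_const, Finset.card_range, Nat.cast_mul,
          Nat.cast_pow]
        congr 1
        rw [← Finset.prod_range_add_one_eq_factorial]
        push_cast
        rfl
      · intro j _
        rw [hn]
        push_cast
        ring
    rw [h1] at hz
    have h2 : ((p ^ m * m.factorial : ℕ) : ℤ) = (Nat.card P : ℤ) * z := by exact_mod_cast hz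
    have h3 : (Nat.card P : ℤ) ∣ ((p ^ m * m.factorial : ℕ) : ℤ) := ⟨z, h2⟩
    exact_mod_cast h3
  · intro x _ hx
    obtain ⟨k, hk⟩ := (IsPGroup.iff_orderOf.1 hP) x
    have hk0 : k ≠ 0 := by
      rintro rfl
      rw [pow_zero, orderOf_eq_one_iff] at hk
      exact hx hk
    obtain ⟨k, rfl⟩ := Nat.exists_eq_succ_of_ne_zero hk0
    obtain ⟨q, hq⟩ := hrat x
    obtain ⟨j, hj1, hj2, hj3⟩ := value_eq hp hχ hn x hk hq (fun h => hx (hfaith x h))
    apply Finset.prod_eq_zero (i := j - 1)
    · rw [Finset.mem_range]; omega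
    · have : j - 1 + 1 = j := by omega
      rw [this, hj3]
      push_cast
      ring

/-- **Schur's bound**: the order of a `p`-subgroup of a finite group `G` with a faithful rational-valued character. -/
theorem card_subgroup_dvd {G : Type u} [Group G] [Finite G] {p : ℕ} (hp : p.Prime)
    {χ : G → ℂ} (hχ : IsCharacter G χ) {n : ℕ} (hn : χ 1 = n) (P : Subgroup G) (hP : IsPGroup p P)
    (hrat : ∀ x ∈ P, ∃ q : ℚ, χ x = q) (hfaith : ∀ x ∈ P, χ x = n → x = 1) :
    Nat.card P ∣ p ^ (n / (p - 1)) * (n / (p - 1)).factorial := by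
  refine card_dvd hp hP (χ := fun x : P => χ (P.subtype x)) (Core.isCharacter_comp P.subtype hχ)
    (n := n) ?_ (fun x => hrat x x.2) (fun x hx => Subtype.ext (hfaith x x.2 hx))
  simpa using hn

/-- **Schur's bound**: `|G|_p ≤ p ^ (m + v_p(m!))`, `m = n / (p - 1)`. -/
theorem factorization_le {G : Type u} [Group G] [Finite G] {p : ℕ} (hp : p.Prime)
    {χ : G → ℂ} (hχ : IsCharacter G χ) {n : ℕ} (hn : χ 1 = n)
    (hrat : ∀ x, ∃ q : ℚ, χ x = q) (hfaith : ∀ x, χ x = n → x = 1) :
    (Nat.card G).factorization p ≤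
      n / (p - 1) + ((n / (p - 1)).factorial).factorization p := by
  have : Fact p.Prime := ⟨hp⟩
  obtain ⟨P⟩ : Nonempty (Sylow p G) := inferInstance
  have h1 := card_subgroup_dvd hp hχ hn (P : Subgroup G) P.isPGroup' (fun x _ => hrat x)
    (fun x _ => hfaith x)
  rw [P.card_eq_multiplicity] at h1
  have hne : p ^ (n / (p - 1)) * (n / (p - 1)).factorial ≠ 0 :=
    mul_ne_zero (pow_ne_zero _ hp.ne_zero) (Nat.factorial_ne_zero _)
  have h2 := (hp.pow_dvd_iff_le_factorization hne).1 h1
  rw [Nat.factorization_mul (pow_ne_zero _ hp.ne_zero) (Nat.factorial_ne_zero _),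
    Finsupp.add_apply, hp.factorization_pow, Finsupp.single_eq_same] at h2
  exact h2

end Cfsg.Agent.Characters.SchurBound
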